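import Mathlib.AlgebraicGeometry.Noetherian
import Mathlib.AlgebraicGeometry.Properties
import Mathlib.Topology.Sober

/-!
Maximal points (generic points of irreducible components) of locally noetherian schemes.
-/

universe u

open AlgebraicGeometry TopologicalSpace

namespace Groth.Agent.Lib.ActSep.MaxPt

/-- A point is maximal when it has no proper generalisation. -/
def IsMaxPt {α : Type*} [TopologicalSpace α] (x : α) : Prop := ∀ y, y ⤳ x → y = x

theorem exists_isMaxPt (X : Scheme.{u}) (x : X) : ∃ η : X, IsMaxPt η ∧ η ⤳ x := by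
  have hZ := irreducibleComponent_mem_irreducibleComponents x
  have hg := hZ.1.isGenericPoint_genericPoint (isClosed_of_mem_irreducibleComponents _ hZ)
  refine ⟨hZ.1.genericPoint, fun y hy => ?_, hg.specializes mem_irreducibleComponent⟩
  have hsub : irreducibleComponent x ⊆ closure {y} := by
    rw [← hg.def]
    exact closure_minimal (Set.singleton_subset_iff.2 (specializes_iff_mem_closure.1 hy)) isClosed_closure
  have hge := hZ.2 (isIrreducible_singleton.closure) hsub
  exact (hy.antisymm (hg.specializes (hge (subset_closure rfl)))).eq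

theorem isMaxPt_homeo {α β : Type*} [TopologicalSpace α] [TopologicalSpace β] (e : α ≃ₜ β) {x : α}
    (hx : IsMaxPt x) : IsMaxPt (e x) := by
  intro y hy
  have h := hy.map e.symm.continuous
  rw [e.symm_apply_apply] at h
  rw [← hx _ h, e.apply_symm_apply]

theorem exists_open_subset_closure {X : Scheme.{u}} [IsLocallyNoetherian X] {η : X} (hη : IsMaxPt η) :
    ∃ V : Set X, IsOpen V ∧ η ∈ V ∧ V ⊆ closure {η} := by
  obtain ⟨U, hU, hηU, -⟩ := exists_isAffineOpen_mem_and_subset (U := ⊤) (x := η) trivial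
  have : IsNoetherianRing Γ(X, U) := IsLocallyNoetherian.component_noetherian ⟨U, hU⟩
  have : NoetherianSpace U.1 := noetherianSpace_of_isAffineOpen U hU
  let comps : Set (Set U.1) := {Z | Z ∈ irreducibleComponents U.1 ∧ (⟨η, hηU⟩ : U.1) ∉ Z}
  have hfin : comps.Finite :=
    TopologicalSpace.NoetherianSpace.finite_irreducibleComponents.subset fun Z hZ => hZ.1
  refine ⟨Subtype.val '' (⋃₀ comps)ᶜ, ?_, ⟨⟨η, hηU⟩, fun ⟨Z, hZ, h⟩ => hZ.2 h, rfl⟩, ?_⟩
  · refine U.2.isOpenMap_subtype_val _ ?_
    rw [Set.sUnion_eq_biUnion]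
    exact (hfin.isClosed_biUnion fun Z hZ => isClosed_of_mem_irreducibleComponents Z hZ.1).isOpen_compl
  · rintro _ ⟨⟨x, hxU⟩, hx, rfl⟩
    let Z := irreducibleComponent (⟨x, hxU⟩ : U.1)
    have hZ := irreducibleComponent_mem_irreducibleComponents (⟨x, hxU⟩ : U.1)
    have hηZ : (⟨η, hηU⟩ : U.1) ∈ Z := by
      by_contra h
      exact hx ⟨Z, ⟨hZ, h⟩, mem_irreducibleComponent⟩
    have hirr : IsIrreducible (closure (Subtype.val '' Z)) :=
      (hZ.1.image _ continuous_subtype_val.continuousOn).closure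
    have hg := hirr.isGenericPoint_genericPoint isClosed_closure
    have := hη _ (hg.specializes (subset_closure ⟨_, hηZ, rfl⟩))
    rw [← this, hg.def]
    exact subset_closure ⟨_, mem_irreducibleComponent, rfl⟩

theorem mem_of_dense {X : Scheme.{u}} [IsLocallyNoetherian X] {U : Set X} (hU : IsOpen U)
    (hd : Dense U) {η : X} (hη : IsMaxPt η) : η ∈ U := by
  obtain ⟨V, hV, hηV, hsub⟩ := exists_open_subset_closure hη
  obtain ⟨p, hpV, hpU⟩ := hd.inter_open_nonempty V hV ⟨η, hηV⟩
  exact (specializes_iff_mem_closure.2 (hsub hpV)).mem_open hU hpU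

end Groth.Agent.Lib.ActSep.MaxPt
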