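import Groth.Agent.Lib.ActSep.Orbit

/-!
In a homogeneous space with quasi-separated connected fibres every maximal point of a geometric fibre lies
over every open set meeting the fibre.
-/

universe u

open CategoryTheory Limits MonoidalCategory CartesianMonoidalCategory MonObj AlgebraicGeometry

namespace Groth.Agent.Lib.ActSep

open Groth.Agent.Lib.GrpSch Groth.Agent.Lib.ActSep.MaxPt

variable {S : Scheme.{u}} {G X : Over S} [GrpObj G] {K : Type u} [Field K] [IsAlgClosed K]
  [LocallyOfFiniteType G.hom]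

theorem exists_satW_eq_univ (a : AlgGrp.Action G X) (hΦ : Surjective (lift a.act (snd G X)).left)
    (hqs : ∀ s : S, QuasiSeparatedSpace ↥(X.hom ⁻¹' {s}))
    (hconn : ∀ s : S, _root_.IsPreconnected (X.hom ⁻¹' {s}))
    (t : Spec (CommRingCat.of K) ⟶ S) (x : Over.mk t ⟶ X) (U : X.left.Opens)
    (hne : ((U : Set X.left) ∩ X.hom ⁻¹' {t (IsLocalRing.closedPoint K)}).Nonempty) :
    ∃ W : (X ⊗ Over.mk t).left.Opens, IsCompact (W : Set (X ⊗ Over.mk t).left) ∧
      W ≤ (fst X (Over.mk t)).left ⁻¹ᵁ U ∧ satW t (W : Set (X ⊗ Over.mk t).left) = Set.univ := by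
  obtain ⟨⟨s, φ⟩, rfl⟩ := (Scheme.SpecToEquivOfField K S).symm.surjective t
  set t₀ : Spec (CommRingCat.of K) ⟶ Spec (S.residueField s) := Spec.map φ
  set t := (Scheme.SpecToEquivOfField K S).symm ⟨s, φ⟩
  have ht : t = t₀ ≫ S.fromSpecResidueField s := rfl
  have hs : t (IsLocalRing.closedPoint K) = s := by
    rw [ht, Scheme.Hom.comp_apply, Scheme.fromSpecResidueField_apply]
  rw [hs] at hne
  let F := X.hom.fiber s
  let q : (X ⊗ Over.mk t).left ⟶ F :=
    pullback.lift (fst X (Over.mk t)).left ((snd X (Over.mk t)).left ≫ t₀) (by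
      rw [Category.assoc]
      exact pullback.condition)
  have hq₁ : q ≫ X.hom.fiberι s = (fst X (Over.mk t)).left := pullback.lift_fst _ _ _
  have hq : IsPullback q (snd X (Over.mk t)).left (X.hom.fiberToSpecResidueField s) t₀ := by
    refine IsPullback.of_right ?_ (pullback.lift_snd _ _ _)
      (IsPullback.of_hasPullback X.hom (S.fromSpecResidueField s))
    rw [show q ≫ pullback.fst X.hom (S.fromSpecResidueField s) = (fst X (Over.mk t)).left from pullback.lift_fst _ _ _]
    exact isPullback_left X (Over.mk t)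
  have hflat : Flat t₀ := by
    let := φ.hom.toAlgebra
    rw [show t₀ = Spec.map φ from rfl, HasRingHomProperty.Spec_iff (P := @Flat)]
    show Module.Flat (S.residueField s) K
    infer_instance
  have : IsAffineHom t₀ := by rw [show t₀ = Spec.map φ from rfl]; infer_instance
  have : Surjective t₀ := ⟨fun y => ⟨IsLocalRing.closedPoint K, Subsingleton.elim _ _⟩⟩
  have : Flat q := MorphismProperty.of_isPullback (P := @Flat) hq.flip hflat
  have : Surjective q := MorphismProperty.of_isPullback (P := @Surjective) hq.flip inferInstance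
  have : UniversallyOpen q := MorphismProperty.of_isPullback (P := @UniversallyOpen) hq.flip inferInstance
  have : IsAffineHom q := MorphismProperty.of_isPullback (P := @IsAffineHom) hq.flip inferInstance
  have : QuasiSeparatedSpace F := by
    have := hqs s
    exact (quasiSeparatedSpace_congr (X.hom.fiberHomeo s)).2 this
  have : QuasiSeparatedSpace (X ⊗ Over.mk t).left := quasiSeparatedSpace_of_quasiSeparated q
  have : PreconnectedSpace F := by
    have h1 : PreconnectedSpace ↥(X.hom ⁻¹' {s}) := Subtype.preconnectedSpace (hconn s)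
    constructor
    have := h1.isPreconnected_univ.image _ (X.hom.fiberHomeo s).symm.continuous.continuousOn
    rwa [Set.image_univ, (X.hom.fiberHomeo s).symm.surjective.range_eq] at this
  obtain ⟨y, hyU, hys⟩ := hne
  obtain ⟨w, hw⟩ : y ∈ Set.range (X.hom.fiberι s) := by rw [Scheme.Hom.range_fiberι]; exact hys
  obtain ⟨W, hW, hwW, hWU⟩ := exists_isAffineOpen_mem_and_subset
    (U := X.hom.fiberι s ⁻¹ᵁ U) (x := w) (show X.hom.fiberι s w ∈ U by rw [hw]; exact hyU)
  let WT : (X ⊗ Over.mk t).left.Opens := q ⁻¹ᵁ W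
  have hWTc : IsCompact (WT : Set (X ⊗ Over.mk t).left) := q.isCompact_preimage hW.isCompact
  refine ⟨WT, hWTc, fun z hz => ?_, ?_⟩
  · show (fst X (Over.mk t)).left z ∈ U
    rw [← hq₁, Scheme.Hom.comp_apply]
    exact hWU hz
  let Sat := satW t (WT : Set (X ⊗ Over.mk t).left)
  have hopen : IsOpen Sat := isOpen_satW t a hΦ x WT.2
  have hcl : IsClosed Sat := isClosed_of_isCompact_of_specializing hopen
    (isCompact_satW t a hΦ x WT hWTc) (stableUnderSpecialization_satW t a hΦ x _)
  have hmax : ∀ η' : (X ⊗ Over.mk t).left, IsMaxPt η' → IsMaxPt (q η') := by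
    intro η' hη y hy
    obtain ⟨y', hy', rfl⟩ := Flat.generalizingMap q hy
    rw [hη y' hy']
  have hdisj : Disjoint (q '' Sat) (q '' Satᶜ) := by
    rw [Set.disjoint_left]
    rintro _ ⟨z₁, hz₁, rfl⟩ ⟨z₂, hz₂, he⟩
    refine hz₂ fun η₂ hη₂ hsp₂ => ?_
    obtain ⟨η₁, hη₁, hsp₁⟩ := exists_isMaxPt (X ⊗ Over.mk t).left z₁
    have h1 := hsp₁.map q.continuous
    rw [← he] at h1
    obtain ⟨η', hη', he'⟩ := Flat.generalizingMap q h1
    obtain ⟨η₃, hη₃, hsp₃⟩ := exists_isMaxPt (X ⊗ Over.mk t).left η'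
    have h3 := hsp₃.map q.continuous
    rw [he'] at h3
    rw [maxPt_unique_X t a hΦ x hη₂ hη₃ hsp₂ (hsp₃.trans hη')]
    show q η₃ ∈ W
    rw [hmax η₁ hη₁ _ h3]
    exact hz₁ η₁ hη₁ hsp₁
  have hclopen : IsClopen (q '' Sat) := by
    refine ⟨?_, q.isOpenMap _ hopen⟩
    have : q '' Sat = (q '' Satᶜ)ᶜ := by
      refine Set.Subset.antisymm (fun z hz hz' => Set.disjoint_left.1 hdisj hz hz') fun z hz => ?_
      obtain ⟨z', rfl⟩ := q.surjective z
      by_contra h
      exact hz ⟨z', fun hz' => h ⟨z', hz', rfl⟩, rfl⟩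
    rw [this]
    exact (q.isOpenMap _ hcl.isOpen_compl).isClosed_compl
  obtain ⟨w', hw'⟩ := q.surjective w
  have hmem : w' ∈ Sat := fun η' hη hsp => hsp.mem_open WT.2 (show q w' ∈ W by rw [hw']; exact hwW)
  have huniv := hclopen.eq_univ ⟨_, w', hmem, rfl⟩
  refine Set.eq_univ_of_forall fun z => ?_
  by_contra hz
  exact Set.disjoint_left.1 hdisj (huniv ▸ Set.mem_univ (q z)) ⟨z, hz, rfl⟩

/-- Compactness of a product of compact opens lying over an affine open. -/
theorem isCompact_prod {S : Scheme.{u}} (A B : Over S) {S₀ : S.Opens} (hS₀ : IsAffineOpen S₀)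
    (a : A.left.Opens) (b : B.left.Opens) (ha : IsCompact (a : Set A.left))
    (hb : IsCompact (b : Set B.left)) (haS : a ≤ A.hom ⁻¹ᵁ S₀) (hbS : b ≤ B.hom ⁻¹ᵁ S₀) :
    IsCompact ((fst A B).left ⁻¹' (a : Set A.left) ∩ (snd A B).left ⁻¹' (b : Set B.left)) := by
  let f : (a : Scheme.{u}) ⟶ S₀ := IsOpenImmersion.lift S₀.ι (a.ι ≫ A.hom) (by
    rintro _ ⟨z, rfl⟩; rw [Scheme.Opens.range_ι]; exact haS z.2)
  let g : (b : Scheme.{u}) ⟶ S₀ := IsOpenImmersion.lift S₀.ι (b.ι ≫ B.hom) (by
    rintro _ ⟨z, rfl⟩; rw [Scheme.Opens.range_ι]; exact hbS z.2)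
  have : IsAffine (S₀ : Scheme.{u}) := hS₀
  have : CompactSpace ↥(a : Scheme.{u}) := isCompact_iff_compactSpace.1 ha
  have : CompactSpace ↥(b : Scheme.{u}) := isCompact_iff_compactSpace.1 hb
  have : QuasiCompact f := (HasAffineProperty.iff_of_isAffine (P := @QuasiCompact)).2 ‹CompactSpace ↥(a : Scheme.{u})›
  have : CompactSpace ↥(pullback f g) := QuasiCompact.compactSpace_of_compactSpace (pullback.snd f g)
  let m : pullback f g ⟶ (A ⊗ B).left := pullback.map f g A.hom B.hom a.ι b.ι S₀.ι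
    (IsOpenImmersion.lift_fac _ _ _) (IsOpenImmersion.lift_fac _ _ _)
  have h : Set.range m = (fst A B).left ⁻¹' (a : Set A.left) ∩ (snd A B).left ⁻¹' (b : Set B.left) := by
    simp only [m]
    rw [Scheme.Pullback.range_map, Scheme.Opens.range_ι, Scheme.Opens.range_ι]
    rfl
  rw [← h]
  exact isCompact_range m.continuous

end Groth.Agent.Lib.ActSep
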