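import Groth.Agent.Lib.ActSep.FullSet
import Groth.Agent.Lib.ActSep.Fibre
import Groth.Agent.H46.GeomSpread.SectionCons
import Groth.Agent.Lib.AlgSpMor.Cancel
import Groth.Prelude.Def_ProCons

/-!
The union of the neutral components of the fibres is constructible.
-/

set_option autoImplicit false
set_option backward.isDefEq.respectTransparency false
set_option backward.isDefEq.respectTransparency.types false

universe u

open CategoryTheory Limits MonoidalCategory CartesianMonoidalCategory MonObj AlgebraicGeometry Topology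

namespace Groth.Agent.Lib.ActSep

open Groth.Agent.Lib.GrpSch

variable {S : Scheme.{u}} (G : Over S) [GrpObj G]

/-- The neutral set is stable under specialisations and generalisations inside a fibre. -/
theorem mem_neutralSet_iff_of_specializes {a b : G.left} (h : a ⤳ b) (hab : G.hom a = G.hom b) :
    a ∈ SGA3x.neutralSet G ↔ b ∈ SGA3x.neutralSet G := by
  have hpc : _root_.IsPreconnected ({a, b} : Set G.left) :=
    isPreconnected_singleton.subset_closure (t := {a, b}) (by simp) (Set.insert_subset_iff.2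
      ⟨subset_closure rfl, Set.singleton_subset_iff.2 h.mem_closure⟩)
  have hsub : ({a, b} : Set G.left) ⊆ G.hom ⁻¹' {G.hom b} := by
    rintro x (rfl | rfl)
    · exact hab
    · rfl
  rw [mem_neutralSet_iff, mem_neutralSet_iff, hab]
  constructor <;> intro hc
  all_goals
    rw [connectedComponentIn_eq hc]
  · exact hpc.subset_connectedComponentIn (by simp) hsub (by simp)
  · exact hpc.subset_connectedComponentIn (by simp) hsub (by simp)

theorem hom_η (p : S) : G.hom (η[G].left p) = p := by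
  rw [← Scheme.Hom.comp_apply, η_left_comp_hom]; rfl

theorem η_mem_neutralSet (p : S) : η[G].left p ∈ SGA3x.neutralSet G := by
  rw [mem_neutralSet_iff, hom_η]
  exact mem_connectedComponentIn (hom_η G p)

theorem left_one_apply {T : Over S} (x : T.left) : (1 : T ⟶ G).left x = η[G].left (T.hom x) := by
  rw [Hom.one_def, Over.comp_left, Scheme.Hom.comp_apply]
  congr 1

/-- The division morphism. -/
noncomputable abbrev divMap : G ⊗ G ⟶ G := fst G G * (snd G G)⁻¹

/-- The neutral set is stable under division. -/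
theorem divMap_mem {z : (G ⊗ G).left} (h1 : (fst G G).left z ∈ SGA3x.neutralSet G)
    (h2 : (snd G G).left z ∈ SGA3x.neutralSet G) : (divMap G).left z ∈ SGA3x.neutralSet G := by
  set y := (snd G G).left z
  have hhom : ∀ (f : G ⊗ G ⟶ G) (w : (G ⊗ G).left), G.hom (f.left w) = G.hom ((snd G G).left w) := fun f w => by
    rw [← Scheme.Hom.comp_apply, ← Scheme.Hom.comp_apply, Over.w, Over.w]
  let z' := (lift (1 : G ⟶ G) (𝟙 G)).left y
  have e1 : (snd G G).left z' = y := by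
    rw [← Scheme.Hom.comp_apply, ← Over.comp_left, lift_snd]; rfl
  have e2 : (fst G G).left z' = η[G].left (G.hom y) := by
    rw [← Scheme.Hom.comp_apply, ← Over.comp_left, lift_fst]; exact left_one_apply G y
  have e3 : (divMap G).left z' = ι[G].left y := by
    rw [← Scheme.Hom.comp_apply, ← Over.comp_left,
      show lift (1 : G ⟶ G) (𝟙 G) ≫ divMap G = ι[G] by simp [divMap, MonObj.comp_mul, GrpObj.comp_inv, Hom.inv_def]]
  have h3 := genPt_specializes G G (z := z') (e2 ▸ η_mem_neutralSet G _)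
  rw [e1] at h3
  have hg : G.hom ((divMap G).left (genPt G G y)) = G.hom y := by rw [hhom, snd_genPt]
  have h4 : (divMap G).left (genPt G G y) ∈ SGA3x.neutralSet G :=
    (mem_neutralSet_iff_of_specializes G (h3.map (divMap G).left.continuous)
      (by rw [hg, hhom (divMap G), e1])).2 (e3 ▸ inv_mem_neutralSet G h2)
  exact (mem_neutralSet_iff_of_specializes G ((genPt_specializes G G h1).map (divMap G).left.continuous)
    (by rw [hhom (divMap G), hhom (divMap G), snd_genPt])).1 h4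

/-- A point of the neutral set is a quotient of two points of the neutral set in any open around the unit. -/
theorem exists_pair (O : G.left.Opens) {g : G.left} (hO : η[G].left (G.hom g) ∈ O)
    (hg : g ∈ SGA3x.neutralSet G) :
    ∃ z : (G ⊗ G).left, ((fst G G).left z ∈ O ∧ (fst G G).left z ∈ SGA3x.neutralSet G) ∧
      ((snd G G).left z ∈ O ∧ (snd G G).left z ∈ SGA3x.neutralSet G) ∧ (divMap G).left z = g := by
  let w := genPt G G g
  let Φ : G ⊗ G ⟶ G ⊗ G := lift (snd G G * fst G G) (fst G G)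
  have hP : ∀ v, (fst G G).left (Φ.left v) = (snd G G * fst G G).left v := fun v => by
    rw [← Scheme.Hom.comp_apply, ← Over.comp_left, lift_fst]
  have hQ : ∀ v, (snd G G).left (Φ.left v) = (fst G G).left v := fun v => by
    rw [← Scheme.Hom.comp_apply, ← Over.comp_left, lift_snd]
  have hw : ∀ (c : G ⟶ G), (c.left g ∈ SGA3x.neutralSet G) → w ⤳ (lift c (𝟙 G)).left g := fun c hc => by
    have e1 : (snd G G).left ((lift c (𝟙 G)).left g) = g := by
      rw [← Scheme.Hom.comp_apply, ← Over.comp_left, lift_snd]; rfl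
    have := genPt_specializes G G (z := (lift c (𝟙 G)).left g) (by
      rw [← Scheme.Hom.comp_apply, ← Over.comp_left, lift_fst]; exact hc)
    rwa [e1] at this
  have h1 := hw 1 (by rw [left_one_apply]; exact η_mem_neutralSet G _)
  have h2 := hw ι[G] (inv_mem_neutralSet G hg)
  refine ⟨Φ.left w, ⟨?_, ?_⟩, ⟨?_, ?_⟩, ?_⟩
  · rw [hP]
    refine (h2.map (snd G G * fst G G).left.continuous).mem_open O.2 ?_
    rw [← Scheme.Hom.comp_apply, ← Over.comp_left,
      show lift ι[G] (𝟙 G) ≫ (snd G G * fst G G) = 1 by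
        rw [MonObj.comp_mul, lift_fst, lift_snd, ← mul_inv_cancel (𝟙 G)]; rw [Hom.inv_def, Category.id_comp],
      left_one_apply]
    exact hO
  · rw [hP]
    refine (mem_neutralSet_iff_of_specializes G (h1.map (snd G G * fst G G).left.continuous) ?_).2 ?_
    · have hh : ∀ (f : G ⊗ G ⟶ G) (v : (G ⊗ G).left), G.hom (f.left v) = G.hom ((snd G G).left v) := fun f v => by
        rw [← Scheme.Hom.comp_apply, ← Scheme.Hom.comp_apply, Over.w, Over.w]
      have e : (snd G G).left ((lift (1 : G ⟶ G) (𝟙 G)).left g) = g := by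
        rw [← Scheme.Hom.comp_apply, ← Over.comp_left, lift_snd]; rfl
      rw [hh (snd G G * fst G G), hh (snd G G * fst G G), snd_genPt, e]
    · rw [← Scheme.Hom.comp_apply, ← Over.comp_left,
        show lift (1 : G ⟶ G) (𝟙 G) ≫ (snd G G * fst G G) = 𝟙 G by
          rw [MonObj.comp_mul, lift_fst, lift_snd, _root_.mul_one]]
      exact hg
  · rw [hQ]
    refine (h1.map (fst G G).left.continuous).mem_open O.2 ?_
    rw [← Scheme.Hom.comp_apply, ← Over.comp_left, lift_fst, left_one_apply]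
    exact hO
  · rw [hQ]; exact fst_genPt_mem G G g
  · rw [← Scheme.Hom.comp_apply, ← Over.comp_left,
      show Φ ≫ divMap G = snd G G by simp [Φ, divMap, MonObj.comp_mul, GrpObj.comp_inv]]
    exact snd_genPt G G g

/-- Inside an open containing the unit the neutral component is connected. -/
theorem isPreconnected_inter_neutralSet (O : G.left.Opens) (s : S) :
    _root_.IsPreconnected ((O : Set G.left) ∩ (SGA3x.neutralSet G ∩ G.hom ⁻¹' {s})) := by
  have e : G.hom.fiberι s '' (closure {genOne G (S.fromSpecResidueField s)} :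
      Set (G ⊗ Over.mk (S.fromSpecResidueField s)).left) = SGA3x.neutralSet G ∩ G.hom ⁻¹' {s} := by
    rw [← neutralSet_fibre G s, Set.image_preimage_eq_inter_range, Scheme.Hom.range_fiberι]
  have h : IsPreirreducible (SGA3x.neutralSet G ∩ G.hom ⁻¹' {s}) :=
    e ▸ (isIrreducible_singleton.closure.isPreirreducible.image _ (G.hom.fiberι s).continuous.continuousOn)
  refine IsPreirreducible.isPreconnected ?_
  rintro u v hu hv ⟨a, ⟨haO, ha⟩, hau⟩ ⟨b, ⟨hbO, hb⟩, hbv⟩
  obtain ⟨c, hc, hcu, hcv⟩ := h _ _ (O.2.inter hu) (O.2.inter hv) ⟨a, ha, haO, hau⟩ ⟨b, hb, hbO, hbv⟩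
  exact ⟨c, ⟨hcu.1, hc⟩, hcu.2, hcv.2⟩

variable [LocallyOfFinitePresentation G.hom]

/-- Near every point of the base the neutral set is the image of a constructible set by a morphism from
an affine scheme. -/
theorem exists_cover (s : S) : ∃ A : S.Opens, IsAffineOpen A ∧ s ∈ A ∧ ∃ (PP : Scheme.{u}) (_ : IsAffine PP)
    (ψ : PP ⟶ G.left), LocallyOfFinitePresentation ψ ∧ (∀ p, G.hom (ψ p) ∈ A) ∧ ∃ P : Set PP, IsConstructible P ∧
      ψ '' P = SGA3x.neutralSet G ∩ G.hom ⁻¹' (A : Set S) := by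
  obtain ⟨A₁, hA₁, hsA₁, -⟩ := exists_isAffineOpen_mem_and_subset (U := ⊤) (x := s) trivial
  obtain ⟨U₀, hU₀, hηU₀, hU₀A⟩ := exists_isAffineOpen_mem_and_subset
    (U := G.hom ⁻¹ᵁ A₁) (x := η[G].left s) (show G.hom (η[G].left s) ∈ A₁ by rwa [hom_η])
  obtain ⟨c, hcU, hsc⟩ := hA₁.exists_basicOpen_le (V := η[G].left ⁻¹ᵁ U₀) ⟨s, hηU₀⟩ hsA₁
  let A := S.basicOpen c
  have hA : IsAffineOpen A := hA₁.basicOpen c
  let O := U₀ ⊓ G.hom ⁻¹ᵁ A
  have hO : IsAffineOpen O := by
    have : O = G.left.basicOpen ((G.hom.appLE A₁ U₀ hU₀A).hom c) := by rw [Scheme.basicOpen_appLE]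
    rw [this]; exact hU₀.basicOpen _
  have hηO : ∀ p ∈ A, η[G].left p ∈ O := fun p hp => ⟨hcU hp, show G.hom _ ∈ A by rwa [hom_η]⟩
  have : IsAffine (O : Scheme.{u}) := hO
  have : IsAffine (A : Scheme.{u}) := hA
  let f₀ : (O : Scheme.{u}) ⟶ A := IsOpenImmersion.lift A.ι (O.ι ≫ G.hom) (by
    rintro _ ⟨z, rfl⟩; rw [Scheme.Opens.range_ι]; exact z.2.2)
  have hf₀ : f₀ ≫ A.ι = O.ι ≫ G.hom := IsOpenImmersion.lift_fac _ _ _
  have hf₀a : ∀ v, (f₀ v).1 = G.hom v.1 := fun v => congrArg (fun φ : (O : Scheme.{u}) ⟶ S => φ v) hf₀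
  let σ : (A : Scheme.{u}) ⟶ O := IsOpenImmersion.lift O.ι (A.ι ≫ η[G].left) (by
    rintro _ ⟨p, rfl⟩; rw [Scheme.Opens.range_ι]; exact hηO _ p.2)
  have hσ : σ ≫ O.ι = A.ι ≫ η[G].left := IsOpenImmersion.lift_fac _ _ _
  have hσa : ∀ p, (σ p).1 = η[G].left p.1 := fun p => congrArg (fun φ : (A : Scheme.{u}) ⟶ G.left => φ p) hσ
  have hσf : σ ≫ f₀ = 𝟙 _ := by
    rw [← cancel_mono A.ι, Category.assoc, hf₀, reassoc_of% hσ, η_left_comp_hom]
    exact (Category.comp_id _).trans (Category.id_comp _).symm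
  have : LocallyOfFinitePresentation (f₀ ≫ A.ι) := by rw [hf₀]; infer_instance
  have : LocallyOfFinitePresentation f₀ :=
    Groth.Agent.Lib.AlgSpMor.Cancel.locallyOfFinitePresentation_of_comp (g := A.ι) ‹_› inferInstance
  have : QuasiCompact f₀ := inferInstance
  have : QuasiSeparated f₀ := inferInstance
  have hsec : MoreMor.sectionComponents f₀ σ = O.ι ⁻¹' SGA3x.neutralSet G := by
    ext v
    have hfib : Subtype.val '' (f₀ ⁻¹' {f₀ v}) ⊆ G.hom ⁻¹' {G.hom v.1} := by
      rintro _ ⟨w, hw, rfl⟩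
      show G.hom w.1 = G.hom v.1
      rw [← hf₀a, ← hf₀a]
      exact congrArg Subtype.val hw
    have hσv : (σ (f₀ v)).1 = η[G].left (G.hom v.1) := (hσa _).trans (congrArg η[G].left (hf₀a v))
    have hσm : σ (f₀ v) ∈ f₀ ⁻¹' {f₀ v} := congrArg (fun φ : (A : Scheme.{u}) ⟶ A => φ (f₀ v)) hσf
    show v ∈ connectedComponentIn (f₀ ⁻¹' {f₀ v}) (σ (f₀ v)) ↔ v.1 ∈ SGA3x.neutralSet G
    rw [mem_neutralSet_iff]
    constructor
    · intro hv
      have := (continuous_subtype_val.continuousOn (s := f₀ ⁻¹' {f₀ v})).image_connectedComponentIn_subset hσm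
        ⟨v, hv, rfl⟩
      rw [hσv] at this
      exact connectedComponentIn_mono _ hfib this
    · intro hv
      let T : Set (O : Scheme.{u}) := Subtype.val ⁻¹' (SGA3x.neutralSet G ∩ G.hom ⁻¹' {G.hom v.1})
      have hT : _root_.IsPreconnected T := by
        refine IsInducing.subtypeVal.isPreconnected_image.1 ?_
        refine (congrArg _root_.IsPreconnected ?_).mpr
          (isPreconnected_inter_neutralSet G O (G.hom v.1))
        exact Subtype.image_preimage_coe (O : Set G.left) _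
      refine hT.subset_connectedComponentIn ?_ ?_ ⟨(mem_neutralSet_iff G v.1).2 hv, rfl⟩
      · show (σ (f₀ v)).1 ∈ SGA3x.neutralSet G ∩ G.hom ⁻¹' {G.hom v.1}
        rw [hσv]
        exact ⟨η_mem_neutralSet G _, hom_η G _⟩
      · intro w hw
        refine Subtype.ext ?_
        rw [hf₀a, hf₀a]
        exact hw.2
  have hcons : IsConstructible (O.ι ⁻¹' SGA3x.neutralSet G) := by
    rw [← hsec]
    exact (Groth.Agent.H46.GeomSpread.isLocallyConstructible_sectionComponents f₀ σ hσf).isConstructible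
  let m : pullback f₀ f₀ ⟶ (G ⊗ G).left := pullback.map f₀ f₀ G.hom G.hom O.ι O.ι A.ι hf₀ hf₀
  have hm1 : m ≫ (fst G G).left = pullback.fst f₀ f₀ ≫ O.ι := pullback.lift_fst _ _ _
  have hm2 : m ≫ (snd G G).left = pullback.snd f₀ f₀ ≫ O.ι := pullback.lift_snd _ _ _
  let ψ := m ≫ (divMap G).left
  have hrange : Set.range m = (fst G G).left ⁻¹' (O : Set G.left) ∩ (snd G G).left ⁻¹' (O : Set G.left) := by
    simp only [m]
    refine (Scheme.Pullback.range_map _ _ _ _ _ _ _ _ _).trans ?_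
    rw [Scheme.Opens.range_ι]
    rfl
  have : LocallyOfFinitePresentation (G ⊗ G).hom :=
    inferInstanceAs (LocallyOfFinitePresentation (pullback.fst G.hom G.hom ≫ G.hom))
  have : LocallyOfFinitePresentation ((divMap G).left ≫ G.hom) := by rw [Over.w]; infer_instance
  have : LocallyOfFinitePresentation (divMap G).left :=
    Groth.Agent.Lib.AlgSpMor.Cancel.locallyOfFinitePresentation_of_comp (g := G.hom) ‹_› inferInstance
  have hψA : ∀ p, G.hom (ψ p) ∈ A := fun p => by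
    rw [Scheme.Hom.comp_apply, ← Scheme.Hom.comp_apply (divMap G).left, Over.w, ← Over.w (fst G G),
      Scheme.Hom.comp_apply, ← Scheme.Hom.comp_apply m, hm1]
    exact (pullback.fst f₀ f₀ p).2.2
  refine ⟨A, hA, hsc, pullback f₀ f₀, inferInstance, ψ, inferInstance, hψA,
    pullback.fst f₀ f₀ ⁻¹' (O.ι ⁻¹' SGA3x.neutralSet G) ∩ pullback.snd f₀ f₀ ⁻¹' (O.ι ⁻¹' SGA3x.neutralSet G),
    ((pullback.fst f₀ f₀).isConstructible_preimage hcons).inter ((pullback.snd f₀ f₀).isConstructible_preimage hcons), ?_⟩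
  ext g
  constructor
  · rintro ⟨p, ⟨h1, h2⟩, rfl⟩
    refine ⟨?_, hψA p⟩
    rw [Scheme.Hom.comp_apply]
    refine divMap_mem G ?_ ?_
    · rw [← Scheme.Hom.comp_apply, hm1]; exact h1
    · rw [← Scheme.Hom.comp_apply, hm2]; exact h2
  · rintro ⟨hg, hgA⟩
    obtain ⟨z, ⟨hz1, hz1'⟩, ⟨hz2, hz2'⟩, hz⟩ := exists_pair G O (hηO _ hgA) hg
    obtain ⟨p, rfl⟩ : z ∈ Set.range m := hrange ▸ ⟨hz1, hz2⟩
    refine ⟨p, ⟨?_, ?_⟩, hz⟩
    · show O.ι (pullback.fst f₀ f₀ p) ∈ SGA3x.neutralSet G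
      rwa [← Scheme.Hom.comp_apply, ← hm1, Scheme.Hom.comp_apply]
    · show O.ι (pullback.snd f₀ f₀ p) ∈ SGA3x.neutralSet G
      rwa [← Scheme.Hom.comp_apply, ← hm2, Scheme.Hom.comp_apply]

theorem isIndConstructible_neutralSet : ProCons.IsIndConstructible (SGA3x.neutralSet G) := by
  intro x
  obtain ⟨A, hA, hxA, PP, hPP, ψ, hψ, hψA, P, hP, himg⟩ := exists_cover G (G.hom x)
  obtain ⟨V, hV, hxV, hVA⟩ := exists_isAffineOpen_mem_and_subset (U := G.hom ⁻¹ᵁ A) (x := x) hxA
  have : IsAffine (V : Scheme.{u}) := hV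
  refine ⟨(V : Set G.left), V.2, hxV,
    {T : Set (V : Scheme.{u}) | ∃ (Q : PP.Opens) (_ : IsAffineOpen Q) (_ : Q ≤ ψ ⁻¹ᵁ V),
      T = Subtype.val ⁻¹' (ψ '' (P ∩ (Q : Set PP)))}, ?_, ?_⟩
  · rintro _ ⟨Q, hQ, hQV, rfl⟩
    have : IsAffine (Q : Scheme.{u}) := hQ
    let q : (Q : Scheme.{u}) ⟶ V := IsOpenImmersion.lift V.ι (Q.ι ≫ ψ) (by
      rintro _ ⟨z, rfl⟩; rw [Scheme.Opens.range_ι]; exact hQV z.2)
    have hq : q ≫ V.ι = Q.ι ≫ ψ := IsOpenImmersion.lift_fac _ _ _
    have hqa : ∀ z, (q z).1 = ψ z.1 := fun z => congrArg (fun φ : (Q : Scheme.{u}) ⟶ G.left => φ z) hq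
    have : LocallyOfFinitePresentation (q ≫ V.ι) := by rw [hq]; infer_instance
    have : LocallyOfFinitePresentation q :=
      Groth.Agent.Lib.AlgSpMor.Cancel.locallyOfFinitePresentation_of_comp (g := V.ι) ‹_› inferInstance
    have h1 := q.isConstructible_image (Q.ι.isConstructible_preimage hP)
    have e : q '' (Q.ι ⁻¹' P) = Subtype.val ⁻¹' (ψ '' (P ∩ (Q : Set PP))) := by
      ext v
      constructor
      · rintro ⟨z, hz, rfl⟩
        exact ⟨z.1, ⟨hz, z.2⟩, (hqa z).symm⟩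
      · rintro ⟨z, ⟨hzP, hzQ⟩, hzv⟩
        exact ⟨⟨z, hzQ⟩, hzP, Subtype.ext ((hqa _).trans hzv)⟩
    exact e ▸ h1.isLocallyConstructible
  · ext ⟨v, hv⟩
    constructor
    · intro hvN
      obtain ⟨p, hp, rfl⟩ : v ∈ ψ '' P := himg.symm ▸ ⟨hvN, hVA hv⟩
      obtain ⟨Q, hQ, hpQ, hQV⟩ := exists_isAffineOpen_mem_and_subset (U := ψ ⁻¹ᵁ V) (x := p) hv
      exact ⟨_, ⟨Q, hQ, hQV, rfl⟩, p, ⟨hp, hpQ⟩, rfl⟩
    · rintro ⟨_, ⟨Q, hQ, hQV, rfl⟩, p, ⟨hp, -⟩, he⟩
      have : ψ p ∈ SGA3x.neutralSet G ∩ G.hom ⁻¹' (A : Set S) := himg ▸ ⟨p, hp, rfl⟩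
      show v ∈ SGA3x.neutralSet G
      exact (show ψ p = v from he) ▸ this.1

theorem isLocallyConstructible_neutralSet [QuasiSeparated G.hom] :
    IsLocallyConstructible (SGA3x.neutralSet G) := by
  intro x
  obtain ⟨A, hA, hxA, PP, hPP, ψ, hψ, hψA, P, hP, himg⟩ := exists_cover G (G.hom x)
  let B := G.hom ⁻¹ᵁ A
  have : IsAffine (A : Scheme.{u}) := hA
  have : QuasiSeparatedSpace ↑(B : Scheme.{u}) := quasiSeparatedSpace_of_quasiSeparated (G.hom ∣_ A)
  let ψ' : PP ⟶ (B : Scheme.{u}) := IsOpenImmersion.lift B.ι ψ (by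
    rintro _ ⟨z, rfl⟩; rw [Scheme.Opens.range_ι]; exact hψA z)
  have hψ' : ψ' ≫ B.ι = ψ := IsOpenImmersion.lift_fac _ _ _
  have : LocallyOfFinitePresentation (ψ' ≫ B.ι) := by rw [hψ']; infer_instance
  have : LocallyOfFinitePresentation ψ' :=
    Groth.Agent.Lib.AlgSpMor.Cancel.locallyOfFinitePresentation_of_comp (g := B.ι) ‹_› inferInstance
  have : QuasiCompact ψ' := quasiCompact_of_compactSpace ψ'
  have h1 := ψ'.isLocallyConstructible_image hP.isLocallyConstructible
  have e : ψ' '' P = (Subtype.val ⁻¹' SGA3x.neutralSet G : Set (B : Scheme.{u})) := by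
    have ha : ∀ z, (ψ' z).1 = ψ z := fun z => congrArg (fun φ : PP ⟶ G.left => φ z) hψ'
    ext v
    constructor
    · rintro ⟨z, hz, rfl⟩
      have : ψ z ∈ SGA3x.neutralSet G ∩ G.hom ⁻¹' (A : Set S) := himg ▸ ⟨z, hz, rfl⟩
      show (ψ' z).1 ∈ SGA3x.neutralSet G
      rw [ha]; exact this.1
    · intro hv
      obtain ⟨z, hz, hzv⟩ : v.1 ∈ ψ '' P := himg.symm ▸ ⟨hv, v.2⟩
      exact ⟨z, hz, Subtype.ext ((ha z).trans hzv)⟩
  obtain ⟨W, hW, hWo, hWc⟩ := (e ▸ h1) ⟨x, hxA⟩
  refine ⟨Subtype.val '' W, B.2.isOpenEmbedding_subtypeVal.image_mem_nhds.mpr hW,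
    B.2.isOpenMap_subtype_val _ hWo, ?_⟩
  let eW : W ≃ₜ Subtype.val '' W :=
    (Equiv.Set.image _ W Subtype.val_injective).toHomeomorphOfIsInducing
      (B.2.isOpenEmbedding_subtypeVal.restrict (by simp [Set.MapsTo]) hWo).isInducing
  convert! hWc.preimage_of_isOpenEmbedding eW.symm.isOpenEmbedding
  ext ⟨_, y, hy, rfl⟩
  simp [eW, Equiv.toHomeomorphOfIsInducing]

theorem isConstructible_neutralSet [QuasiSeparated G.hom] [CompactSpace S] [QuasiSeparatedSpace S] :
    IsConstructible (SGA3x.neutralSet G) := by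
  have : QuasiSeparatedSpace ↑G.left := quasiSeparatedSpace_of_quasiSeparated G.hom
  choose A hA hsA PP hPP ψ hψ hψA P hP himg using exists_cover G
  obtain ⟨σ, hσ⟩ := isCompact_univ.elim_finite_subcover (fun s => (A s : Set S)) (fun s => (A s).2)
    fun s _ => Set.mem_iUnion.2 ⟨s, hsA s⟩
  refine (isLocallyConstructible_neutralSet G).isConstructible_of_subset_of_isCompact
    (t := ⋃ s ∈ σ, Set.range (ψ s)) (fun g hg => ?_)
    (σ.isCompact_biUnion fun s _ => isCompact_range (ψ s).continuous)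
  obtain ⟨s, hs, hgs⟩ := Set.mem_iUnion₂.1 (hσ (Set.mem_univ (G.hom g)))
  obtain ⟨p, -, hp⟩ : g ∈ ψ s '' P s := (himg s).symm ▸ ⟨hg, hgs⟩
  exact Set.mem_iUnion₂.2 ⟨s, hs, p, hp⟩

end Groth.Agent.Lib.ActSep
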