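import Groth.Agent.Lib.ActSep.FullSet
import Groth.Agent.H46.Lift
import Groth.Agent.H46.UnivOpenTrdeg
import Groth.Agent.Lib.VarDim.Semicont
import Groth.Agent.S9176

/-!
Universal openness along the neutral component and constancy of the fibre dimension.
-/

universe u

open CategoryTheory Limits MonoidalCategory CartesianMonoidalCategory MonObj AlgebraicGeometry Topology

namespace Groth.Agent.Lib.ActSep

open Groth.Agent.Lib.GrpSch Groth.Agent.Lib.FibreDim.Basic

theorem isOpen_isCompact_fibreDimAt_le {X Y : Scheme.{u}} (f : X ⟶ Y) {R A : Type u} [CommRing R] [CommRing A]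
    [Algebra R A] [Algebra.FinitePresentation R A]
    (v : Spec (CommRingCat.of R) ⟶ Y) [IsOpenImmersion v] (w : Spec (CommRingCat.of A) ⟶ X) [IsOpenImmersion w]
    (hw : Spec.map (CommRingCat.ofHom (algebraMap R A)) ≫ v = w ≫ f) (m : ℕ) :
    IsOpen {P : PrimeSpectrum A | FlatMor.fibreDimAt f (w P) ≤ (m : WithBot ℕ∞)} ∧
      IsCompact {P : PrimeSpectrum A | FlatMor.fibreDimAt f (w P) ≤ (m : WithBot ℕ∞)} := by
  have key : ∀ P : PrimeSpectrum A, FlatMor.fibreDimAt f (w P) ≤ (m : WithBot ℕ∞) ↔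
      ∀ Q : PrimeSpectrum ((P.asIdeal.under R).Fiber A),
        Q.asIdeal.comap (Algebra.TensorProduct.includeRight.toRingHom) = P.asIdeal →
          FlatMor.localDim (PrimeSpectrum ((P.asIdeal.under R).Fiber A)) Q ≤ (m : WithBot ℕ∞) := by
    intro P
    rw [Groth.Agent.Lib.FibreDim.Chart.fibreDimAt_eq_localDim f v w hw P]
    let e := PrimeSpectrum.preimageHomeomorphFiber R A (PrimeSpectrum.comap (algebraMap R A) P)
    have h0 : (e ⟨P, rfl⟩).asIdeal.comap (Algebra.TensorProduct.includeRight.toRingHom) = P.asIdeal :=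
      congrArg (fun q => q.1.asIdeal) (e.symm_apply_apply ⟨P, rfl⟩)
    refine ⟨fun hP Q hQ => ?_, fun hP => hP _ h0⟩
    have hQe : (Q : PrimeSpectrum ((PrimeSpectrum.comap (algebraMap R A) P).asIdeal.Fiber A)) = e ⟨P, rfl⟩ :=
      e.symm.injective (Subtype.ext (PrimeSpectrum.ext (hQ.trans
        (congrArg (fun q => q.1.asIdeal) (e.symm_apply_apply ⟨P, rfl⟩)).symm)))
    subst hQe
    exact hP
  have h := Groth.Agent.S9176.result R A m
  rw [show {P : PrimeSpectrum A | FlatMor.fibreDimAt f (w P) ≤ (m : WithBot ℕ∞)} = _ from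
    Set.ext key]
  exact h

variable {S : Scheme.{u}} (G : Over S) [GrpObj G]

theorem fibreDimAt_unit [LocallyOfFiniteType G.hom] (t : S) :
    FlatMor.fibreDimAt G.hom (η[G].left t) = topologicalKrullDim ↥(G.hom ⁻¹' {t}) := by
  let r : Spec (CommRingCat.of (S.residueField t)) ⟶ S := S.fromSpecResidueField t
  have hr : r (IsLocalRing.closedPoint (S.residueField t)) = t := Scheme.fromSpecResidueField_apply t _
  have h := localDim_pt_one_eq_fibre G r
  rw [hr] at h
  rw [← h]
  let e : G.hom.fiber t := pt r (1 : Over.mk r ⟶ G)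
  have he : (G.hom.fiberι t) e = η[G].left t := by
    refine (fst_pt_one G r).trans ?_
    rw [hr]
  rw [← he]
  exact (localDim_fiber G.hom (y := t) e).symm

variable [LocallyOfFinitePresentation G.hom]

theorem isUnivOpenAt_of_dim_nhds (s : S) (U : Set S) (hU : U ∈ nhds s)
    (hconst : ∀ t ∈ U, topologicalKrullDim ↥(G.hom ⁻¹' {t}) = topologicalKrullDim ↥(G.hom ⁻¹' {s}))
    (x : G.left) (hx : x ∈ SGA3x.neutralSet G) (hxs : G.hom x = s) : EGA43.IsUnivOpenAt G.hom x := by
  refine Groth.Agent.H46.Lift.isUnivOpenAt_of_valuationRing G.hom x fun V _ _ _ g p hg hp hpc => ?_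
  let X : Over S := Over.mk g
  let γ : X.left := genericPoint (Spec (CommRingCat.of V))
  have hspec : ∀ y : X.left, γ ⤳ y := fun y =>
    (genericPoint_spec (Spec (CommRingCat.of V))).specializes trivial
  have hmem : ∀ y : X.left, X.hom y ∈ U := by
    intro y
    have h1 : y ⤳ IsLocalRing.closedPoint V := by
      exact (PrimeSpectrum.le_iff_specializes (y : PrimeSpectrum V) (IsLocalRing.closedPoint V)).1
        (IsLocalRing.le_maximalIdeal (y : PrimeSpectrum V).isPrime.ne_top)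
    have h2 : X.hom y ⤳ s := by rw [← hxs, ← hg]; exact h1.map g.continuous
    exact mem_of_mem_nhds (h2 hU)
  have hdim : IsLocallyConstant (fun y : X.left => topologicalKrullDim ↥(G.hom ⁻¹' {X.hom y})) :=
    IsLocallyConstant.of_constant _ fun y y' => (hconst _ (hmem y)).trans (hconst _ (hmem y')).symm
  let p' : (G ⊗ X).left := p
  have hsp : (snd G X).left p' = IsLocalRing.closedPoint V := hpc
  have hZ := isClosed_setOf_genPt_mem G X hdim (Z := closure {genPt G X γ}) isClosed_closure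
  have hy : genPt G X ((snd G X).left p') ∈ closure {genPt G X γ} :=
    (hspec _).mem_closed hZ (subset_closure (Set.mem_singleton _))
  exact ⟨genPt G X γ, (specializes_iff_mem_closure.2 hy).trans
    (genPt_specializes G X (show (fst G X).left p' ∈ _ by rw [show (fst G X).left p' = x from hp]; exact hx)),
    snd_genPt G X γ⟩

theorem exists_dim_nhds (s : S) (W : G.left.Opens) (hW : η[G].left s ∈ W)
    (hopen : ∀ x ∈ W, x ∈ SGA3x.neutralSet G → G.hom x = s → EGA43.IsUnivOpenAt G.hom x) :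
    ∃ U : Set S, U ∈ nhds s ∧ ∀ t ∈ U, topologicalKrullDim ↥(G.hom ⁻¹' {t}) = topologicalKrullDim ↥(G.hom ⁻¹' {s}) := by
  obtain ⟨n, hn⟩ := Groth.Agent.Lib.FibreDim.Chart.exists_fibreDimAt_eq G.hom (η[G].left s)
  have hns : topologicalKrullDim ↥(G.hom ⁻¹' {s}) = n := by rw [← fibreDimAt_unit]; exact hn
  -- the generic point of the neutral component
  let r : Spec (CommRingCat.of (S.residueField s)) ⟶ S := S.fromSpecResidueField s
  have hr : r (IsLocalRing.closedPoint (S.residueField s)) = s := Scheme.fromSpecResidueField_apply s _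
  let ξ := (fst G (Over.mk r)).left (genOne G r)
  have hξ1 : ξ ⤳ η[G].left s := by
    have h := (genOne_specializes G r).map (fst G (Over.mk r)).left.continuous
    rw [fst_pt_one, hr] at h
    exact h
  have hξn : ξ ∈ SGA3x.neutralSet G := by
    have : genOne G r ∈ (fst G (Over.mk r)).left ⁻¹' SGA3x.neutralSet G := by
      rw [preimage_neutralSet]; exact subset_closure (Set.mem_singleton _)
    exact this
  have hξs : G.hom ξ = s := by
    show G.hom ((fst G (Over.mk r)).left (genOne G r)) = s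
    rw [← Scheme.Hom.comp_apply, Over.w, ← Over.w (snd G (Over.mk r)), Scheme.Hom.comp_apply]
    exact (congrArg r (Subsingleton.elim (α := Spec (CommRingCat.of (S.residueField s))) _ _)).trans hr
  let π : (G ⊗ Over.mk r).left ⟶ Spec (CommRingCat.of (S.residueField s)) := (snd G (Over.mk r)).left
  have hπ : LocallyOfFiniteType π := snd_left_of (P := @LocallyOfFiniteType) _ inferInstance
  have htd : n ≤ Groth.Agent.H46.FibreTrdeg.trd G.hom ξ := by
    have h1 := localDim_pt_one_eq_fibre G r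
    rw [hr, localDim_pt_one, Groth.Agent.Lib.VarDim.Basic.topologicalKrullDim_isGenericPoint π
      (ξ := genOne G r) (show IsGenericPoint (genOne G r) (closure {genOne G r}) from isGenericPoint_closure),
      hns] at h1
    have h2 : Groth.Agent.Lib.VarDim.Basic.pdim π (genOne G r) = n := by exact_mod_cast h1
    have h3 := congrArg Cardinal.toNat (Groth.Agent.Lib.Cyc.FieldDim.trdegAt_fiber G.hom s (genOne G r : G.hom.fiber s))
    exact h2.symm.le.trans h3.le
  -- upper semicontinuity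
  obtain ⟨O, hO1, hO⟩ := Groth.Agent.Lib.FibreDim.Semicont.exists_open_forall_fibreDimAt_le G.hom (η[G].left s)
  have hle : ∀ t ∈ η[G].left ⁻¹' (O : Set G.left), topologicalKrullDim ↥(G.hom ⁻¹' {t}) ≤ n := fun t ht => by
    rw [← fibreDimAt_unit, ← hn]; exact hO _ ht
  have hnonneg : ∀ t : S, (0 : WithBot ℕ∞) ≤ topologicalKrullDim ↥(G.hom ⁻¹' {t}) := fun t => by
    obtain ⟨k, hk⟩ := Groth.Agent.Lib.FibreDim.Chart.exists_fibreDimAt_eq G.hom (η[G].left t)
    rw [← fibreDimAt_unit, hk]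
    exact_mod_cast Nat.zero_le k
  have hOn : η[G].left ⁻¹' (O : Set G.left) ∈ nhds s := (O.2.preimage η[G].left.continuous).mem_nhds hO1
  rcases n with _ | m
  · exact ⟨_, hOn, fun t ht => (le_antisymm (hle t ht) (hnonneg t)).trans hns.symm⟩
  -- generisations
  have hgen : ∀ t : S, t ⤳ s → ((m + 1 : ℕ) : WithBot ℕ∞) ≤ topologicalKrullDim ↥(G.hom ⁻¹' {t}) := by
    intro t ht
    obtain ⟨ζ, -, hζ, hle'⟩ := Groth.Agent.H46.UnivOpenTrdeg.exists_trd_le G.hom ξ
      (hopen ξ (hξ1.mem_open W.2 hW) hξn hξs) t (by rw [hξs]; exact ht)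
    refine le_trans ?_ (hζ ▸ Groth.Agent.Lib.VarDim.Fibre.tdAt_le_topologicalKrullDim_fibre G.hom ζ)
    exact_mod_cast htd.trans hle'
  -- an affine chart at the unit
  obtain ⟨V, hV, hsV, -⟩ := exists_isAffineOpen_mem_and_subset (U := ⊤) (x := s) trivial
  have hesV : G.hom (η[G].left s) ∈ V := by
    rw [← Scheme.Hom.comp_apply, η_left_comp_hom]; exact hsV
  obtain ⟨Ua, hUa, heU, hUV⟩ := exists_isAffineOpen_mem_and_subset (U := G.hom ⁻¹ᵁ V) (x := η[G].left s) hesV
  obtain ⟨D, hD, hsD, hDU⟩ := exists_isAffineOpen_mem_and_subset (U := η[G].left ⁻¹ᵁ Ua) (x := s) heU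
  let := (G.hom.appLE V Ua hUV).hom.toAlgebra
  have : Algebra.FinitePresentation Γ(S, V) Γ(G.left, Ua) := G.hom.finitePresentation_appLE hV hUa hUV
  have hw : Spec.map (CommRingCat.ofHom (algebraMap Γ(S, V) Γ(G.left, Ua))) ≫ hV.fromSpec =
      hUa.fromSpec ≫ G.hom := hV.SpecMap_appLE_fromSpec G.hom hUa hUV
  let E : Set (PrimeSpectrum Γ(G.left, Ua)) := {P | FlatMor.fibreDimAt G.hom (hUa.fromSpec P) ≤ (m : WithBot ℕ∞)}
  have hE : IsOpen E ∧ IsCompact E :=
    isOpen_isCompact_fibreDimAt_le G.hom hV.fromSpec hUa.fromSpec hw m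
  -- its preimage under the unit section
  let ε : Spec Γ(S, D) ⟶ Spec Γ(G.left, Ua) := Spec.map (η[G].left.appLE Ua D hDU)
  have hε : ε ≫ hUa.fromSpec = hD.fromSpec ≫ η[G].left := hUa.SpecMap_appLE_fromSpec η[G].left hD hDU
  let C : Set (Spec Γ(S, D)) := ε ⁻¹' E
  have hCo : IsOpen C := hE.1.preimage ε.continuous
  have hCc : IsCompact C := ε.isCompact_preimage (U := ⟨E, hE.1⟩) hE.2
  have hCmem : ∀ q : Spec Γ(S, D), q ∈ C ↔ topologicalKrullDim ↥(G.hom ⁻¹' {hD.fromSpec q}) ≤ (m : WithBot ℕ∞) := by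
    intro q
    show FlatMor.fibreDimAt G.hom (hUa.fromSpec (ε q)) ≤ _ ↔ _
    rw [← Scheme.Hom.comp_apply, hε, Scheme.Hom.comp_apply, fibreDimAt_unit]
  obtain ⟨q₀, hq₀⟩ : s ∈ Set.range hD.fromSpec := by rw [hD.range_fromSpec]; exact hsD
  have hnot : ∀ q : Spec Γ(S, D), q ⤳ q₀ → q ∈ Cᶜ := by
    intro q hq hqC
    have h1 := hgen (hD.fromSpec q) (hq₀ ▸ hq.map hD.fromSpec.continuous)
    have h2 := h1.trans ((hCmem q).1 hqC)
    norm_cast at h2
    omega
  have hnb := Groth.Agent.H46.Lift.mem_nhds_of_isConstructible ((hCc.isConstructible hCo).compl) q₀ hnot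
  have hnb' : hD.fromSpec '' Cᶜ ∈ nhds s := hq₀ ▸ hD.fromSpec.isOpenEmbedding.isOpenMap.image_mem_nhds hnb
  refine ⟨_, Filter.inter_mem hOn hnb', ?_⟩
  rintro t ⟨ht, q, hq, rfl⟩
  rw [hns]
  refine le_antisymm (hle _ ht) ?_
  obtain ⟨k, hk⟩ := Groth.Agent.Lib.FibreDim.Chart.exists_fibreDimAt_eq G.hom (η[G].left (hD.fromSpec q))
  rw [fibreDimAt_unit] at hk
  have h3 : ¬ topologicalKrullDim ↥(G.hom ⁻¹' {hD.fromSpec q}) ≤ (m : WithBot ℕ∞) := fun h => hq ((hCmem q).2 h)
  rw [hk] at h3 ⊢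
  norm_cast at h3 ⊢
  omega

end Groth.Agent.Lib.ActSep
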