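import Groth.Agent.Lib.ActSep.Neutral
import Mathlib.AlgebraicGeometry.IdealSheaf.Subscheme

/-!
The points of the base over which a closed subset of `G ⊗ X` contains the whole neutral component.
-/

universe u

open CategoryTheory Limits MonoidalCategory CartesianMonoidalCategory MonObj AlgebraicGeometry Topology

namespace Groth.Agent.Lib.ActSep

open Groth.Agent.Lib.GrpSch Groth.Agent.Lib.ActSep.MaxPt Groth.Agent.Lib.FibreDim.Basic

variable {S : Scheme.{u}} (G X : Over S) [GrpObj G]

/-- The structure morphism of a point of `X`. -/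
noncomputable abbrev resBase (y : X.left) : Spec (CommRingCat.of (X.left.residueField y)) ⟶ S :=
  (X.left.fromSpecResidueField y : Spec (CommRingCat.of (X.left.residueField y)) ⟶ X.left) ≫ X.hom

/-- The residue field of a point of `X` as an object over `S`. -/
noncomputable abbrev resObj (y : X.left) : Over S := Over.mk (resBase X y)

/-- A point of `X` as a morphism over `S`. -/
noncomputable abbrev resPt (y : X.left) : resObj X y ⟶ X := Over.homMk (X.left.fromSpecResidueField y) rfl

/-- The generic point of the neutral component over a point of `X`. -/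
noncomputable def genPt (y : X.left) : (G ⊗ X).left :=
  (G ◁ resPt X y).left
    (genOne G (resBase X y))

theorem range_whiskerLeft_resPt (y : X.left) :
    Set.range (G ◁ resPt X y).left = (snd G X).left ⁻¹' {y} := by
  have h := isPullback_whiskerLeft G (resPt X y)
  rw [show (G ◁ resPt X y).left = h.isoPullback.hom ≫ pullback.fst (snd G X).left (resPt X y).left from
      h.isoPullback_hom_fst.symm, Scheme.Hom.comp_base, TopCat.coe_comp,
    h.isoPullback.hom.surjective.range_comp, Scheme.Pullback.range_fst,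
    show Set.range (resPt X y).left = {y} from Scheme.range_fromSpecResidueField y]

theorem snd_genPt (y : X.left) : (snd G X).left (genPt G X y) = y := by
  have : genPt G X y ∈ Set.range (G ◁ resPt X y).left := ⟨_, rfl⟩
  rwa [range_whiskerLeft_resPt] at this

theorem fst_whiskerLeft_resPt (y : X.left) (w : (G ⊗ resObj X y).left) :
    (fst G X).left ((G ◁ resPt X y).left w) = (fst G (resObj X y)).left w := by
  rw [← Scheme.Hom.comp_apply, ← Over.comp_left, whiskerLeft_fst]

theorem fst_genPt_mem (y : X.left) : (fst G X).left (genPt G X y) ∈ SGA3x.neutralSet G := by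
  rw [genPt, fst_whiskerLeft_resPt]
  have : genOne G (resBase X y) ∈ (fst G (resObj X y)).left ⁻¹' SGA3x.neutralSet G := by
    rw [preimage_neutralSet G (resBase X y)]; exact subset_closure (Set.mem_singleton _)
  exact this

theorem genPt_specializes {z : (G ⊗ X).left} (hz : (fst G X).left z ∈ SGA3x.neutralSet G) :
    genPt G X ((snd G X).left z) ⤳ z := by
  obtain ⟨w, hw⟩ : z ∈ Set.range (G ◁ resPt X ((snd G X).left z)).left := by
    rw [range_whiskerLeft_resPt]; rfl
  have h1 : w ∈ (fst G (resObj X ((snd G X).left z))).left ⁻¹' SGA3x.neutralSet G := by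
    rw [Set.mem_preimage, ← fst_whiskerLeft_resPt, hw]; exact hz
  rw [preimage_neutralSet G (resBase X ((snd G X).left z))] at h1
  have h2 := (specializes_iff_mem_closure.2 h1).map (G ◁ resPt X ((snd G X).left z)).left.continuous
  rw [hw] at h2
  exact h2

/-- The unit section of `G ⊗ X` over `X`. -/
noncomputable abbrev unitSec : X ⟶ G ⊗ X := lift (1 : X ⟶ G) (𝟙 X)

variable [LocallyOfFiniteType G.hom]
  (hdim : IsLocallyConstant (fun y : X.left => topologicalKrullDim ↥(G.hom ⁻¹' {X.hom y})))
include hdim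

theorem isOpen_setOf_genPt_mem (A : (G ⊗ X).left.Opens) : IsOpen {y | genPt G X y ∈ A} := by
  let Zs : TopologicalSpace.Closeds (G ⊗ X).left := ⟨(A : Set (G ⊗ X).left)ᶜ, A.2.isClosed_compl⟩
  let Z := (Scheme.IdealSheafData.vanishingIdeal Zs).subscheme
  let i : Z ⟶ (G ⊗ X).left := (Scheme.IdealSheafData.vanishingIdeal Zs).subschemeι
  have hi : Set.range i = (A : Set (G ⊗ X).left)ᶜ := by
    rw [Scheme.IdealSheafData.range_subschemeι, Scheme.IdealSheafData.coe_support_vanishingIdeal]
    rfl
  have : LocallyOfFiniteType (snd G X).left := snd_left_of (P := @LocallyOfFiniteType) X ‹_›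
  let p : Z ⟶ X.left := i ≫ (snd G X).left
  have : LocallyOfFiniteType p := inferInstance
  -- the fibre of `p` at `y` is the trace of `Z` on the fibre of `G ⊗ X`
  have key : ∀ y : X.left, genPt G X y ∉ A ↔ ∃ z : Z, i z = (unitSec G X).left y ∧
      topologicalKrullDim ↥(G.hom ⁻¹' {X.hom y}) ≤ FlatMor.fibreDimAt p z := by
    intro y
    let t : Spec (CommRingCat.of (X.left.residueField y)) ⟶ S := resBase X y
    let T : Over S := Over.mk t
    obtain ⟨v⟩ : Nonempty ↥(Spec (CommRingCat.of (X.left.residueField y))) := inferInstance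
    have hy : (resPt X y).left v = y := Scheme.fromSpecResidueField_apply y v
    have ht : t (IsLocalRing.closedPoint _) = X.hom y := by
      show ((X.left.fromSpecResidueField y) ≫ X.hom) _ = _
      rw [Scheme.Hom.comp_apply]
      exact congrArg X.hom (Scheme.fromSpecResidueField_apply y _)
    have h1 : (G ◁ resPt X y).left (pt t (1 : Over.mk t ⟶ G)) = (unitSec G X).left y := by
      rw [pt, ← Scheme.Hom.comp_apply, ← Over.comp_left,
        show lift (1 : Over.mk t ⟶ G) (𝟙 (Over.mk t)) ≫ (G ◁ resPt X y) = resPt X y ≫ unitSec G X by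
          ext1 <;> simp [unitSec, MonObj.comp_one], Over.comp_left, Scheme.Hom.comp_apply]
      exact congrArg (unitSec G X).left (Scheme.fromSpecResidueField_apply y _)
    let j : (G ⊗ T).left ⟶ (G ⊗ X).left := (G ◁ resPt X y).left
    have : IsPreimmersion j := by
      refine MorphismProperty.of_isPullback (P := @IsPreimmersion) (isPullback_whiskerLeft G (resPt X y)).flip ?_
      exact inferInstanceAs (IsPreimmersion (X.left.fromSpecResidueField y))
    have hjr : Set.range j = (snd G X).left ⁻¹' {y} := range_whiskerLeft_resPt G X y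
    let Z' : Set (G ⊗ T).left := j ⁻¹' (A : Set (G ⊗ X).left)ᶜ
    have hZ' : IsClosed Z' := A.2.isClosed_compl.preimage j.continuous
    have hmem : genPt G X y ∉ A ↔ genOne G t ∈ Z' := Iff.rfl
    rw [hmem, genOne_mem_iff G t hZ', ht]
    -- comparison of the two fibres
    have hdimeq : ∀ (z : Z) (h : pt t (1 : Over.mk t ⟶ G) ∈ Z'), i z = (unitSec G X).left y →
        FlatMor.fibreDimAt p z = FlatMor.localDim Z' ⟨_, h⟩ := by
      intro z h hz
      have hpz : p z = y := by
        rw [Scheme.Hom.comp_apply, hz, ← Scheme.Hom.comp_apply, ← Over.comp_left, lift_snd]; rfl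
      rw [← localDim_preimage p (⟨z, hpz⟩ : ↥(p ⁻¹' {y}))]
      let φ : ↥(p ⁻¹' {y}) → Z' := fun w =>
        have hw : i w.1 ∈ Set.range j := by
          rw [hjr]
          show (snd G X).left (i w.1) = y
          rw [← Scheme.Hom.comp_apply]
          exact w.2
        ⟨hw.choose, by
          show j hw.choose ∈ (A : Set (G ⊗ X).left)ᶜ
          rw [hw.choose_spec, ← hi]
          exact ⟨w.1, rfl⟩⟩
      have hφ : ∀ w, j (φ w).1 = i w.1 := fun w => (show i w.1 ∈ Set.range j by
          rw [hjr]
          show (snd G X).left (i w.1) = y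
          rw [← Scheme.Hom.comp_apply]
          exact w.2).choose_spec
      have hcomp : IsEmbedding (fun w : Z' => j w.1) := j.isEmbedding.comp IsEmbedding.subtypeVal
      have hemb : IsEmbedding φ := by
        refine hcomp.of_comp_iff.1 ?_
        rw [show (fun w : Z' => j w.1) ∘ φ = fun w : ↥(p ⁻¹' {y}) => i w.1 from funext hφ]
        exact i.isClosedEmbedding.isEmbedding.comp IsEmbedding.subtypeVal
      have hsurj : Function.Surjective φ := by
        intro c
        obtain ⟨w, hw⟩ : j c.1 ∈ Set.range i := hi ▸ c.2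
        refine ⟨⟨w, ?_⟩, Subtype.ext (j.isEmbedding.injective ((hφ _).trans hw))⟩
        show p w = y
        rw [Scheme.Hom.comp_apply, hw]
        have : j c.1 ∈ (snd G X).left ⁻¹' {y} := hjr ▸ ⟨c.1, rfl⟩
        exact this
      let e : ↥(p ⁻¹' {y}) ≃ₜ Z' := hemb.toHomeomorphOfSurjective hsurj
      rw [← localDim_eq_of_homeomorph e ⟨z, hpz⟩]
      congr 1
      apply Subtype.ext
      apply j.isEmbedding.injective
      show j (φ ⟨z, hpz⟩).1 = j (pt t (1 : Over.mk t ⟶ G))
      rw [hφ]
      exact hz.trans h1.symm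
    constructor
    · rintro ⟨h, hle⟩
      obtain ⟨z, hz⟩ : (unitSec G X).left y ∈ Set.range i := by rw [hi, ← h1]; exact h
      exact ⟨z, hz, hle.trans (hdimeq z h hz).ge⟩
    · rintro ⟨z, hz, hle⟩
      have h : pt t (1 : Over.mk t ⟶ G) ∈ Z' := by
        show j (pt t (1 : Over.mk t ⟶ G)) ∈ (A : Set (G ⊗ X).left)ᶜ
        rw [← hi]
        exact ⟨z, hz.trans h1.symm⟩
      exact ⟨h, hle.trans (hdimeq z h hz).le⟩
  refine isOpen_iff_forall_mem_open.2 fun y hy => ?_
  -- a neighbourhood on which the dimension is constant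
  obtain ⟨N, hN, hyN, hNc⟩ := (IsLocallyConstant.iff_exists_open _).1 hdim y
  set d := topologicalKrullDim ↥(G.hom ⁻¹' {X.hom y})
  let B : Set Z := {z | d ≤ FlatMor.fibreDimAt p z}
  have hB : IsClosed B := by
    rw [← isOpen_compl_iff, isOpen_iff_forall_mem_open]
    intro z hz
    obtain ⟨U, hzU, hU⟩ := Groth.Agent.Lib.FibreDim.Semicont.exists_open_forall_fibreDimAt_le p z
    exact ⟨U, fun w hw h => hz (h.trans (hU w hw)), U.2, hzU⟩
  have hiB : IsClosed (i '' B) := i.isClosedEmbedding.isClosedMap _ hB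
  refine ⟨N ∩ ((unitSec G X).left ⁻¹' (i '' B))ᶜ, ?_, hN.inter
    (hiB.preimage (unitSec G X).left.continuous).isOpen_compl, hyN, ?_⟩
  · rintro y' ⟨hy'N, hy'⟩
    by_contra hne
    obtain ⟨z, hz, hle⟩ := (key y').1 hne
    refine hy' ⟨z, ?_, hz⟩
    show d ≤ _
    rw [show d = topologicalKrullDim ↥(G.hom ⁻¹' {X.hom y'}) from (hNc _ hy'N).symm]
    exact hle
  · rintro ⟨z, hzB, hz⟩
    exact (key y).2 ⟨z, hz, hzB⟩ hy

theorem isClosed_setOf_genPt_mem {Z : Set (G ⊗ X).left} (hZ : IsClosed Z) :
    IsClosed {y | genPt G X y ∈ Z} := by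
  rw [← isOpen_compl_iff]
  exact isOpen_setOf_genPt_mem G X hdim ⟨Zᶜ, hZ.isOpen_compl⟩

end Groth.Agent.Lib.ActSep
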