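import Groth.Agent.H54.ThickLocal
import Groth.Agent.H54.ThickAffine

/-!
Closed immersions and immersions along thickenings induced by a nilpotent ideal of an affine base.
-/

set_option autoImplicit false

universe u

open CategoryTheory Limits AlgebraicGeometry
open Groth.Agent.H54

namespace Groth.Agent.Lib.ActSep

theorem surjective_of_nilpotent {R B : Type u} [CommRing R] [CommRing B] [Algebra R B] {I : Ideal R}
    (hI : IsNilpotent I) (h : ∀ b : B, ∃ a : R, b - algebraMap R B a ∈ I.map (algebraMap R B)) :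
    Function.Surjective (algebraMap R B) := by
  let N : Submodule R B := LinearMap.range (Algebra.linearMap R B)
  have h0 : N ⊔ I • ⊤ = ⊤ := top_unique fun b _ => by
    obtain ⟨a, ha⟩ := h b
    refine Submodule.mem_sup.2 ⟨algebraMap R B a, ⟨a, rfl⟩, b - algebraMap R B a, ?_, add_sub_cancel _ _⟩
    rw [Ideal.smul_top_eq_map]
    exact ha
  have hj : ∀ j, N ⊔ (I ^ j) • (⊤ : Submodule R B) = ⊤ := fun j => by
    induction j with
    | zero => rw [pow_zero, Ideal.one_eq_top, Submodule.top_smul, sup_top_eq]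
    | succ j ih =>
      apply top_unique
      conv_lhs => rw [← h0]
      conv_lhs => rw [← ih, Submodule.smul_sup, ← sup_assoc, ← mul_smul, ← pow_succ']
      exact sup_le_sup (sup_le le_rfl Submodule.smul_le_right) le_rfl
  obtain ⟨n, hn⟩ := hI
  have h1 : N = ⊤ := by
    have := hj n
    rwa [hn, Ideal.zero_eq_bot, Submodule.bot_smul, sup_bot_eq] at this
  intro b
  exact LinearMap.mem_range.1 (h1.ge (Submodule.mem_top (x := b)))

variable {S Z X X' Y Y' : Scheme.{u}} [IsAffine S] {c : Z ⟶ S} [IsClosedImmersion c] [Surjective c]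
  {iX : X ⟶ X'} {iY : Y ⟶ Y'} {f : X ⟶ Y} {f' : X' ⟶ Y'} {p : Y ⟶ Z} {q : Y' ⟶ S}

theorem isClosedImmersion_of_nilpotent_base (hI : IsNilpotent (RingHom.ker (c.app ⊤).hom))
    (hY : IsPullback iY p q c) (hc : IsPullback iX f f' iY) [IsClosedImmersion f] : IsClosedImmersion f' := by
  have : IsClosedImmersion iY := MorphismProperty.of_isPullback hY.flip ‹IsClosedImmersion c›
  have : Surjective iY := MorphismProperty.of_isPullback hY.flip ‹Surjective c›
  have : IsClosedImmersion iX := MorphismProperty.of_isPullback hc.flip ‹IsClosedImmersion iY›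
  have : Surjective iX := MorphismProperty.of_isPullback hc.flip ‹Surjective iY›
  have : IsAffineHom f' := (ThickAffine.isAffineHom_iff hc.w).mp inferInstance
  have : IsClosedImmersion (iX ≫ f') := by rw [hc.w]; infer_instance
  refine isClosedImmersion_iff_isAffineHom.2 ⟨inferInstance, fun V hV => ?_⟩
  obtain ⟨-, hkY⟩ := ThickLocal.ker_app_eq_map hY (isAffineOpen_top S) hV le_top
  have hnil : IsNilpotent (RingHom.ker (iY.app V).hom) := by
    obtain ⟨n, hn⟩ := hI
    refine ⟨n, ?_⟩
    rw [hkY, ← Ideal.map_pow, hn]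
    simp
  obtain ⟨-, hkX⟩ := ThickLocal.ker_app_eq_map hc hV (hV.preimage f') le_rfl
  letI := (f'.app V).hom.toAlgebra
  refine surjective_of_nilpotent (R := Γ(Y', V)) (B := Γ(X', f' ⁻¹ᵁ V)) hnil fun b => ?_
  obtain ⟨a, ha⟩ := (iX ≫ f').app_surjective V hV ((iX.app (f' ⁻¹ᵁ V)).hom b)
  rw [Scheme.Hom.comp_app] at ha
  refine ⟨a, ?_⟩
  rw [← Scheme.Hom.app_eq_appLE] at hkX
  show b - (f'.app V).hom a ∈ _
  have hm : b - (f'.app V).hom a ∈ RingHom.ker (iX.app (f' ⁻¹ᵁ V)).hom := by
    rw [RingHom.mem_ker, map_sub, sub_eq_zero]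
    exact ha.symm
  rw [hkX] at hm
  exact hm

theorem isImmersion_of_nilpotent_base (hI : IsNilpotent (RingHom.ker (c.app ⊤).hom))
    (hY : IsPullback iY p q c) (hc : IsPullback iX f f' iY) [IsImmersion f] : IsImmersion f' := by
  have : IsClosedImmersion iY := MorphismProperty.of_isPullback hY.flip ‹IsClosedImmersion c›
  have : Surjective iY := MorphismProperty.of_isPullback hY.flip ‹Surjective c›
  have : Surjective iX := MorphismProperty.of_isPullback hc.flip ‹Surjective iY›
  obtain ⟨U, hUopen, hU⟩ :=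
    iY.isClosedEmbedding.isInducing.isOpen_iff.mp f.coborderRange.isOpen
  let U' : Y'.Opens := ⟨U, hUopen⟩
  have hpre : iY ⁻¹ᵁ U' = f.coborderRange := TopologicalSpace.Opens.ext hU
  have hrange : Set.range f ⊆ (f.coborderRange : Set Y) := subset_coborder
  have hle : (⊤ : X'.Opens) ≤ f' ⁻¹ᵁ U' := by
    rintro x' -
    obtain ⟨x, rfl⟩ := iX.surjective x'
    have h1 : f x ∈ iY ⁻¹ᵁ U' := hpre ▸ hrange ⟨x, rfl⟩
    show f' (iX x) ∈ U'
    rw [← Scheme.Hom.comp_apply, hc.w]
    exact h1
  have hUY : (⊤ : X.Opens) = iX ⁻¹ᵁ ⊤ ⊓ f ⁻¹ᵁ f.coborderRange := by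
    refine (eq_top_iff.mpr fun x _ => ⟨trivial, hrange ⟨x, rfl⟩⟩).symm
  have hc' := Scheme.Hom.isPullback_resLE hc (US := U') (UT := f.coborderRange) (UX := ⊤)
    hpre.ge hle hUY
  have hY' : IsPullback (iY.resLE U' f.coborderRange hpre.ge) (f.coborderRange.ι ≫ p) (U'.ι ≫ q) c := by
    have h : ∀ (W : Y.Opens) (h : iY ⁻¹ᵁ U' = W),
        IsPullback (iY.resLE U' W h.ge) (W.ι ≫ p) (U'.ι ≫ q) c := by
      rintro W rfl
      rw [Scheme.Hom.resLE_eq_morphismRestrict]
      exact (isPullback_morphismRestrict iY U').paste_vert hY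
    exact h _ hpre
  have : IsClosedImmersion (f.resLE f.coborderRange ⊤ (hUY.le.trans inf_le_right)) := by
    have h1 : f.resLE f.coborderRange ⊤ (hUY.le.trans inf_le_right) =
        (X.topIso.hom ≫ f.liftCoborder) := by
      rw [← cancel_mono f.coborderRange.ι]
      simp
    rw [h1]
    infer_instance
  have h2 : IsClosedImmersion (f'.resLE U' ⊤ hle) := isClosedImmersion_of_nilpotent_base hI hY' hc'
  have h3 : f' = X'.topIso.inv ≫ f'.resLE U' ⊤ hle ≫ U'.ι := by simp
  rw [h3]
  infer_instance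

end Groth.Agent.Lib.ActSep
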