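import Groth.Agent.Lib.ActSep.Criterion
import Groth.Agent.H63.GrpIrred
import Groth.Agent.Lib.GrpSch.ConnFibre

/-!
Orbit maps of geometric points, translations, and maximal points.
-/

universe u

open CategoryTheory Limits MonoidalCategory CartesianMonoidalCategory MonObj AlgebraicGeometry

namespace Groth.Agent.Lib.ActSep

open Groth.Agent.Lib.GrpSch Groth.Agent.Lib.ActSep.MaxPt

variable {S : Scheme.{u}} {G X T : Over S} [GrpObj G] (a : AlgGrp.Action G X)

/-- The orbit map of a point, `(g, t) ↦ (g • x t, t)`. -/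
noncomputable def orb (x : T ⟶ X) : G ⊗ T ⟶ X ⊗ T :=
  lift (lift (fst G T) (snd G T ≫ x) ≫ a.act) (snd G T)

/-- Left translation of `G ⊗ T` by a point. -/
noncomputable def mulL (h : T ⟶ G) : G ⊗ T ⟶ G ⊗ T := lift ((snd G T ≫ h) * fst G T) (snd G T)

/-- Translation of `X ⊗ T` by a point. -/
noncomputable def actL (h : T ⟶ G) : X ⊗ T ⟶ X ⊗ T :=
  lift (lift (snd X T ≫ h) (fst X T) ≫ a.act) (snd X T)

theorem mulL_comp (h k : T ⟶ G) : mulL h ≫ mulL k = mulL (k * h) := by
  simp [mulL, MonObj.comp_mul, _root_.mul_assoc]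

theorem mulL_one : mulL (1 : T ⟶ G) = 𝟙 (G ⊗ T) := by
  simp [mulL, MonObj.comp_one]

theorem actL_comp (h k : T ⟶ G) : actL a h ≫ actL a k = actL a (k * h) := by
  ext1 <;> simp [actL, comp_lift_assoc, MonObj.comp_mul, act_mul]

theorem actL_one : actL a (1 : T ⟶ G) = 𝟙 (X ⊗ T) := by
  ext1 <;> simp [actL, MonObj.comp_one]

theorem mulL_orb (h : T ⟶ G) (x : T ⟶ X) : mulL h ≫ orb a x = orb a x ≫ actL a h := by
  ext1 <;> simp [orb, actL, mulL, comp_lift_assoc, act_mul]

/-- Left translation as an isomorphism. -/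
noncomputable def mulLIso (h : T ⟶ G) : G ⊗ T ≅ G ⊗ T where
  hom := mulL h
  inv := mulL h⁻¹
  hom_inv_id := by rw [mulL_comp, inv_mul_cancel, mulL_one]
  inv_hom_id := by rw [mulL_comp, mul_inv_cancel, mulL_one]

/-- Translation of `X ⊗ T` as an isomorphism. -/
noncomputable def actLIso (h : T ⟶ G) : X ⊗ T ≅ X ⊗ T where
  hom := actL a h
  inv := actL a h⁻¹
  hom_inv_id := by rw [actL_comp, inv_mul_cancel, actL_one]
  inv_hom_id := by rw [actL_comp, mul_inv_cancel, actL_one]

theorem surjective_orb (hΦ : Surjective (lift a.act (snd G X)).left) (x : T ⟶ X) :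
    Surjective (orb a x).left := by
  have hsnd : (X ◁ x) ≫ snd X X = snd X T ≫ x := whiskerLeft_snd _ _
  have h : IsPullback (G ◁ x).left (orb a x).left (lift a.act (snd G X)).left (X ◁ x).left := by
    refine IsPullback.of_bot ?_ ?_ (isPullback_whiskerLeft X x)
    · rw [← Over.comp_left, ← Over.comp_left]
      rw [show orb a x ≫ snd X T = snd G T from lift_snd _ _, lift_snd]
      exact isPullback_whiskerLeft G x
    · rw [← Over.comp_left, ← Over.comp_left]
      congr 1
      ext1 <;> simp [orb]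
      congr 1
  exact MorphismProperty.of_isPullback (P := @Surjective) h hΦ

variable {K : Type u} [Field K]

/-- A point of `G ⊗ Spec K` moving two geometric points into an open gives the data for the separatedness criterion. -/
theorem exists_translate_of_point (t : Spec (CommRingCat.of K) ⟶ S) (W : G.left.Opens) (U : X.left.Opens)
    (hU : IsSeparated (U.ι ≫ X.hom)) (x₁ x₂ : Over.mk t ⟶ X) (ξ : (G ⊗ Over.mk t).left)
    (hW : (fst G (Over.mk t)).left ξ ∈ W) (h₁ : (fst X _).left ((orb a x₁).left ξ) ∈ U)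
    (h₂ : (fst X _).left ((orb a x₂).left ξ) ∈ U) :
    ∃ (L : Scheme.{u}) (_ : IsReduced L) (_ : Subsingleton L) (_ : Nonempty L)
      (π : L ⟶ Spec (CommRingCat.of K)) (g : Over.mk (π ≫ t) ⟶ G) (p : L)
      (U : X.left.Opens), IsSeparated (U.ι ≫ X.hom) ∧ g.left p ∈ W ∧
        (lift g ((Over.homMk π rfl : Over.mk (π ≫ t) ⟶ Over.mk t) ≫ x₁) ≫ a.act).left p ∈ U ∧
        (lift g ((Over.homMk π rfl : Over.mk (π ≫ t) ⟶ Over.mk t) ≫ x₂) ≫ a.act).left p ∈ U := by
  let r := (G ⊗ Over.mk t).left.fromSpecResidueField ξ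
  let π := r ≫ (snd G (Over.mk t)).left
  let rT : Over.mk (π ≫ t) ⟶ G ⊗ Over.mk t := Over.homMk r (by
    show r ≫ _ = π ≫ t
    rw [← Over.w (snd G (Over.mk t))]
    exact (Category.assoc _ _ _).symm)
  obtain ⟨p⟩ : Nonempty ↥(Spec ((G ⊗ Over.mk t).left.residueField ξ)) := inferInstance
  have hp : rT.left p = ξ := Scheme.fromSpecResidueField_apply ξ p
  have hπ : (Over.homMk π rfl : Over.mk (π ≫ t) ⟶ Over.mk t) = rT ≫ snd G _ :=
    Over.OverMorphism.ext rfl
  have key : ∀ x : Over.mk t ⟶ X, (lift (rT ≫ fst G _) ((Over.homMk π rfl : Over.mk (π ≫ t) ⟶ Over.mk t) ≫ x)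
      ≫ a.act).left p = (fst X _).left ((orb a x).left ξ) := by
    intro x
    have e : lift (rT ≫ fst G _) ((Over.homMk π rfl : Over.mk (π ≫ t) ⟶ Over.mk t) ≫ x) ≫ a.act =
        rT ≫ orb a x ≫ fst X _ := by
      simp [hπ, orb, comp_lift_assoc]
    rw [e, Over.comp_left, Over.comp_left, Scheme.Hom.comp_apply, Scheme.Hom.comp_apply, hp]
  refine ⟨Spec ((G ⊗ Over.mk t).left.residueField ξ), inferInstance, inferInstance, inferInstance,
    π, rT ≫ fst G _, p, U, hU, ?_, ?_, ?_⟩
  · rw [Over.comp_left, Scheme.Hom.comp_apply, hp]; exact hW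
  · rw [key]; exact h₁
  · rw [key]; exact h₂

/-- The preimage in a geometric fibre of an open dense in a fibre is dense. -/
theorem dense_preimage_fst {X : Scheme.{u}} (f : X ⟶ S) (t : Spec (CommRingCat.of K) ⟶ S) {U : Set X}
    (hU : IsOpen U) (s : S) (hs : t (IsLocalRing.closedPoint K) = s)
    (hd : f ⁻¹' {s} ⊆ closure (U ∩ f ⁻¹' {s})) : Dense (pullback.fst f t ⁻¹' U) := by
  subst hs
  obtain ⟨⟨s, φ⟩, rfl⟩ := (Scheme.SpecToEquivOfField K S).symm.surjective t
  set t' : Spec (CommRingCat.of K) ⟶ Spec (S.residueField s) := Spec.map φ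
  have ht : (Scheme.SpecToEquivOfField K S).symm ⟨s, φ⟩ = t' ≫ S.fromSpecResidueField s := rfl
  have hs : ((Scheme.SpecToEquivOfField K S).symm ⟨s, φ⟩) (IsLocalRing.closedPoint K) = s := by
    rw [ht, Scheme.Hom.comp_apply, Scheme.fromSpecResidueField_apply]
  rw [hs] at hd
  rw [ht]
  let q : pullback f (t' ≫ S.fromSpecResidueField s) ⟶ f.fiber s :=
    pullback.lift (pullback.fst _ _) (pullback.snd _ _ ≫ t') (by rw [pullback.condition, Category.assoc])
  have hq : IsPullback q (pullback.snd f (t' ≫ S.fromSpecResidueField s)) (f.fiberToSpecResidueField s) t' := by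
    refine IsPullback.of_right ?_ (pullback.lift_snd _ _ _) (IsPullback.of_hasPullback f (S.fromSpecResidueField s))
    rw [show q ≫ pullback.fst f (S.fromSpecResidueField s) = pullback.fst _ _ from pullback.lift_fst _ _ _]
    exact IsPullback.of_hasPullback _ _
  have : UniversallyOpen t' := inferInstance
  have : UniversallyOpen q := MorphismProperty.of_isPullback (P := @UniversallyOpen) hq.flip this
  have hd' : Dense (f.fiberι s ⁻¹' U) := by
    intro z
    have hz : f.fiberι s z ∈ closure (U ∩ f ⁻¹' {s}) := hd (by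
      rw [← Scheme.Hom.range_fiberι f s]; exact ⟨z, rfl⟩)
    rw [(f.fiberι s).isEmbedding.isInducing.closure_eq_preimage_closure_image, Set.mem_preimage,
      Set.image_preimage_eq_inter_range, Scheme.Hom.range_fiberι]
    exact hz
  have := hd'.preimage q.isOpenMap
  rwa [← Set.preimage_comp, show (f.fiberι s ∘ q : _ → X) = pullback.fst f (t' ≫ S.fromSpecResidueField s) from by
    rw [← TopCat.coe_comp, ← Scheme.Hom.comp_base]; exact congrArg (fun φ : _ ⟶ X => ⇑φ) (pullback.lift_fst _ _ _)] at this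

/-- Maximal points go to maximal points under orbit maps. -/
theorem isMaxPt_orb [IsAlgClosed K] [LocallyOfFiniteType G.hom] (t : Spec (CommRingCat.of K) ⟶ S)
    (hΦ : Surjective (lift a.act (snd G X)).left) (x : Over.mk t ⟶ X)
    {ξ : (G ⊗ Over.mk t).left} (hξ : IsMaxPt ξ) : IsMaxPt ((orb a x).left ξ) := by
  let T := Over.mk t
  let π : (G ⊗ T).left ⟶ Spec (CommRingCat.of K) := (snd G T).left
  have : LocallyOfFiniteType π := snd_left_of (P := @LocallyOfFiniteType) T ‹_›
  have : JacobsonSpace (G ⊗ T).left := LocallyOfFiniteType.jacobsonSpace π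
  have : IsLocallyNoetherian (G ⊗ T).left := LocallyOfFiniteType.isLocallyNoetherian π
  have := surjective_orb a hΦ x
  -- some maximal point goes to a maximal point
  obtain ⟨η', hη', -⟩ := exists_isMaxPt (X ⊗ T).left ((orb a x).left ξ)
  obtain ⟨z, hz⟩ := (orb a x).left.surjective η'
  obtain ⟨ξ₀, hξ₀, hsp⟩ := exists_isMaxPt (G ⊗ T).left z
  have h₀ : IsMaxPt ((orb a x).left ξ₀) := by
    have h := hsp.map (orb a x).left.continuous
    rw [hz] at h
    rwa [hη' _ h]
  -- the translation
  have hpt : ∀ c ∈ closedPoints (G ⊗ T).left, ∃ g : T ⟶ G,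
      (lift g (𝟙 T)).left (IsLocalRing.closedPoint K) = c := by
    intro c hc
    let q : T ⟶ G ⊗ T := Over.homMk (pointOfClosedPoint π c hc) (by
      rw [← Over.w (snd G T), ← Category.assoc]
      exact (congrArg (· ≫ t) (pointOfClosedPoint_comp π c hc)).trans (Category.id_comp t))
    refine ⟨q ≫ fst G T, ?_⟩
    have : q = lift (q ≫ fst G T) (𝟙 _) := by
      refine CartesianMonoidalCategory.hom_ext _ _ (by simp) (Over.OverMorphism.ext ?_)
      rw [lift_snd, Over.comp_left]
      exact pointOfClosedPoint_comp π c hc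
    rw [← this]
    exact pointOfClosedPoint_apply π c hc _
  obtain ⟨V, hV, hξV, hVsub⟩ := exists_open_subset_closure hξ
  obtain ⟨c, hcV, hc⟩ := nonempty_inter_closedPoints ⟨ξ, hξV⟩ hV.isLocallyClosed
  obtain ⟨c₀, hc₀', hc₀⟩ := nonempty_inter_closedPoints ⟨ξ₀, subset_closure (Set.mem_singleton ξ₀)⟩
    (isClosed_closure (s := {ξ₀})).isLocallyClosed
  obtain ⟨h, rfl⟩ := hpt c hc
  obtain ⟨h₁, rfl⟩ := hpt c₀ hc₀
  let τ := mulLIso (h * h₁⁻¹)
  let eτ := ((Over.forget S).mapIso τ)
  have hτ : τ.hom.left ((lift h₁ (𝟙 T)).left (IsLocalRing.closedPoint K)) =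
      (lift h (𝟙 T)).left (IsLocalRing.closedPoint K) := by
    rw [← Scheme.Hom.comp_apply, ← Over.comp_left]
    simp [τ, mulLIso, mulL, MonObj.comp_mul]
  have h2 : τ.hom.left ξ₀ ⤳ (lift h (𝟙 T)).left (IsLocalRing.closedPoint K) := by
    rw [← hτ]
    exact (specializes_iff_mem_closure.2 hc₀').map τ.hom.left.continuous
  have h3 : ξ ⤳ τ.hom.left ξ₀ := specializes_iff_mem_closure.2 (hVsub (h2.mem_open hV hcV))
  have hmax : IsMaxPt (τ.hom.left ξ₀) := isMaxPt_homeo eτ.hom.homeomorph hξ₀
  have heq : ξ = τ.hom.left ξ₀ := hmax ξ h3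
  rw [heq, ← Scheme.Hom.comp_apply, ← Over.comp_left,
    show τ.hom ≫ orb a x = orb a x ≫ (actLIso a (h * h₁⁻¹)).hom from mulL_orb a _ x,
    Over.comp_left, Scheme.Hom.comp_apply]
  exact isMaxPt_homeo ((Over.forget S).mapIso (actLIso a (h * h₁⁻¹))).hom.homeomorph h₀

/-- A connected group scheme locally of finite type over a field is irreducible. -/
theorem irreducibleSpace_of_connected (H : Over (Spec (CommRingCat.of K))) [GrpObj H]
    [LocallyOfFiniteType H.hom] [ConnectedSpace H.left] : IrreducibleSpace H.left := by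
  open Groth.Agent.H63.GrpIrred in
  have : IsLocallyNoetherian H.left := LocallyOfFiniteType.isLocallyNoetherian H.hom
  let x : H.left := unitPt H
  have hcl : IsClopen (irreducibleComponent x) := by
    refine ⟨isClosed_irreducibleComponent, isOpen_iff_mem_nhds.2 fun y hy => ?_⟩
    have hmax : IsMaxPt (genPt H x) := fun z hz => genPt_max H hz
    obtain ⟨U, hU, hyU, -⟩ := exists_isAffineOpen_mem_and_subset (U := ⊤) (x := y) trivial
    have : IsNoetherianRing Γ(H.left, U) := IsLocallyNoetherian.component_noetherian ⟨U, hU⟩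
    have : TopologicalSpace.NoetherianSpace U.1 := noetherianSpace_of_isAffineOpen U hU
    let comps : Set (Set U.1) := {Z | Z ∈ irreducibleComponents U.1 ∧ (⟨y, hyU⟩ : U.1) ∉ Z}
    have hfin : comps.Finite :=
      TopologicalSpace.NoetherianSpace.finite_irreducibleComponents.subset fun Z hZ => hZ.1
    have hclosed : IsClosed (⋃₀ comps) := by
      rw [Set.sUnion_eq_biUnion]
      exact hfin.isClosed_biUnion fun Z hZ => isClosed_of_mem_irreducibleComponents Z hZ.1
    refine Filter.mem_of_superset ((U.2.isOpenMap_subtype_val _ hclosed.isOpen_compl).mem_nhds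
      ⟨⟨y, hyU⟩, fun ⟨Z, hZ, h⟩ => hZ.2 h, rfl⟩) ?_
    rintro _ ⟨⟨w, hwU⟩, hw, rfl⟩
    have hwZ := irreducibleComponent_mem_irreducibleComponents (⟨w, hwU⟩ : U.1)
    have hyZ : (⟨y, hyU⟩ : U.1) ∈ irreducibleComponent (⟨w, hwU⟩ : U.1) := by
      by_contra h
      exact hw ⟨_, ⟨hwZ, h⟩, mem_irreducibleComponent⟩
    obtain ⟨Z, hZ, hsub⟩ := exists_mem_irreducibleComponents_subset_of_isIrreducible _
      (hwZ.1.image _ continuous_subtype_val.continuousOn)
    have e1 := eq_irreducibleComponent H hZ (hsub ⟨_, hyZ, rfl⟩)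
    have e2 : (irreducibleComponent y) = irreducibleComponent x := by
      rw [irreducibleComponent_eq H y, irreducibleComponent_eq H x, (mem_component_iff H).1 hy]
    rw [← e2, ← e1]
    exact hsub ⟨_, mem_irreducibleComponent, rfl⟩
  have huniv := hcl.eq_univ ⟨x, mem_irreducibleComponent⟩
  have : PreirreducibleSpace H.left := ⟨huniv ▸ isIrreducible_irreducibleComponent.2⟩
  exact { toNonempty := ⟨x⟩ }

theorem irreducibleSpace_geomFibre [LocallyOfFiniteType G.hom]
    (hconn : ∀ s : S, _root_.IsConnected (G.hom ⁻¹' {s})) (t : Spec (CommRingCat.of K) ⟶ S) :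
    IrreducibleSpace (G ⊗ Over.mk t).left := by
  have hc : ∀ s : S, ConnectedSpace (G.hom.fiber s) := fun s =>
    have := Subtype.connectedSpace (hconn s)
    (G.hom.fiberHomeo s).symm.surjective.connectedSpace (G.hom.fiberHomeo s).symm.continuous
  have := geometricallyConnected_of_section G.hom η[G].left (η_left_comp_hom G) hc
  let H : Over (Spec (CommRingCat.of K)) := (Over.pullback t).obj G
  let : GrpObj H := ((Over.pullback t).mapGrp.obj ⟨G⟩).grp
  have : LocallyOfFiniteType H.hom := inferInstanceAs (LocallyOfFiniteType (pullback.snd G.hom t))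
  have : ConnectedSpace H.left := by
    exact GeometricallyConnected.geometrically_connectedSpace t (pullback.fst G.hom t) (pullback.snd G.hom t)
      (IsPullback.of_hasPullback G.hom t)
  exact irreducibleSpace_of_connected H

end Groth.Agent.Lib.ActSep
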