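import Groth.Agent.Lib.GenFree.Good
import Groth.Agent.Lib.FreeRes.OfFree
import Mathlib.AlgebraicGeometry.Morphisms.FiniteType

/-!
Over an integral base a morphism of finite type is essentially free over a nonempty open.
-/

universe u

open CategoryTheory Limits AlgebraicGeometry TopologicalSpace
open Groth.Agent.Lib
open scoped TensorProduct

set_option autoImplicit false
set_option linter.style.haveILetI false
set_option backward.isDefEq.respectTransparency false
set_option backward.isDefEq.respectTransparency.types false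

namespace Groth.Agent.Lib.ActSep.GenericFree

/-- A module free up to powers of `g` becomes projective on inverting `g`. -/
theorem projective_of_freeUpTo {A C A' C' : Type u} [CommRing A] [CommRing C] [CommRing A']
    [CommRing C'] [Algebra A C] [Algebra A A'] [Algebra A' C'] [Algebra C C'] [Algebra A C']
    [IsScalarTower A A' C'] [IsScalarTower A C C'] (g : A) [IsLocalization.Away g A']
    [IsLocalization.Away (algebraMap A C g) C'] (hfree : GenFree.FreeUpTo g C) :
    Module.Projective A' C' := by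
  let M := Submonoid.powers g
  haveI : IsLocalization (Algebra.algebraMapSubmonoid C M) C' := by
    rw [Algebra.algebraMapSubmonoid_powers]; infer_instance
  haveI : IsLocalizedModule M (IsScalarTower.toAlgHom A C C').toLinearMap :=
    (isLocalizedModule_iff_isLocalization).2 inferInstance
  have hb : IsBaseChange A' (IsScalarTower.toAlgHom A C C').toLinearMap :=
    IsLocalizedModule.isBaseChange M A' _
  have := hfree.free
  haveI : Module.Free (Localization.Away g) (Localization.Away g ⊗[A] C) :=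
    Module.Free.of_equiv (IsLocalizedModule.isBaseChange M (Localization.Away g)
      (LocalizedModule.mkLinearMap M C)).equiv.symm
  letI : Algebra (Localization.Away g) A' :=
    (IsLocalization.algEquiv M (Localization.Away g) A').toRingHom.toAlgebra
  haveI : IsScalarTower A (Localization.Away g) A' := .of_algebraMap_eq fun x =>
    ((IsLocalization.algEquiv M (Localization.Away g) A').commutes x).symm
  exact Module.Projective.of_equiv
    ((TensorProduct.AlgebraTensorModule.cancelBaseChange A (Localization.Away g) A' A' C).trans hb.equiv)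

/-- Over an affine base a projectively covered scheme is essentially free. -/
theorem isEssentiallyFree_of_projCovered {Z S : Scheme.{u}} [IsAffine S] {f : Z ⟶ S}
    (hf : FreeRes.ProjCovered f) : SGA3x.IsEssentiallyFree f :=
  haveI : IsAffine (⊤ : S.Opens).toScheme := isAffineOpen_top S
  FreeRes.isEssentiallyFree_of_local fun _ => ⟨⊤, trivial, isAffineOpen_top S, _, pullback.fst f _,
    pullback.snd f _, IsPullback.of_hasPullback _ _,
    FreeRes.projCovered_baseChange hf (IsPullback.of_hasPullback _ _)⟩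

variable {S : Scheme.{u}} [IsIntegral S]

/-- A morphism of finite type to an integral scheme is essentially free over a nonempty open. -/
theorem exists_open_essentiallyFree {X : Scheme.{u}} (h : X ⟶ S) [LocallyOfFiniteType h]
    [QuasiCompact h] :
    ∃ U : S.Opens, (U : Set S).Nonempty ∧ ∀ (T : Scheme.{u}) (t : T ⟶ S),
      Set.range t ⊆ U → SGA3x.IsEssentiallyFree (pullback.snd h t) := by
  obtain ⟨V, hV, hxV, -⟩ := exists_isAffineOpen_mem_and_subset (X := S) (x := genericPoint S)
    (U := ⊤) trivial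
  have : Nonempty V := ⟨⟨_, hxV⟩⟩
  obtain ⟨W, hWfin, hW, hcov⟩ : ∃ W : Set X.affineOpens, W.Finite ∧ (∀ w ∈ W, w.1 ≤ h ⁻¹ᵁ V) ∧
      ∀ x, h x ∈ V → ∃ w ∈ W, x ∈ w.1 := by
    have hc : IsCompact (h ⁻¹ᵁ V : Set X) :=
      QuasiCompact.isCompact_preimage _ V.isOpen hV.isCompact
    obtain ⟨T, hT, hTf, hsub⟩ := hc.elim_finite_subcover_image
      (b := {w : X.affineOpens | w.1 ≤ h ⁻¹ᵁ V}) (c := fun w ↦ (w.1 : Set X))
      (fun w _ ↦ w.1.isOpen) (fun x hx ↦ by
        obtain ⟨w, hw, hxw, hle⟩ := exists_isAffineOpen_mem_and_subset (show x ∈ h ⁻¹ᵁ V from hx)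
        exact Set.mem_biUnion (x := ⟨w, hw⟩) hle hxw)
    exact ⟨T, hTf, fun w hw => hT hw, fun x hx => by simpa using hsub hx⟩
  obtain ⟨g, hg, hgood⟩ : ∃ g : Γ(S, V), g ≠ 0 ∧ ∀ w ∈ W, ∀ hle : w.1 ≤ h ⁻¹ᵁ V,
      letI := (h.appLE V w.1 hle).hom.toAlgebra
      GenFree.FreeUpTo g Γ(X, w.1) := by
    suffices H : ∀ W' : Set X.affineOpens, W'.Finite → ∃ g : Γ(S, V), g ≠ 0 ∧
        ∀ w ∈ W', ∀ hle : w.1 ≤ h ⁻¹ᵁ V, letI := (h.appLE V w.1 hle).hom.toAlgebra
          GenFree.FreeUpTo g Γ(X, w.1) from H W hWfin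
    intro W' hW'
    induction W', hW' using Set.Finite.induction_on with
    | empty => exact ⟨1, one_ne_zero, fun _ hw => hw.elim⟩
    | @insert w W' _ _ ih =>
      obtain ⟨g, hg, hgood⟩ := ih
      by_cases hle : w.1 ≤ h ⁻¹ᵁ V
      · letI := (h.appLE V w.1 hle).hom.toAlgebra
        have hft : Algebra.FiniteType Γ(S, V) Γ(X, w.1) := h.finiteType_appLE hV w.2 hle
        obtain ⟨n, α, hα⟩ := Algebra.FiniteType.iff_quotient_mvPolynomial''.1
          hft
        obtain ⟨g', hg', hd, hfree, -⟩ := GenFree.exists_upTo_finiteType Γ(X, w.1) α hα Γ(X, w.1)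
          (fun _ : Fin 1 => 1) (by rw [Set.range_const, Ideal.submodule_span_eq,
            Ideal.span_singleton_one]) g hg
        refine ⟨g', hg', fun w' hw' hle' => ?_⟩
        rcases Set.mem_insert_iff.1 hw' with rfl | hw'
        · exact hfree
        · letI := (h.appLE V w'.1 hle').hom.toAlgebra
          exact (hgood w' hw' hle').mono hd
      · refine ⟨g, hg, fun w' hw' hle' => ?_⟩
        rcases Set.mem_insert_iff.1 hw' with rfl | hw'
        · exact absurd hle' hle
        · exact hgood w' hw' hle'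
  let U := S.basicOpen g
  have hU : IsAffineOpen U := hV.basicOpen g
  have hUne : (U : Set S).Nonempty := by
    by_contra hc
    apply hg
    rw [← basicOpen_eq_bot_iff g]
    exact SetLike.coe_injective (Set.not_nonempty_iff_eq_empty.1 hc)
  haveI : IsAffine (U : Scheme.{u}) := hU
  have hP : FreeRes.ProjCovered (h ∣_ U) := by
    intro x
    obtain ⟨w, hwW, hxw⟩ := hcov ((h ⁻¹ᵁ U).ι x) (S.basicOpen_le g x.2)
    have hle := hW w hwW
    let f₀ := h.appLE V w.1 hle g
    let O := X.basicOpen f₀
    have hOle : O ≤ h ⁻¹ᵁ U := by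
      show X.basicOpen _ ≤ _
      rw [Scheme.basicOpen_appLE]; exact inf_le_right
    have hxO : (h ⁻¹ᵁ U).ι x ∈ O := by
      show _ ∈ X.basicOpen _
      rw [Scheme.basicOpen_appLE]; exact ⟨hxw, x.2⟩
    let O' := (h ⁻¹ᵁ U).ι ⁻¹ᵁ O
    have hO' : IsAffineOpen O' := (w.2.basicOpen f₀).preimage_of_isOpenImmersion _
      (by rw [Scheme.Opens.opensRange_ι]; exact hOle)
    refine ⟨O', hxO, hO', ?_⟩
    let j := O'.ι ≫ (h ⁻¹ᵁ U).ι
    have hjr : j.opensRange = O := by
      show (O'.ι ≫ (h ⁻¹ᵁ U).ι).opensRange = O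
      rw [Scheme.Hom.opensRange_comp, Scheme.Opens.opensRange_ι, Scheme.Hom.image_preimage_eq_opensRange_inf,
        Scheme.Opens.opensRange_ι, inf_eq_right]
      exact hOle
    have hjO : j ⁻¹ᵁ O = ⊤ := by rw [← hjr, Scheme.Hom.preimage_opensRange]
    haveI : IsIso (j.appLE O ⊤ hjO.ge) := by
      haveI := j.isIso_app O hjr.ge
      unfold Scheme.Hom.appLE
      haveI : IsIso (homOfLE hjO.ge : (⊤ : Opens _) ⟶ j ⁻¹ᵁ O) := ⟨homOfLE hjO.le, rfl, rfl⟩
      infer_instance
    refine FreeRes.projective_of_isPushout (a := U.topIso.inv) (c := h.appLE U O hOle)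
      (b := j.appLE O ⊤ hjO.ge) (IsPushout.of_horiz_isIso ⟨?_⟩) ?_
    · have e : (O'.ι ≫ h ∣_ U) ≫ U.ι = j ≫ h := by
        rw [Category.assoc, morphismRestrict_ι, ← Category.assoc]
      have e1 : ∀ e₁, U.ι.appLE U ⊤ e₁ = U.topIso.inv := fun e₁ => by
        simp [Scheme.Hom.appLE, Scheme.Opens.topIso_inv]
        rw [← Functor.map_comp]; rfl
      have e2 : (O'.ι ≫ h ∣_ U).appLE ⊤ ⊤ le_top = (O'.ι ≫ h ∣_ U).appTop :=
        (Scheme.Hom.app_eq_appLE _).symm
      rw [Scheme.Hom.appLE_comp_appLE]
      simp only [← e]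
      rw [← Scheme.Hom.appLE_comp_appLE (O'.ι ≫ h ∣_ U) U.ι U ⊤ ⊤
        (by rw [Scheme.Opens.ι_preimage_self]) le_top, e1, e2]
    · letI := (h.appLE V w.1 hle).hom.toAlgebra
      letI := (S.presheaf.map (homOfLE (S.basicOpen_le g)).op).hom.toAlgebra
      letI := (h.appLE U O hOle).hom.toAlgebra
      letI := (X.presheaf.map (homOfLE (X.basicOpen_le f₀)).op).hom.toAlgebra
      letI := ((h.appLE U O hOle).hom.comp (S.presheaf.map (homOfLE (S.basicOpen_le g)).op).hom).toAlgebra
      haveI : IsScalarTower Γ(S, V) Γ(S, U) Γ(X, O) := .of_algebraMap_eq' rfl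
      haveI : IsScalarTower Γ(S, V) Γ(X, w.1) Γ(X, O) := .of_algebraMap_eq' (by
        exact congrArg CommRingCat.Hom.hom
          ((Scheme.Hom.map_appLE h hOle _).trans (Scheme.Hom.appLE_map h hle _).symm))
      haveI : IsLocalization.Away g Γ(S, U) := hV.isLocalization_basicOpen g
      haveI : IsLocalization.Away (algebraMap Γ(S, V) Γ(X, w.1) g) Γ(X, O) :=
        w.2.isLocalization_basicOpen f₀
      exact projective_of_freeUpTo (C := Γ(X, w.1)) g (hgood w hwW hle)
  refine ⟨U, hUne, fun T t ht => ?_⟩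
  let t' := IsOpenImmersion.lift U.ι t (by rwa [Scheme.Opens.range_ι])
  have ht' : t' ≫ U.ι = t := IsOpenImmersion.lift_fac _ _ _
  have sq := (isPullback_morphismRestrict h U).flip
  refine FreeRes.isEssentiallyFree_baseChange (isEssentiallyFree_of_projCovered hP)
    (g' := sq.lift (pullback.fst h t) (pullback.snd h t ≫ t')
      (by rw [pullback.condition, Category.assoc, ht'])) (g := t') ?_
  refine IsPullback.of_right ?_ (sq.lift_snd _ _ _) sq
  rw [sq.lift_fst, ht']
  exact IsPullback.of_hasPullback h t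

end Groth.Agent.Lib.ActSep.GenericFree
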