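import Groth.Agent.Lib.ActSep.Homog
import Groth.Agent.H47.LQFDescend
import Groth.Agent.H14.Sep.SelfBC

/-!
Quasi-finiteness and unramifiedness are pointwise insensitive to base change; the diagonal of a group scheme.
-/

universe u

open CategoryTheory Limits MonoidalCategory CartesianMonoidalCategory MonObj AlgebraicGeometry Topology

namespace Groth.Agent.Lib.ActSep

open Groth.Agent.Lib.GrpSch

theorem pointwiseBC_formallyUnramified : PointwiseBC.{u} @FormallyUnramified where
  descend f _ g w hw := Groth.Agent.H75.BaseChange.unramified_nhd_descend f g w hw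

theorem pointwiseBC_locallyQuasiFinite : PointwiseBC.{u} @LocallyQuasiFinite where
  descend f _ g w := fun ⟨U, hU, hUP⟩ => by
    have h1 : (pullback.snd f g).QuasiFiniteAt w :=
      (Scheme.Hom.quasiFiniteAt_comp_iff_of_isOpenImmersion (f := U.ι) (g := pullback.snd f g) (x := ⟨w, hU⟩)).1
        (Scheme.Hom.quasiFiniteAt (U.ι ≫ pullback.snd f g) _)
    exact ⟨f.quasiFiniteLocus, Groth.Agent.H47.LQFDescend.quasiFiniteAt_of_isPullback (IsPullback.of_hasPullback f g) h1,
      inferInstance⟩

variable {S : Scheme.{u}} (G : Over S) [GrpObj G]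

theorem isPullback_diagonal :
    IsPullback (lift (𝟙 G) (𝟙 G)) (toUnit G) (fst G G * (snd G G)⁻¹) η[G] := by
  have h1 : lift (𝟙 G) (𝟙 G) ≫ (fst G G * (snd G G)⁻¹) = toUnit G ≫ η[G] := by
    rw [MonObj.comp_mul, GrpObj.comp_inv, lift_fst, lift_snd, mul_inv_cancel, Hom.one_def]
  refine ⟨⟨h1⟩, ⟨PullbackCone.IsLimit.mk _ (fun c => c.fst ≫ fst G G) (fun c => ?_) (fun c => toUnit_unique _ _)
    (fun c m hm _ => by rw [← hm]; simp)⟩⟩
  have h := c.condition
  rw [MonObj.comp_mul, GrpObj.comp_inv, Subsingleton.elim c.snd (toUnit _), ← Hom.one_def,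
    mul_inv_eq_one] at h
  apply CartesianMonoidalCategory.hom_ext
  · simp
  · simp [h]

theorem formallyUnramified_of_isOpenImmersion_unit [IsOpenImmersion η[G].left] : FormallyUnramified G.hom := by
  have sq := (isPullback_diagonal G).map (Over.forget S)
  have h : IsOpenImmersion (lift (𝟙 G) (𝟙 G)).left :=
    MorphismProperty.of_isPullback (P := @IsOpenImmersion) sq.flip ‹_›
  have e : (lift (𝟙 G) (𝟙 G)).left = pullback.diagonal G.hom := by
    apply pullback.hom_ext
    · rw [pullback.diagonal_fst]
      exact (congrArg CommaMorphism.left (lift_fst (𝟙 G) (𝟙 G))).trans rfl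
    · rw [pullback.diagonal_snd]
      exact (congrArg CommaMorphism.left (lift_snd (𝟙 G) (𝟙 G))).trans rfl
  rw [e] at h
  infer_instance

theorem formallyUnramified_iff_isOpenImmersion_unit [LocallyOfFiniteType G.hom] :
    FormallyUnramified G.hom ↔ IsOpenImmersion η[G].left :=
  ⟨fun _ => Groth.Agent.H14.Sep.SelfBC.isOpenImmersion_of_section G.hom η[G].left (η_left_comp_hom G),
    fun _ => formallyUnramified_of_isOpenImmersion_unit G⟩

end Groth.Agent.Lib.ActSep
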