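import Groth.Agent.Lib.ActSep.GrpFinite
import Groth.Agent.Lib.ActSep.HomogInst
import Mathlib.RingTheory.Artinian.Module
import Mathlib.RingTheory.Jacobson.Ring

/-!
Homomorphisms of group schemes locally of finite type over an artinian local ring.
-/

universe u

open CategoryTheory Limits MonoidalCategory CartesianMonoidalCategory MonObj AlgebraicGeometry Topology

namespace Groth.Agent.Lib.ActSep

open Groth.Agent.Lib Groth.Agent.Lib.GrpSch

variable {A : Type u} [CommRing A] [IsArtinianRing A] [IsLocalRing A]

/-- The geometric point of the spectrum of an artinian local ring. -/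
noncomputable def geomPt (A : Type u) [CommRing A] [IsLocalRing A] :
    Spec (CommRingCat.of (AlgebraicClosure (IsLocalRing.ResidueField A))) ⟶ Spec (CommRingCat.of A) :=
  Spec.map (CommRingCat.ofHom (algebraMap (IsLocalRing.ResidueField A) (AlgebraicClosure (IsLocalRing.ResidueField A)))) ≫
    Spec.map (CommRingCat.ofHom (IsLocalRing.residue A))

theorem isIntegralHom_geomPt : IsIntegralHom (geomPt A) := by
  have h1 : IsIntegralHom (Spec.map (CommRingCat.ofHom (algebraMap (IsLocalRing.ResidueField A)
      (AlgebraicClosure (IsLocalRing.ResidueField A))))) := by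
    rw [IsIntegralHom.SpecMap_iff]
    exact fun y => Algebra.IsIntegral.isIntegral y
  have : IsClosedImmersion (Spec.map (CommRingCat.ofHom (IsLocalRing.residue A))) :=
    IsClosedImmersion.spec_of_surjective _ IsLocalRing.residue_surjective
  unfold geomPt
  infer_instance

theorem surjective_geomPt : Surjective (geomPt A) :=
  ⟨fun x => ⟨IsLocalRing.closedPoint (AlgebraicClosure (IsLocalRing.ResidueField A)),
    Subsingleton.elim (α := PrimeSpectrum A) _ x⟩⟩

variable {G H : Over (Spec (CommRingCat.of A))} [GrpObj G] [GrpObj H] [LocallyOfFiniteType G.hom]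
  [LocallyOfFiniteType H.hom]

omit [GrpObj H] [LocallyOfFiniteType H.hom] in
theorem isSeparated_of_artinian : IsSeparated G.hom := by
  have : IsNoetherianRing A := inferInstance
  have : IsLocallyNoetherian G.left := LocallyOfFiniteType.isLocallyNoetherian G.hom
  have : JacobsonSpace G.left := LocallyOfFiniteType.jacobsonSpace G.hom
  have : IsImmersion η[G].left := isImmersion_η G
  have : Subsingleton ↥(𝟙_ (Over (Spec (CommRingCat.of A)))).left := inferInstanceAs (Subsingleton (PrimeSpectrum A))
  obtain ⟨pt⟩ : Nonempty ↥(𝟙_ (Over (Spec (CommRingCat.of A)))).left := inferInstanceAs (Nonempty (PrimeSpectrum A))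
  have h : ({η[G].left pt} : Set G.left) = Set.range η[G].left := by
    ext y
    exact ⟨fun h => ⟨pt, h.symm⟩, fun ⟨q, hq⟩ => hq ▸ congrArg η[G].left (Subsingleton.elim q pt)⟩
  have : IsClosedImmersion η[G].left := IsClosedImmersion.iff_isPreimmersion.2 ⟨inferInstance,
    h ▸ isClosed_singleton_of_isLocallyClosed_singleton (h ▸ η[G].left.isLocallyClosed_range)⟩
  exact isSeparated_of_isClosedImmersion_η G

theorem isFinite_of_locallyQuasiFinite (u : G ⟶ H) [IsMonHom u] [QuasiCompact u.left]
    [LocallyQuasiFinite u.left] : IsFinite u.left := by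
  let t := geomPt A
  have : LocallyOfFiniteType ((Over.pullback t).obj G).hom :=
    bc_hom_of (P := @LocallyOfFiniteType) t G ‹_›
  have : LocallyOfFiniteType ((Over.pullback t).obj H).hom :=
    bc_hom_of (P := @LocallyOfFiniteType) t H ‹_›
  have : QuasiCompact ((Over.pullback t).map u).left := bc_map_left_of (P := @QuasiCompact) t u ‹_›
  have : LocallyQuasiFinite ((Over.pullback t).map u).left := bc_map_left_of (P := @LocallyQuasiFinite) t u ‹_›
  let := ((Over.pullback t).mapGrp.obj ⟨G⟩).grp
  let := ((Over.pullback t).mapGrp.obj ⟨H⟩).grp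
  have : IsMonHom ((Over.pullback t).map u) := inferInstance
  have : UniversallyClosed ((Over.pullback t).map u).left :=
    universallyClosed_of_locallyQuasiFinite (G := (Over.pullback t).obj G) (H := (Over.pullback t).obj H) ((Over.pullback t).map u)
  have : IsIntegralHom (bcProj t H) := bcProj_of (P := @IsIntegralHom) t H isIntegralHom_geomPt
  have : Surjective (bcProj t G) := bcProj_of (P := @Surjective) t G surjective_geomPt
  have : UniversallyClosed (bcProj t G ≫ u.left) := by rw [← bc_map_proj]; infer_instance
  have : UniversallyClosed u.left := UniversallyClosed.of_comp_surjective (bcProj t G) u.left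
  have : LocallyOfFiniteType (u.left ≫ H.hom) := by rw [Over.w]; infer_instance
  have : LocallyOfFiniteType u.left := locallyOfFiniteType_of_comp u.left H.hom
  have : IsSeparated (u.left ≫ H.hom) := by rw [Over.w]; exact isSeparated_of_artinian
  have : IsSeparated u.left := IsSeparated.of_comp u.left H.hom
  exact (IsFinite.iff_isProper_and_locallyQuasiFinite _).2 ⟨{}, inferInstance⟩

theorem locallyQuasiFinite_of_ker (u : G ⟶ H) [IsMonHom u]
    [LocallyQuasiFinite (pullback.snd u.left η[H].left)] : LocallyQuasiFinite u.left := by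
  have : LocallyOfFiniteType (u.left ≫ H.hom) := by rw [Over.w]; infer_instance
  have : LocallyOfFiniteType u.left := locallyOfFiniteType_of_comp u.left H.hom
  have hG : ∀ s, LocallyOfFiniteType (G.hom.fiberToSpecResidueField s) := fun s =>
    inferInstanceAs (LocallyOfFiniteType (pullback.snd G.hom ((Spec (CommRingCat.of A)).fromSpecResidueField s)))
  have hP := pointwiseBC_locallyQuasiFinite.{u}
  rw [iff_forall_map u hP hG]
  intro s
  rw [map_iff_mem u hP hG]
  have hη : η[G].left ≫ u.left = η[H].left := by rw [← Over.comp_left, IsMonHom.one_hom]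
  let w := pullback.lift η[G].left (𝟙 (𝟙_ (Over (Spec (CommRingCat.of A)))).left) (by rw [hη, Category.id_comp])
  have h := (hP.mem_iff (IsPullback.of_hasPullback u.left η[H].left) (w s)).1
    (((iff_nhdLocus_eq_univ @LocallyQuasiFinite _).1 ‹_›) ▸ Set.mem_univ _)
  rwa [← Scheme.Hom.comp_apply, pullback.lift_fst] at h

end Groth.Agent.Lib.ActSep
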