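import Groth.Agent.Lib.Lim.LocalLimit
import Groth.Agent.Lib.Lim.Props
import Groth.Agent.Lib.GenFree.Good
import Groth.Agent.Lib.FreeRes.OfFree
import Groth.Agent.Lib.ActSep.GrpArt
import Groth.Agent.Lib.AlgSpace.Props

/-!
Properties at the generic point of an integral scheme hold over a nonempty open; generic freeness.
-/

universe u

open CategoryTheory Limits AlgebraicGeometry
open Groth.Agent.Lib.Lim Groth.Agent.Lib.Lim.Basic Groth.Agent.Lib.Lim.Descend Groth.Agent.Lib.Lim.Props
open scoped TensorProduct

set_option autoImplicit false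
set_option backward.isDefEq.respectTransparency false
set_option backward.isDefEq.respectTransparency.types false

namespace Groth.Agent.Lib.ActSep.GenericOpen

variable {S : Scheme.{u}} [IsIntegral S]

/-- A descending property which holds over every field-valued point holds over a nonempty open. -/
theorem exists_open_descends {P Q : MorphismProperty Scheme.{u}} [P.IsStableUnderBaseChange]
    [Q.IsStableUnderBaseChange] (hD : Descends.{u} P Q) {X Y : Scheme.{u}} (f : X ⟶ Y) (h : Y ⟶ S)
    [QuasiCompact h] [QuasiSeparated h] [QuasiCompact f] [QuasiSeparated f] (hQ : Q f)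
    (hgen : ∀ (K : Type u) [Field K] (t : Spec (CommRingCat.of K) ⟶ S),
      P (pullback.snd f (pullback.fst h t))) :
    ∃ U : S.Opens, (U : Set S).Nonempty ∧ ∀ (T : Scheme.{u}) (t : T ⟶ S),
      Set.range t ⊆ U → P (pullback.snd f (pullback.fst h t)) := by
  obtain ⟨V, hV, hVne, -⟩ := AlgebraicGeometry.exists_isAffineOpen_mem_and_subset
    (x := genericPoint S) (U := ⊤) trivial
  have : Nonempty V := ⟨⟨_, hVne⟩⟩
  let A := Γ(S, V)
  let p : PrimeSpectrum A := ⟨⊥, Ideal.isPrime_bot⟩
  let i₀ : LocalLimit.Nhd p := ⟨1, p.asIdeal.ne_top_iff_one.1 p.2.ne_top⟩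
  let D := LocalLimit.diag p
  let c := LocalLimit.cone p
  let b : ∀ r, D.obj r ⟶ S := fun r => (LocalLimit.op' p r).ι ≫ hV.fromSpec
  have hb : ∀ {r} (φ : r ⟶ i₀), D.map φ ≫ b i₀ = b r := fun {r} φ => by
    show (Spec A).homOfLE (leOfHom φ) ≫ _ ≫ _ = _
    rw [← Category.assoc, Scheme.homOfLE_ι]
  haveI : ∀ r, IsAffine (D.obj r) := fun r => IsAffineOpen.Spec_basicOpen r.1
  let Y₀ := pullback h (b i₀)
  let a : Y₀ ⟶ D.obj i₀ := pullback.snd h (b i₀)
  let K := Localization.AtPrime p.asIdeal
  have hK : IsField K := IsLocalRing.isField_iff_maximalIdeal_eq.2 (by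
    rw [← IsLocalization.AtPrime.map_eq_maximalIdeal p.asIdeal K]
    exact Ideal.map_bot)
  letI := hK.toField
  have hPT := IsPullback.of_hasPullback a (c.π.app i₀)
  let X₀ := pullback f (pullback.fst h (b i₀))
  let f₀ : X₀ ⟶ Y₀ := pullback.snd f (pullback.fst h (b i₀))
  have : CompactSpace Y₀ := QuasiCompact.compactSpace_of_compactSpace a
  have : QuasiSeparatedSpace Y₀ := quasiSeparatedSpace_of_quasiSeparated a
  have : CompactSpace X₀ := QuasiCompact.compactSpace_of_compactSpace f₀
  have : QuasiSeparatedSpace X₀ := quasiSeparatedSpace_of_quasiSeparated f₀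
  let q := pullback.fst a (c.π.app i₀)
  have hX := IsPullback.of_hasPullback f₀ q
  have hP : P (pullback.snd f₀ q) := by
    let t : Spec (CommRingCat.of K) ⟶ S := c.π.app i₀ ≫ b i₀
    refine prop_of_factor (hgen K t) (pullback.lift (q ≫ pullback.fst h (b i₀))
      (pullback.snd a (c.π.app i₀)) ?_) (pullback.lift_fst _ _ _)
      (hX.paste_horiz (IsPullback.of_hasPullback f (pullback.fst h (b i₀))))
    rw [Category.assoc, pullback.condition]
    show q ≫ a ≫ b i₀ = _
    rw [← Category.assoc, pullback.condition, Category.assoc]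
  have hD' : ∀ (i j : LocalLimit.Nhd p) (g : i ⟶ j), IsAffineHom (D.map g) := fun i j g => inferInstance
  haveI : ∀ {i j : LocalLimit.Nhd p} (g : i ⟶ j), IsAffineHom (D.map g) := fun g => hD' _ _ g
  have hc := LocalLimit.isLimit p
  obtain ⟨i, φ, hi⟩ := descend_bc hPT (hD _ _ (isLimitBcCone hc hPT)
    (fun _ _ g => inferInstance) _ (compactSpace_bcDiagram D a _) (quasiSeparatedSpace_bcDiagram D a _))
    f₀ inferInstance inferInstance (MorphismProperty.pullback_snd _ _ hQ)
    (pullback.snd f₀ q) (pullback.fst f₀ q) hX hP
  have : IsOpenImmersion (b i) := inferInstanceAs (IsOpenImmersion ((LocalLimit.op' p i).ι ≫ hV.fromSpec))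
  refine ⟨(b i).opensRange, ?_, fun T t ht => ?_⟩
  · exact ⟨b i ⟨p, show i.1 ∉ p.asIdeal from i.2⟩, _, rfl⟩
  let t' := IsOpenImmersion.lift (b i) t (by exact ht)
  have ht' : t' ≫ b i = t := IsOpenImmersion.lift_fac _ _ _
  let g₀ : pullback h t ⟶ Y₀ :=
    pullback.lift (pullback.fst h t) (pullback.snd h t ≫ t' ≫ D.map φ)
      (by rw [pullback.condition, Category.assoc, Category.assoc, hb φ, ht'])
  let g₁ : pullback h t ⟶ pullback a (D.map φ) :=
    pullback.lift g₀ (pullback.snd h t ≫ t') (by rw [pullback.lift_snd, Category.assoc])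
  have sqW : IsPullback (pullback.lift (pullback.fst f (pullback.fst h t))
      (pullback.snd f (pullback.fst h t) ≫ g₀) (by
        rw [pullback.condition, Category.assoc, pullback.lift_fst]))
      (pullback.snd f (pullback.fst h t)) f₀ g₀ := by
    refine IsPullback.of_right ?_ (pullback.lift_snd _ _ _) (IsPullback.of_hasPullback f _)
    rw [pullback.lift_fst, pullback.lift_fst]
    exact IsPullback.of_hasPullback _ _
  exact prop_of_factor hi g₁ (pullback.lift_fst _ _ _) sqW

/-- A group scheme of finite presentation over an integral base is separated over a nonempty open. -/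
theorem exists_open_isSeparated (G : Over S) [GrpObj G] [QuasiCompact G.hom] [QuasiSeparated G.hom] :
    ∃ U : S.Opens, (U : Set S).Nonempty ∧ ∀ (T : Scheme.{u}) (t : T ⟶ S),
      Set.range t ⊆ U → IsSeparated (pullback.snd G.hom t) := by
  obtain ⟨U, hU, h⟩ := exists_open_descends isSeparated_descends G.hom (𝟙 S) trivial
    fun K _ t => by
      let H : Over (Spec (CommRingCat.of K)) := (Over.pullback t).obj G
      letI : GrpObj H := ((Over.pullback t).mapGrp.obj ⟨G⟩).grp
      have hH : IsSeparated (pullback.snd G.hom t) := Groth.Agent.Lib.GrpSch.isSeparated_of_field H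
      exact prop_of_factor hH (pullback.snd (𝟙 S) t)
        (by rw [← pullback.condition, Category.comp_id]) (IsPullback.of_hasPullback _ _)
  refine ⟨U, hU, fun T t ht => prop_of_factor (h T t ht)
    (pullback.lift t (𝟙 T) (by rw [Category.comp_id, Category.id_comp])) (pullback.lift_fst _ _ _)
    (IsPullback.of_hasPullback _ _)⟩

/-- A quasi-compact monomorphism of groups over a field is a closed immersion. -/
theorem isClosedImmersion_mono_field {K : Type u} [Field K] {G H : Over (Spec (CommRingCat.of K))}
    [GrpObj G] [GrpObj H] [LocallyOfFiniteType G.hom] [LocallyOfFiniteType H.hom]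
    (f : H ⟶ G) [IsMonHom f] [Mono f.left] [QuasiCompact f.left] : IsClosedImmersion f.left := by
  have : LocallyOfFiniteType (f.left ≫ G.hom) := by rw [Over.w]; infer_instance
  have : LocallyOfFiniteType f.left := locallyOfFiniteType_of_comp f.left G.hom
  have : LocallyQuasiFinite f.left := Groth.Agent.Lib.AlgSpace.locallyQuasiFinite_of_formallyUnramified f.left
  exact (IsClosedImmersion.iff_isFinite_and_mono _).mpr
    ⟨Groth.Agent.Lib.ActSep.isFinite_of_locallyQuasiFinite f, inferInstance⟩

open Groth.Agent.Lib.GrpSch in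
/-- A quasi-compact monomorphism of groups of finite presentation becomes a closed immersion over a nonempty open. -/
theorem exists_open_isClosedImmersion {G H : Over S} [GrpObj G] [GrpObj H]
    [LocallyOfFiniteType G.hom] [QuasiCompact G.hom] [QuasiSeparated G.hom]
    [LocallyOfFiniteType H.hom] [QuasiSeparated H.hom] (i : H ⟶ G) [IsMonHom i] [Mono i]
    [QuasiCompact i.left] :
    ∃ U : S.Opens, (U : Set S).Nonempty ∧ ∀ (T : Scheme.{u}) (t : T ⟶ S),
      Set.range t ⊆ U → IsClosedImmersion ((Over.pullback t).map i).left := by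
  have : LocallyOfFiniteType (i.left ≫ G.hom) := by rw [Over.w]; infer_instance
  have : LocallyOfFiniteType i.left := locallyOfFiniteType_of_comp i.left G.hom
  have : QuasiSeparated (i.left ≫ G.hom) := by rw [Over.w]; infer_instance
  have : QuasiSeparated i.left := QuasiSeparated.of_comp i.left G.hom
  have sq : ∀ {T : Scheme.{u}} (t : T ⟶ S), IsPullback (pullback.fst H.hom t)
      ((Over.pullback t).map i).left i.left (pullback.fst G.hom t) := fun t =>
    isPullback_map i t
  obtain ⟨U, hU, h⟩ := exists_open_descends isClosedImmersion_descends i.left G.hom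
    inferInstance fun K _ t => by
      letI := ((Over.pullback t).mapGrp.obj ⟨G⟩).grp
      letI := ((Over.pullback t).mapGrp.obj ⟨H⟩).grp
      haveI : IsMonHom ((Over.pullback t).map i) := inferInstance
      haveI : LocallyOfFiniteType ((Over.pullback t).obj G).hom :=
        inferInstanceAs (LocallyOfFiniteType (pullback.snd G.hom t))
      haveI : LocallyOfFiniteType ((Over.pullback t).obj H).hom :=
        inferInstanceAs (LocallyOfFiniteType (pullback.snd H.hom t))
      haveI : Mono i.left := inferInstanceAs (Mono ((Over.forget S).map i))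
      haveI : Mono ((Over.pullback t).map i).left :=
        MorphismProperty.of_isPullback (P := MorphismProperty.monomorphisms Scheme) (sq t)
          (MorphismProperty.monomorphisms.infer_property i.left)
      haveI : QuasiCompact ((Over.pullback t).map i).left :=
        MorphismProperty.of_isPullback (P := @QuasiCompact) (sq t) inferInstance
      rw [← (sq t).isoPullback_inv_snd]
      exact (MorphismProperty.cancel_left_of_respectsIso @IsClosedImmersion _ _).2
        (isClosedImmersion_mono_field ((Over.pullback t).map i))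
  exact ⟨U, hU, fun T t ht => by
    rw [← (sq t).isoPullback_hom_snd]
    exact (MorphismProperty.cancel_left_of_respectsIso @IsClosedImmersion _ _).2 (h T t ht)⟩

end Groth.Agent.Lib.ActSep.GenericOpen
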