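import Groth.Agent.Lib.FreeRes.GrpTransp
import Groth.Agent.Lib.ActSep.GenericOpen
import Groth.Agent.Lib.ActSep.GenericFree
import Groth.Prelude.Def_Red2
import Groth.Agent.Lib.Flat55.FibreTransfer
import Mathlib.AlgebraicGeometry.Morphisms.FinitePresentation

/-!
Transporters, centralizers and normalizers of finite presentation along essentially free schemes.
-/

universe u

open CategoryTheory CategoryTheory.Limits AlgebraicGeometry MonoidalCategory CartesianMonoidalCategory
open CategoryTheory.MonObj CategoryTheory.GrpObj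
open Groth.Agent.Lib

set_option autoImplicit false
set_option linter.style.haveILetI false
set_option backward.isDefEq.respectTransparency false
set_option backward.isDefEq.respectTransparency.types false

namespace Groth.Agent.Lib.ActSep.GenericTransporter

variable {S : Scheme.{u}}

theorem prop_tensorHom {P : MorphismProperty Scheme.{u}} [P.IsStableUnderBaseChange]
    [P.IsStableUnderComposition] {G G' H H' : Over S} (f : H ⟶ G) (g : H' ⟶ G') (hf : P f.left)
    (hg : P g.left) : P (f ⊗ₘ g).left := by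
  have hr : ∀ {A B : Over S} (h : A ⟶ B) (X : Over S), P h.left → P (h ▷ X).left := fun h X hh =>
    MorphismProperty.of_isPullback (FreeRes.isPullback_whiskerRight h).flip hh
  have e : G ◁ g = (β_ G H').hom ≫ g ▷ G ≫ (β_ G' G).hom := by
    apply CartesianMonoidalCategory.hom_ext <;> simp
  rw [MonoidalCategory.tensorHom_def, Over.comp_left]
  refine P.comp_mem _ _ (hr f H' hf) ?_
  rw [e, Over.comp_left, Over.comp_left, MorphismProperty.cancel_left_of_respectsIso P,
    MorphismProperty.cancel_right_of_respectsIso P]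
  exact hr g G hg

theorem lfp_qc_qs {C P : Over S} (c : C ⟶ P) [IsClosedImmersion c.left]
    [LocallyOfFinitePresentation c.left] [LocallyOfFinitePresentation P.hom] [QuasiCompact P.hom]
    [QuasiSeparated P.hom] :
    LocallyOfFinitePresentation C.hom ∧ QuasiCompact C.hom ∧ QuasiSeparated C.hom := by
  rw [← Over.w c]
  exact ⟨inferInstance, inferInstance, inferInstance⟩

/-- The equalizer transporter, of finite presentation. -/
theorem exists_closed_eq_fp {P X W : Over S} (hX : SGA3x.IsEssentiallyFree X.hom) [QuasiCompact X.hom]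
    [IsSeparated W.hom] [LocallyOfFinitePresentation W.hom] (u v : P ⊗ X ⟶ W) :
    ∃ (C : Over S) (c : C ⟶ P), IsClosedImmersion c.left ∧ LocallyOfFinitePresentation c.left ∧
      (∀ {T : Over S} (g : T ⟶ P), (∃ z, z ≫ c = g) ↔ (g ▷ X) ≫ u = (g ▷ X) ≫ v) := by
  let Δ : W ⟶ W ⊗ W := lift (𝟙 W) (𝟙 W)
  have hΔ : Δ.left = pullback.diagonal W.hom := pullback.hom_ext
    ((congrArg CommaMorphism.left (lift_fst (𝟙 W) (𝟙 W))).trans
      (pullback.diagonal_fst W.hom).symm)
    ((congrArg CommaMorphism.left (lift_snd (𝟙 W) (𝟙 W))).trans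
      (pullback.diagonal_snd W.hom).symm)
  haveI : IsClosedImmersion Δ.left := by
    rw [hΔ]; infer_instance
  obtain ⟨C, c, hc, hC, hfp⟩ := FreeRes.exists_closed_factor hX (lift u v) Δ
  refine ⟨C, c, hc, hfp inferInstance ?_, fun g => (hC g).trans ⟨?_, fun h => ⟨(g ▷ X) ≫ u, ?_⟩⟩⟩
  · rw [hΔ]
    haveI : LocallyOfFinitePresentation (pullback.diagonal W.hom ≫ pullback.fst W.hom W.hom) := by
      rw [pullback.diagonal_fst]; infer_instance
    exact Flat55.FibreTransfer.locallyOfFinitePresentation_of_comp (g := pullback.fst W.hom W.hom)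
      inferInstance inferInstance
  · rintro ⟨l, hl⟩
    have h1 := congrArg (· ≫ fst W W) hl
    have h2 := congrArg (· ≫ snd W W) hl
    simp only [Δ, Category.assoc, lift_fst, lift_snd, Category.comp_id] at h1 h2
    exact h1.symm.trans h2
  · apply CartesianMonoidalCategory.hom_ext <;> simp [Δ, h]

variable {G Y : Over S} [GrpObj G]

/-- The transporter of `u` into `v`. -/
theorem exists_transporter [LocallyOfFinitePresentation G.hom] [IsSeparated G.hom] [QuasiCompact Y.hom]
    (hY : SGA3x.IsEssentiallyFree Y.hom) (u v : Y ⟶ G) :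
    ∃ (C : Over S) (c : C ⟶ G), IsClosedImmersion c.left ∧ LocallyOfFinitePresentation c.left ∧
      ∀ {T : Over S} (g : T ⟶ G), (∃ z, z ≫ c = g) ↔ ∀ (T' : Over S) (s : T' ⟶ T) (y : T' ⟶ Y),
        (s ≫ g) * (y ≫ u) * (s ≫ g)⁻¹ = y ≫ v := by
  obtain ⟨C, c, hc, hfp, hC⟩ := exists_closed_eq_fp hY
    (fst G Y * (snd G Y ≫ u) * (fst G Y)⁻¹) (snd G Y ≫ v)
  refine ⟨C, c, hc, hfp, fun g => ?_⟩
  rw [hC g, FreeRes.forall_pair_iff]
  simp only [MonObj.comp_mul, GrpObj.comp_inv, lift_fst, lift_snd_assoc]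

/-- The centralizer of a morphism. -/
theorem exists_centralizer [LocallyOfFinitePresentation G.hom] [IsSeparated G.hom] [QuasiCompact Y.hom]
    (hY : SGA3x.IsEssentiallyFree Y.hom) (i : Y ⟶ G) :
    ∃ (C : Over S) (_ : GrpObj C) (c : C ⟶ G), IsClosedImmersion c.left ∧
      LocallyOfFinitePresentation c.left ∧ Red.IsCentralizerOf i c := by
  obtain ⟨C, c, hc, hfp, h⟩ := exists_transporter hY i i
  haveI : Mono c := (Over.forget S).mono_of_mono_map (show Mono c.left from inferInstance)
  obtain ⟨M, hM⟩ := FreeRes.exists_grpObj_of_mono c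
    (fun T => (h 1).2 fun _ s y => by simp [MonObj.comp_one])
    (fun a b => (h _).2 fun T' s y => by
      have ha := (h _).1 ⟨a, rfl⟩ T' s y
      have hb := (h _).1 ⟨b, rfl⟩ T' s y
      rw [MonObj.comp_mul, _root_.mul_inv_rev]
      conv_rhs => rw [← ha, ← hb]
      simp only [_root_.mul_assoc])
    (fun a => (h _).2 fun T' s y => by
      have ha := (h _).1 ⟨a, rfl⟩ T' s y
      rw [GrpObj.comp_inv, _root_.inv_inv]
      conv_lhs => rw [← ha]
      simp only [_root_.mul_assoc, inv_mul_cancel_left, inv_mul_cancel, _root_.mul_one])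
  exact ⟨C, M, c, hc, hfp, hM, inferInstance, fun X g => (h g).trans
    (forall₃_congr fun X' x y => mul_inv_eq_iff_eq_mul)⟩

/-- The normalizer of a closed subgroup. -/
theorem exists_normalizer [LocallyOfFinitePresentation G.hom] {H : Over S} [GrpObj H]
    [QuasiCompact H.hom] (hH : SGA3x.IsEssentiallyFree H.hom) (i : H ⟶ G) [IsClosedImmersion i.left]
    [LocallyOfFinitePresentation i.left] :
    ∃ (N : Over S) (_ : GrpObj N) (n : N ⟶ G), IsClosedImmersion n.left ∧
      LocallyOfFinitePresentation n.left ∧ Red.IsNormalizerOf i n := by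
  haveI : IsClosedImmersion (i ⊗ₘ i).left :=
    prop_tensorHom (P := @IsClosedImmersion) i i inferInstance inferInstance
  obtain ⟨N, n, hn, h0, hfp⟩ := FreeRes.exists_closed_factor hH
    (lift (fst G H * (snd G H ≫ i) * (fst G H)⁻¹) ((fst G H)⁻¹ * (snd G H ≫ i) * fst G H)) (i ⊗ₘ i)
  have hn' : LocallyOfFinitePresentation n.left := hfp inferInstance
    (prop_tensorHom (P := @LocallyOfFinitePresentation) i i inferInstance inferInstance)
  have h : ∀ {T : Over S} (g : T ⟶ G), (∃ z, z ≫ n = g) ↔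
      FreeRes.Transports i i g ∧ FreeRes.TransportsBack i i g := fun {T} g => by
    rw [h0 g, FreeRes.forall_pair_factor_iff]
    simp only [comp_lift, MonObj.comp_mul, GrpObj.comp_inv, lift_fst, lift_snd_assoc]
    constructor
    · intro H'
      refine ⟨fun T' s x => ?_, fun T' s x => ?_⟩
      · obtain ⟨l, hl⟩ := H' T' s x
        exact ⟨l ≫ fst H H, by simpa using congrArg (· ≫ fst G G) hl⟩
      · obtain ⟨l, hl⟩ := H' T' s x
        exact ⟨l ≫ snd H H, by simpa using congrArg (· ≫ snd G G) hl⟩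
    · intro H' T' s x
      obtain ⟨a, ha⟩ := H'.1 T' s x
      obtain ⟨b, hb⟩ := H'.2 T' s x
      exact ⟨lift a b, by rw [lift_map, ha, hb]⟩
  haveI : Mono n := (Over.forget S).mono_of_mono_map (show Mono n.left from inferInstance)
  have key : ∀ {T : Over S} (g g' : T ⟶ G), FreeRes.Transports i i g ∧ FreeRes.TransportsBack i i g →
      FreeRes.Transports i i g' ∧ FreeRes.TransportsBack i i g' →
      FreeRes.Transports i i (g * g') ∧ FreeRes.TransportsBack i i (g * g') := fun g g' hg hg' => by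
    refine ⟨fun S'' s x => ?_, fun S'' s x => ?_⟩
    · obtain ⟨x₁, e₁⟩ := hg'.1 S'' s x
      obtain ⟨x₂, e₂⟩ := hg.1 S'' s x₁
      refine ⟨x₂, ?_⟩
      rw [← e₂, ← e₁, MonObj.comp_mul, _root_.mul_inv_rev]
      simp only [_root_.mul_assoc]
    · obtain ⟨x₁, e₁⟩ := hg.2 S'' s x
      obtain ⟨x₂, e₂⟩ := hg'.2 S'' s x₁
      refine ⟨x₂, ?_⟩
      rw [← e₂, ← e₁, MonObj.comp_mul, _root_.mul_inv_rev]
      simp only [_root_.mul_assoc]
  obtain ⟨M, hM⟩ := FreeRes.exists_grpObj_of_mono n
    (fun T => (h 1).2 ⟨fun _ s x => ⟨x, by simp [MonObj.comp_one]⟩,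
      fun _ s x => ⟨x, by simp [MonObj.comp_one]⟩⟩)
    (fun a b => (h _).2 (key _ _ ((h _).1 ⟨a, rfl⟩) ((h _).1 ⟨b, rfl⟩)))
    (fun a => (h _).2 (by
      obtain ⟨p, q⟩ := (h _).1 ⟨a, rfl⟩
      refine ⟨fun S'' s x => ?_, fun S'' s x => ?_⟩
      · obtain ⟨x', e⟩ := q S'' s x
        exact ⟨x', by rw [GrpObj.comp_inv, _root_.inv_inv, ← e]⟩
      · obtain ⟨x', e⟩ := p S'' s x
        exact ⟨x', by rw [GrpObj.comp_inv, _root_.inv_inv, ← e]⟩))
  exact ⟨N, M, n, hn, hn', hM, inferInstance, fun X g => (h g).trans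
    ⟨fun p X' x y => ⟨p.1 X' x y, p.2 X' x y⟩,
      fun p => ⟨fun X' x y => (p X' x y).1, fun X' x y => (p X' x y).2⟩⟩⟩

end Groth.Agent.Lib.ActSep.GenericTransporter
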