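import Groth.Agent.Lib.ActSep.Exists
import Groth.Agent.Lib.ActSep.GenericTransporter
import Mathlib.AlgebraicGeometry.Morphisms.FlatMono

/-!
A monomorphism into a smooth group with connected fibres which is flat near the unit section is an isomorphism.
-/

universe u

open CategoryTheory CategoryTheory.Limits AlgebraicGeometry MonoidalCategory CartesianMonoidalCategory
open CategoryTheory.MonObj CategoryTheory.GrpObj
open Groth.Agent.Lib

set_option autoImplicit false
set_option linter.style.haveILetI false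
set_option backward.isDefEq.respectTransparency false
set_option backward.isDefEq.respectTransparency.types false

namespace Groth.Agent.Lib.ActSep.MonoIso

variable {S : Scheme.{u}} {G : Over S} [GrpObj G]

/-- In a group with connected fibres every point is a product of two points of a neighbourhood of the unit. -/
theorem exists_pair [LocallyOfFiniteType G.hom] (hconn : ∀ s : S, _root_.IsConnected (G.hom ⁻¹' {s}))
    (O : G.left.Opens) (hO : ∀ s : ↥(𝟙_ (Over S)).left, η[G].left s ∈ O) (x : G.left) :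
    ∃ w : ↥(G ⊗ G).left, (fst G G).left w ∈ O ∧ (snd G G).left w ∈ O ∧ μ[G].left w = x := by
  let T : Over S := Over.mk (G.left.fromSpecResidueField x ≫ G.hom)
  let xb : T ⟶ G := Over.homMk (G.left.fromSpecResidueField x) rfl
  let Z : Over S := G ⊗ T
  let ψ : Z ⟶ G := (fst G T)⁻¹ * (snd G T ≫ xb)
  have : IrreducibleSpace Z.left := irreducibleSpace_geomFibre hconn _
  have hone : ∀ t : T.left, (1 : T ⟶ G).left t ∈ O := fun t => by
    rw [Hom.one_def, Over.comp_left, Scheme.Hom.comp_apply]
    exact hO _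
  let t₀ : T.left := IsLocalRing.closedPoint (G.left.residueField x)
  obtain ⟨z, hz1, hz2⟩ := nonempty_preirreducible_inter
    ((fst G T).left ⁻¹ᵁ O).isOpen (ψ.left ⁻¹ᵁ O).isOpen
    ⟨(lift (1 : T ⟶ G) (𝟙 T)).left t₀, by
      show (fst G T).left _ ∈ O
      rw [← Scheme.Hom.comp_apply, ← Over.comp_left, lift_fst]
      exact hone _⟩
    ⟨(lift xb (𝟙 T)).left t₀, by
      show ψ.left _ ∈ O
      rw [← Scheme.Hom.comp_apply, ← Over.comp_left]
      simp only [ψ, MonObj.comp_mul, GrpObj.comp_inv, lift_fst, lift_snd_assoc, Category.id_comp,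
        inv_mul_cancel]
      exact hone _⟩
  refine ⟨(lift (fst G T) ψ).left z, ?_, ?_, ?_⟩
  · rw [← Scheme.Hom.comp_apply, ← Over.comp_left, lift_fst]; exact hz1
  · rw [← Scheme.Hom.comp_apply, ← Over.comp_left, lift_snd]; exact hz2
  · rw [← Scheme.Hom.comp_apply, ← Over.comp_left, ← Hom.mul_def]
    simp only [ψ, _root_.mul_inv_cancel_left]
    rw [Over.comp_left, Scheme.Hom.comp_apply]
    exact Scheme.fromSpecResidueField_apply x _

/-- A monomorphism of groups which is flat near the unit section is an isomorphism. -/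
theorem isIso_of_flat_nhd {H : Over S} [GrpObj H] [Smooth G.hom] [LocallyOfFinitePresentation H.hom]
    (hconn : ∀ s : S, _root_.IsConnected (G.hom ⁻¹' {s})) (i : H ⟶ G) [IsMonHom i] [Mono i]
    (U : H.left.Opens) (hU : ∀ s : ↥(𝟙_ (Over S)).left, η[H].left s ∈ U)
    [Flat (U.ι ≫ i.left)] : IsIso i := by
  haveI hmono : Mono i.left := inferInstanceAs (Mono ((Over.forget S).map i))
  haveI : LocallyOfFinitePresentation i.left :=
    Flat55.FibreTransfer.locallyOfFinitePresentation_of_comp (g := G.hom)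
      (by rw [Over.w]; infer_instance) inferInstance
  haveI : IsOpenImmersion (U.ι ≫ i.left) := IsOpenImmersion.of_flat_of_mono _
  let V : Over S := Over.mk (U.ι ≫ H.hom)
  let j : V ⟶ H := Over.homMk U.ι rfl
  haveI hV : Flat V.hom := by
    show Flat (U.ι ≫ H.hom)
    rw [← Over.w i, ← Category.assoc]
    infer_instance
  let O := (U.ι ≫ i.left).opensRange
  have hO : ∀ s : ↥(𝟙_ (Over S)).left, η[G].left s ∈ O := fun s => by
    refine ⟨⟨η[H].left s, hU s⟩, ?_⟩
    rw [← IsMonHom.one_hom i, Over.comp_left, Scheme.Hom.comp_apply, Scheme.Hom.comp_apply]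
    rfl
  let φ : V ⊗ V ⟶ H := (j ⊗ₘ j) ≫ μ[H]
  have hφi : φ ≫ i = ((j ≫ i) ⊗ₘ (j ≫ i)) ≫ μ[G] := by
    rw [Category.assoc, IsMonHom.mul_hom, ← MonoidalCategory.tensorHom_comp_tensorHom, Category.assoc]
  have hlift : ∀ x : G.left, ∃ p : ↥(V ⊗ V).left, i.left (φ.left p) = x := fun x => by
    obtain ⟨w, h1, h2, rfl⟩ := exists_pair hconn O hO x
    have : w ∈ Set.range ((j ≫ i) ⊗ₘ (j ≫ i)).left := by
      rw [Over.tensorHom_left]
      exact (Scheme.Pullback.range_map _ _ _ _ _ _ _ _ _).ge ⟨h1, h2⟩
    obtain ⟨p, rfl⟩ := this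
    exact ⟨p, by rw [← Scheme.Hom.comp_apply, ← Over.comp_left, hφi, Over.comp_left, Scheme.Hom.comp_apply]⟩
  haveI : Surjective i.left := ⟨fun x => ⟨_, (hlift x).choose_spec⟩⟩
  haveI : Surjective φ.left := ⟨fun y => by
    obtain ⟨p, hp⟩ := hlift (i.left y)
    exact ⟨p, i.left.injective hp⟩⟩
  haveI : Flat φ.left := by
    let sh : V ⊗ H ≅ V ⊗ H :=
      { hom := lift (fst V H) ((fst V H ≫ j) * snd V H)
        inv := lift (fst V H) ((fst V H ≫ j)⁻¹ * snd V H)
        hom_inv_id := by
          apply CartesianMonoidalCategory.hom_ext <;> simp [MonObj.comp_mul, GrpObj.comp_inv]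
        inv_hom_id := by
          apply CartesianMonoidalCategory.hom_ext <;> simp [MonObj.comp_mul, GrpObj.comp_inv] }
    have e : φ = (𝟙 V ⊗ₘ j) ≫ sh.hom ≫ snd V H := by
      show (j ⊗ₘ j) ≫ μ[H] = _
      simp only [sh, lift_snd, MonObj.comp_mul, tensorHom_fst_assoc, tensorHom_snd, Category.id_comp]
      rw [Hom.mul_def, lift_fst_comp_snd_comp]
    haveI : IsIso sh.hom.left := ((Over.forget S).mapIso sh).isIso_hom
    have hs : Flat (snd V H).left := MorphismProperty.of_isPullback
      (FreeRes.isPullback_fst V H).flip hV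
    have ht : Flat (𝟙 V ⊗ₘ j).left := GenericTransporter.prop_tensorHom (P := @Flat) (𝟙 V) j
      (inferInstanceAs (Flat (𝟙 V.left))) (inferInstanceAs (Flat U.ι))
    rw [e, Over.comp_left, Over.comp_left]
    exact MorphismProperty.comp_mem @Flat _ _ ht (MorphismProperty.comp_mem @Flat _ _ inferInstance hs)
  haveI : Flat (φ.left ≫ i.left) := by
    rw [← Over.comp_left, hφi, Over.comp_left]
    have hk : IsOpenImmersion ((j ≫ i) ⊗ₘ (j ≫ i)).left :=
      GenericTransporter.prop_tensorHom (P := @IsOpenImmersion) _ _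
        (inferInstanceAs (IsOpenImmersion (U.ι ≫ i.left))) (inferInstanceAs (IsOpenImmersion (U.ι ≫ i.left)))
    exact MorphismProperty.comp_mem @Flat _ _ inferInstance
      (GrpSch.act_left_of (P := @Flat) (GrpSch.regularAction G) (inferInstanceAs (Flat G.hom)))
  haveI : Flat i.left := Flat55.FlatDescend.flat_of_comp φ.left i.left
  haveI : IsOpenImmersion i.left := IsOpenImmersion.of_flat_of_mono _
  haveI : Epi i.left.base := (TopCat.epi_iff_surjective _).2 i.left.surjective
  haveI : IsIso i.left := IsOpenImmersion.isIso i.left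
  haveI : IsIso ((Over.forget S).map i) := ‹IsIso i.left›
  exact isIso_of_reflects_iso i (Over.forget S)

end Groth.Agent.Lib.ActSep.MonoIso
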