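import Groth.Agent.S18710
import Groth.Agent.S9152
import Groth.Agent.Lib.Depth.CM
import Groth.Agent.Lib.Depth.Ext
import Groth.Agent.Lib.Excellent.Transport
import Mathlib.AlgebraicGeometry.Morphisms.Flat
import Mathlib.AlgebraicGeometry.Morphisms.FiniteType

/-!
Cohen–Macaulay local rings: descent along flat local maps with zero-dimensional closed fibre, and
openness of the locus on schemes locally of finite type over a field.
-/

universe u

open AlgebraicGeometry CategoryTheory IsLocalRing

namespace Groth.Agent.Lib.ActSep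

theorem isCohenMacaulayLocalRing_of_flat_of_radical (A B : Type u) [CommRing A] [CommRing B] [Algebra A B]
    [IsNoetherianRing A] [IsLocalRing A] [LocCoh.IsCohenMacaulayLocalRing B] [Module.Flat A B]
    [IsLocalHom (algebraMap A B)]
    (hrad : ((maximalIdeal A).map (algebraMap A B)).radical = maximalIdeal B) :
    LocCoh.IsCohenMacaulayLocalRing A := by
  rw [Groth.Agent.Lib.Depth.CM.isCohenMacaulayLocalRing_iff]
  obtain ⟨hht, hdep⟩ := Groth.Agent.S18710.result A B (maximalIdeal A) (fun p hp => ⟨closedPoint B, by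
    have hp' : p.asIdeal = maximalIdeal A := (((maximalIdeal.isMaximal A).eq_of_le p.2.ne_top hp)).symm
    rw [hp']
    exact IsLocalRing.comap_closedPoint (algebraMap A B) |> congrArg PrimeSpectrum.asIdeal⟩) A
  have h1 : ((maximalIdeal A).map (algebraMap A B)).height = (maximalIdeal B).height := by
    rw [← hrad]
    simp [Ideal.height, Ideal.radical_minimalPrimes]
  have h2 : LocCoh.idealDepth ((maximalIdeal A).map (algebraMap A B)) B = LocCoh.depth B B :=
    Groth.Agent.Lib.Depth.Ext.idealDepth_radical_eq _ B (by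
      rw [hrad, Ideal.IsPrime.radical inferInstance])
  have h3 : LocCoh.depth A A = LocCoh.depth B B := by
    rw [← h2, ← Groth.Agent.Lib.Depth.Basic.idealDepth_congr _ (Algebra.TensorProduct.rid A B B).toLinearEquiv, hdep]
    rfl
  rw [h3, ← IsLocalRing.maximalIdeal_height_eq_ringKrullDim, ← hht, h1,
    IsLocalRing.maximalIdeal_height_eq_ringKrullDim, Groth.Agent.Lib.Depth.CM.ringKrullDim_eq_depth]

theorem isOpen_setOf_isCohenMacaulay {k : Type u} [Field k] {X : Scheme.{u}} (f : X ⟶ Spec (CommRingCat.of k))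
    [LocallyOfFiniteType f] : IsOpen {x : X | LocCoh.IsCohenMacaulayLocalRing (X.presheaf.stalk x)} := by
  rw [isOpen_iff_forall_mem_open]
  intro x hx
  obtain ⟨U, hU, hxU, -⟩ := exists_isAffineOpen_mem_and_subset (X := X) (x := x) (U := ⊤) trivial
  let φ : k →+* Γ(X, U) := ((Scheme.ΓSpecIso (CommRingCat.of k)).inv ≫ f.appLE ⊤ U le_top).hom
  let := φ.toAlgebra
  have hφ : φ.FiniteType := by
    have h := f.finiteType_appLE (U := ⊤) (isAffineOpen_top _) hU le_top
    exact h.comp (RingHom.FiniteType.of_surjective _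
      (ConcreteCategory.bijective_of_isIso (Scheme.ΓSpecIso (CommRingCat.of k)).inv).2)
  have : Algebra.FiniteType k Γ(X, U) := hφ
  have h := Groth.Agent.S9152.result k Γ(X, U)
  have key : ∀ (y : X) (hy : y ∈ U), LocCoh.IsCohenMacaulayLocalRing (X.presheaf.stalk y) ↔
      LocCoh.IsCohenMacaulayLocalRing (Localization.AtPrime (hU.primeIdealOf ⟨y, hy⟩).asIdeal) := by
    intro y hy
    let := TopCat.Presheaf.algebra_section_stalk X.presheaf (U := U) ⟨y, hy⟩
    have := hU.isLocalization_stalk ⟨y, hy⟩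
    let e := IsLocalization.algEquiv (hU.primeIdealOf ⟨y, hy⟩).asIdeal.primeCompl
      (X.presheaf.stalk y) (Localization.AtPrime (hU.primeIdealOf ⟨y, hy⟩).asIdeal)
    exact ⟨fun _ => Groth.Agent.Lib.Excellent.Transport.isCohenMacaulayLocalRing_of_ringEquiv e.toRingEquiv,
      fun _ => Groth.Agent.Lib.Excellent.Transport.isCohenMacaulayLocalRing_of_ringEquiv e.symm.toRingEquiv⟩
  refine ⟨hU.fromSpec '' {q | LocCoh.IsCohenMacaulayLocalRing (Localization.AtPrime q.asIdeal)}, ?_,
    hU.fromSpec.isOpenEmbedding.isOpenMap _ h, ⟨hU.primeIdealOf ⟨x, hxU⟩, (key x hxU).1 hx, hU.fromSpec_primeIdealOf _⟩⟩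
  rintro _ ⟨q, hq, rfl⟩
  have hqU : hU.fromSpec q ∈ U := hU.range_fromSpec.le (Set.mem_range_self q)
  refine (key _ hqU).2 ?_
  rwa [show hU.primeIdealOf ⟨hU.fromSpec q, hqU⟩ = q from
    hU.fromSpec.isOpenEmbedding.injective (hU.fromSpec_primeIdealOf ⟨_, hqU⟩)]

theorem isCohenMacaulayLocalRing_stalk_of_flat {X' X : Scheme.{u}} (p : X' ⟶ X) [Flat p]
    [IsLocallyNoetherian X] (z : X') [LocCoh.IsCohenMacaulayLocalRing (X'.presheaf.stalk z)]
    (hz : ∀ w : X', w ⤳ z → p w = p z → w = z) :
    LocCoh.IsCohenMacaulayLocalRing (X.presheaf.stalk (p z)) := by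
  algebraize [(p.stalkMap z).hom]
  have : Module.Flat (X.presheaf.stalk (p z)) (X'.presheaf.stalk z) := Flat.stalkMap p z
  have : IsLocalHom (algebraMap (X.presheaf.stalk (p z)) (X'.presheaf.stalk z)) := p.toLRSHom.prop z
  refine isCohenMacaulayLocalRing_of_flat_of_radical _ (X'.presheaf.stalk z) ?_
  refine le_antisymm ((maximalIdeal.isMaximal _).isPrime.radical_le_iff.2 ?_) ?_
  · exact ((IsLocalRing.local_hom_TFAE (algebraMap (X.presheaf.stalk (p z)) (X'.presheaf.stalk z))).out 0 2 rfl rfl).mp inferInstance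
  · rw [Ideal.radical_eq_sInf]
    refine le_sInf fun P ⟨hP, hPp⟩ => ?_
    let P' : Spec (X'.presheaf.stalk z) := ⟨P, hPp⟩
    have h1 : X'.fromSpecStalk z P' ⤳ z := by
      have : P' ⤳ closedPoint (X'.presheaf.stalk z) :=
        (PrimeSpectrum.le_iff_specializes P' _).1 (IsLocalRing.le_maximalIdeal hPp.ne_top)
      have := this.map (X'.fromSpecStalk z).continuous
      rwa [Scheme.fromSpecStalk_closedPoint] at this
    have h2 : (Spec.map (p.stalkMap z)) P' = closedPoint (X.presheaf.stalk (p z)) := by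
      refine PrimeSpectrum.ext ?_
      show P.comap (p.stalkMap z).hom = maximalIdeal _
      exact ((maximalIdeal.isMaximal _).eq_of_le (Ideal.IsPrime.ne_top (hPp.comap _))
        (Ideal.map_le_iff_le_comap.1 hP)).symm
    have h3 : p (X'.fromSpecStalk z P') = p z := by
      rw [← Scheme.Hom.comp_apply, ← Scheme.SpecMap_stalkMap_fromSpecStalk, Scheme.Hom.comp_apply, h2,
        Scheme.fromSpecStalk_closedPoint]
    have h4 : X'.fromSpecStalk z P' = X'.fromSpecStalk z (closedPoint (X'.presheaf.stalk z)) := by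
      rw [hz _ h1 h3, Scheme.fromSpecStalk_closedPoint]
    have := congrArg PrimeSpectrum.asIdeal ((X'.fromSpecStalk z).isEmbedding.injective h4)
    exact this.ge

end Groth.Agent.Lib.ActSep
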