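import Groth.Agent.Lib.GrpSch.Basic
import Groth.Agent.H46.UnibranchSch
import Mathlib.RingTheory.Artinian.Module

/-!
A locally closed subgroup of a group over an artinian local ring is closed.
-/

set_option autoImplicit false

universe u

open CategoryTheory Limits MonoidalCategory CartesianMonoidalCategory MonObj AlgebraicGeometry

namespace Groth.Agent.Lib.ActSep

/-- Field valued points of an artinian local base are universally open. -/
theorem universallyOpen_fieldPoint (A : Type u) [CommRing A] [IsArtinianRing A] [IsLocalRing A] (K : Type u) [Field K]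
    (r : Spec (CommRingCat.of K) ⟶ Spec (CommRingCat.of A)) : UniversallyOpen r ∧ Surjective r := by
  refine ⟨?_, ⟨fun x => ⟨IsLocalRing.closedPoint K, Subsingleton.elim (α := PrimeSpectrum A) _ _⟩⟩⟩
  let c := Spec.map (CommRingCat.ofHom (IsLocalRing.residue A))
  have : IsClosedImmersion c := IsClosedImmersion.spec_of_surjective _ IsLocalRing.residue_surjective
  have : Surjective c :=
    ⟨fun x => ⟨IsLocalRing.closedPoint (IsLocalRing.ResidueField A),
      Subsingleton.elim (α := PrimeSpectrum A) _ _⟩⟩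
  have := Groth.Agent.H46.UnibranchSch.universallyOpen_of_surjective_isClosedImmersion c
  obtain ⟨φ, hφ⟩ := Spec.map_surjective r
  have hk : ∀ m ∈ IsLocalRing.maximalIdeal A, φ.hom m = 0 := fun m hm => by
    have hp : RingHom.ker φ.hom = IsLocalRing.maximalIdeal A := by
      have : (RingHom.ker φ.hom).IsPrime := RingHom.ker_isPrime _
      exact IsLocalRing.eq_maximalIdeal (IsArtinianRing.isMaximal_of_isPrime _)
    exact RingHom.mem_ker.1 (hp.symm ▸ hm)
  let a : Spec (CommRingCat.of K) ⟶ Spec (CommRingCat.of (IsLocalRing.ResidueField A)) :=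
    Spec.map (CommRingCat.ofHom (Ideal.Quotient.lift _ φ.hom hk))
  have ha : a ≫ c = r := by
    rw [← hφ, ← Spec.map_comp]
    congr 1
  have : Subsingleton ↥(Spec (CommRingCat.of (IsLocalRing.ResidueField A))) :=
    inferInstanceAs (Subsingleton (PrimeSpectrum _))
  rw [← ha]
  infer_instance

variable {S : Scheme.{u}} {G : Over S} [GrpObj G]

/-- A subset of `G` stable under multiplication. -/
def MulStable (C : Set G.left) : Prop :=
  ∀ z : ↥(G ⊗ G).left, (fst G G).left z ∈ C → (snd G G).left z ∈ C → μ[G].left z ∈ C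

theorem mulStable_closure_left {C : Set G.left}
    (hmul : ∀ z : ↥(G ⊗ G).left, (fst G G).left z ∈ C → (snd G G).left z ∈ C → μ[G].left z ∈ C)
    (hopen : ∀ (K : Type u) [Field K] (r : Spec (CommRingCat.of K) ⟶ S), UniversallyOpen r)
    (z : ↥(G ⊗ G).left) (h1 : (fst G G).left z ∈ closure C) (h2 : (snd G G).left z ∈ C) :
    μ[G].left z ∈ closure C := by
  let c := (snd G G).left z
  let T : Over S := Over.mk (G.left.fromSpecResidueField c ≫ G.hom)
  let gT : T ⟶ G := Over.homMk (G.left.fromSpecResidueField c) rfl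
  have : UniversallyOpen T.hom := hopen _ _
  have : UniversallyOpen (fst G T).left := GrpSch.fst_left_of (P := @UniversallyOpen) G ‹_›
  obtain ⟨w, hw, -⟩ := Scheme.exists_preimage_of_isPullback (GrpSch.isPullback_whiskerLeft G gT) z
    (IsLocalRing.closedPoint (G.left.residueField c)) (G.left.fromSpecResidueField_apply c _).symm
  let F := (G ◁ gT) ≫ μ[G]
  have hF : ∀ y, (fst G T).left y ∈ C → F.left y ∈ C := fun y hy => by
    show μ[G].left ((G ◁ gT).left y) ∈ C
    refine hmul _ ?_ ?_
    · rw [← Scheme.Hom.comp_apply, ← Over.comp_left, whiskerLeft_fst]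
      exact hy
    · rw [← Scheme.Hom.comp_apply, ← Over.comp_left, whiskerLeft_snd, Over.comp_left, Scheme.Hom.comp_apply]
      show G.left.fromSpecResidueField c _ ∈ C
      rw [Scheme.fromSpecResidueField_apply]
      exact h2
  have hwC : w ∈ closure ((fst G T).left ⁻¹' C) := by
    rw [← (fst G T).left.isOpenMap.preimage_closure_eq_closure_preimage (fst G T).left.continuous]
    show (fst G T).left w ∈ closure C
    rwa [← whiskerLeft_fst G gT, Over.comp_left, Scheme.Hom.comp_apply,
      show (G ◁ gT).left w = z from hw]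
  have h := map_mem_closure F.left.continuous hwC hF
  rwa [show F.left w = μ[G].left z by
    show μ[G].left ((G ◁ gT).left w) = _
    rw [show (G ◁ gT).left w = z from hw]] at h

/-- A subgroup containing a nonempty open piece of its closure is closed. -/
theorem isClosed_of_mulStable_of_open {C : Set G.left} {U : Set G.left} (hU : IsOpen U) (hne : (C ∩ U).Nonempty)
    (hUC : U ∩ closure C ⊆ C)
    (hmul : ∀ z : ↥(G ⊗ G).left, (fst G G).left z ∈ C → (snd G G).left z ∈ C → μ[G].left z ∈ C)
    (hinv : ∀ g ∈ C, (GrpObj.inv (X := G)).left g ∈ C)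
    (hopen : ∀ (K : Type u) [Field K] (r : Spec (CommRingCat.of K) ⟶ S), UniversallyOpen r ∧ Surjective r) :
    IsClosed C := by
  refine closure_subset_iff_isClosed.1 fun x hx => ?_
  let T : Over S := Over.mk (G.left.fromSpecResidueField x ≫ G.hom)
  let xT : T ⟶ G := Over.homMk (G.left.fromSpecResidueField x) rfl
  have : UniversallyOpen T.hom := (hopen _ _).1
  have : Surjective T.hom := (hopen _ _).2
  have : UniversallyOpen (fst G T).left := GrpSch.fst_left_of (P := @UniversallyOpen) G ‹_›
  have : Surjective (fst G T).left := GrpSch.fst_left_of (P := @Surjective) G ‹_›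
  have hopen' : ∀ (K : Type u) [Field K] (r : Spec (CommRingCat.of K) ⟶ S), UniversallyOpen r :=
    fun K _ r => (hopen K r).1
  have hx' : (GrpObj.inv (X := G)).left x ∈ closure C :=
    map_mem_closure (GrpObj.inv (X := G)).left.continuous hx hinv
  -- left translations by `x` and by its inverse
  let σ : G ⊗ T ⟶ G := (snd G T ≫ xT) * fst G T
  let σ' : G ⊗ T ⟶ G := (snd G T ≫ xT)⁻¹ * fst G T
  let a : G ⊗ T ⟶ G ⊗ T := lift σ (snd G T)
  let a' : G ⊗ T ⟶ G ⊗ T := lift σ' (snd G T)
  have haa : a' ≫ σ = fst G T := by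
    simp [a', σ, σ', MonObj.comp_mul]
  have hxpt : ∀ y, xT.left ((snd G T).left y) = x := fun y => G.left.fromSpecResidueField_apply x _
  have hσ : ∀ y, (fst G T).left y ∈ C → σ.left y ∈ closure C := fun y hy => by
    have e : σ = lift (snd G T ≫ xT) (fst G T) ≫ μ[G] := rfl
    rw [e, Over.comp_left, Scheme.Hom.comp_apply]
    refine mulStable_closure_left hmul hopen' _ ?_ ?_
    · rw [← Scheme.Hom.comp_apply, ← Over.comp_left, lift_fst, Over.comp_left, Scheme.Hom.comp_apply, hxpt]
      exact hx
    · rw [← Scheme.Hom.comp_apply, ← Over.comp_left, lift_snd]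
      exact hy
  have hσ' : ∀ y, (fst G T).left y ∈ C → σ'.left y ∈ closure C := fun y hy => by
    have e : σ' = lift (snd G T ≫ xT)⁻¹ (fst G T) ≫ μ[G] := rfl
    rw [e, Over.comp_left, Scheme.Hom.comp_apply]
    refine mulStable_closure_left hmul hopen' _ ?_ ?_
    · rw [← Scheme.Hom.comp_apply, ← Over.comp_left, lift_fst,
        show (snd G T ≫ xT)⁻¹ = (snd G T ≫ xT) ≫ GrpObj.inv from rfl, Over.comp_left, Scheme.Hom.comp_apply,
        Over.comp_left, Scheme.Hom.comp_apply, hxpt]
      exact hx'
    · rw [← Scheme.Hom.comp_apply, ← Over.comp_left, lift_snd]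
      exact hy
  obtain ⟨c, hc, hcU⟩ := hne
  obtain ⟨y, hy⟩ := (fst G T).left.surjective c
  let y' := a'.left y
  have hy'cl : y' ∈ closure ((fst G T).left ⁻¹' C) := by
    rw [← (fst G T).left.isOpenMap.preimage_closure_eq_closure_preimage (fst G T).left.continuous]
    show (fst G T).left (a'.left y) ∈ closure C
    rw [← Scheme.Hom.comp_apply, ← Over.comp_left, show a' ≫ fst G T = σ' from lift_fst _ _]
    exact hσ' y (hy.symm ▸ hc)
  have hy'U : y' ∈ σ.left ⁻¹' U := by
    show σ.left (a'.left y) ∈ U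
    rw [← Scheme.Hom.comp_apply, ← Over.comp_left, haa, hy]
    exact hcU
  obtain ⟨w, hwU, hwC⟩ := mem_closure_iff.1 hy'cl _ (hU.preimage σ.left.continuous) hy'U
  have hwσ : σ.left w ∈ C := hUC ⟨hwU, hσ w hwC⟩
  let z := (lift σ (fst G T)⁻¹).left w
  have hz := hmul z (by
      show (fst G G).left ((lift σ (fst G T)⁻¹).left w) ∈ C
      rw [← Scheme.Hom.comp_apply, ← Over.comp_left, lift_fst]
      exact hwσ) (by
      show (snd G G).left ((lift σ (fst G T)⁻¹).left w) ∈ C
      rw [← Scheme.Hom.comp_apply, ← Over.comp_left, lift_snd,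
        show (fst G T)⁻¹ = fst G T ≫ GrpObj.inv from rfl, Over.comp_left, Scheme.Hom.comp_apply]
      exact hinv _ hwC)
  have e : lift σ (fst G T)⁻¹ ≫ μ[G] = snd G T ≫ xT := by
    rw [show lift σ (fst G T)⁻¹ ≫ μ[G] = σ * (fst G T)⁻¹ from rfl]
    exact mul_inv_cancel_right _ _
  rwa [show μ[G].left z = x by
    show μ[G].left ((lift σ (fst G T)⁻¹).left w) = x
    rw [← Scheme.Hom.comp_apply, ← Over.comp_left, e, Over.comp_left, Scheme.Hom.comp_apply, hxpt]] at hz

/-- A locally closed subgroup is closed. -/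
theorem isClosed_of_mulStable {C : Set G.left} (hC : IsLocallyClosed C) (hne : C.Nonempty)
    (hmul : ∀ z : ↥(G ⊗ G).left, (fst G G).left z ∈ C → (snd G G).left z ∈ C → μ[G].left z ∈ C)
    (hinv : ∀ g ∈ C, (GrpObj.inv (X := G)).left g ∈ C)
    (hopen : ∀ (K : Type u) [Field K] (r : Spec (CommRingCat.of K) ⟶ S), UniversallyOpen r ∧ Surjective r) :
    IsClosed C := by
  obtain ⟨U, Z, hU, hZ, rfl⟩ := hC
  refine isClosed_of_mulStable_of_open hU ⟨hne.some, hne.some_mem, hne.some_mem.1⟩
    (fun x hx => ⟨hx.1, hZ.closure_subset_iff.2 Set.inter_subset_right hx.2⟩) hmul hinv hopen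

/-- The range of a homomorphism is stable under multiplication. -/
theorem range_mulStable {H : Over S} [GrpObj H] (u : H ⟶ G) [IsMonHom u] (z : ↥(G ⊗ G).left)
    (h1 : (fst G G).left z ∈ Set.range u.left) (h2 : (snd G G).left z ∈ Set.range u.left) :
    μ[G].left z ∈ Set.range u.left := by
  obtain ⟨a, ha⟩ := h1
  obtain ⟨w, hw, -⟩ := Scheme.exists_preimage_of_isPullback (GrpSch.isPullback_whiskerRight u G) z a ha.symm
  obtain ⟨b, hb⟩ := h2
  have hwb : (snd H G).left w = u.left b := by
    rw [← whiskerRight_snd u G, Over.comp_left, Scheme.Hom.comp_apply, show (u ▷ G).left w = z from hw]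
    exact hb.symm
  obtain ⟨v, hv, -⟩ := Scheme.exists_preimage_of_isPullback (GrpSch.isPullback_whiskerLeft H u) w b hwb
  refine ⟨μ[H].left v, ?_⟩
  rw [← Scheme.Hom.comp_apply, ← Over.comp_left, IsMonHom.mul_hom, Over.comp_left, tensorHom_def', Over.comp_left,
    Scheme.Hom.comp_apply, Scheme.Hom.comp_apply, show (H ◁ u).left v = w from hv,
    show (u ▷ G).left w = z from hw]

/-- The range of a homomorphism is stable under inversion. -/
theorem range_invStable {H : Over S} [GrpObj H] (u : H ⟶ G) [IsMonHom u] (g : G.left)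
    (hg : g ∈ Set.range u.left) : (GrpObj.inv (X := G)).left g ∈ Set.range u.left := by
  obtain ⟨h, rfl⟩ := hg
  refine ⟨(GrpObj.inv (X := H)).left h, ?_⟩
  rw [← Scheme.Hom.comp_apply, ← Scheme.Hom.comp_apply, ← Over.comp_left, ← Over.comp_left]
  rw [GrpObj.inv_hom u]

end Groth.Agent.Lib.ActSep
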