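import Groth.Agent.Lib.DescAlg.FpqcCover
import Groth.Agent.Lib.DescAlg.Descends
import Mathlib.CategoryTheory.Monoidal.Cartesian.Over

/-!
Separatedness of a quotient from its equivalence relation.
-/

set_option autoImplicit false

universe u

open CategoryTheory Limits MonoidalCategory CartesianMonoidalCategory AlgebraicGeometry

namespace Groth.Agent.Lib.ActSep

variable {S : Scheme.{u}} {X Y : Over S} (p : X ⟶ Y)

/-- The diagonal of `Y` over `S`. -/
noncomputable abbrev diagY (Y : Over S) : Y ⟶ Y ⊗ Y := lift (𝟙 Y) (𝟙 Y)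

theorem isPullback_graph {P : Over S} {a b : P ⟶ X} (h : IsPullback a b p p) :
    IsPullback (lift a b).left (a ≫ p).left (p ⊗ₘ p).left (diagY Y).left := by
  have hw : lift a b ≫ (p ⊗ₘ p) = (a ≫ p) ≫ diagY Y := by
    refine CartesianMonoidalCategory.hom_ext _ _ ?_ ?_ <;> simp [diagY, h.w]
  have hc : ∀ s : PullbackCone (p ⊗ₘ p) (diagY Y), (s.fst ≫ fst X X) ≫ p = s.snd ∧ (s.fst ≫ snd X X) ≫ p = s.snd := by
    intro s
    constructor
    · simpa [diagY] using congrArg (· ≫ fst Y Y) s.condition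
    · simpa [diagY] using congrArg (· ≫ snd Y Y) s.condition
  have hpb : IsPullback (lift a b) (a ≫ p) (p ⊗ₘ p) (diagY Y) := by
    refine ⟨⟨hw⟩, ⟨PullbackCone.IsLimit.mk _ (fun s => h.lift (s.fst ≫ fst X X) (s.fst ≫ snd X X)
      ((hc s).1.trans (hc s).2.symm)) ?_ ?_ ?_⟩⟩
    · intro s
      refine CartesianMonoidalCategory.hom_ext _ _ ?_ ?_ <;> simp
    · intro s
      rw [← Category.assoc, h.lift_fst]
      exact (hc s).1
    · intro s m h1 _
      refine h.hom_ext ?_ ?_
      · rw [h.lift_fst, ← h1, Category.assoc, lift_fst]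
      · rw [h.lift_snd, ← h1, Category.assoc, lift_snd]
  exact hpb.map (Over.forget S)

theorem isImmersion_graph {P : Over S} {a b : P ⟶ X} (h : IsPullback a b p p) : IsImmersion (lift a b).left := by
  have : IsImmersion (diagY Y).left := inferInstanceAs (IsImmersion (pullback.diagonal Y.hom))
  exact MorphismProperty.of_isPullback (isPullback_graph p h).flip this

theorem isClosedImmersion_graph {P : Over S} {a b : P ⟶ X} (h : IsPullback a b p p) [IsSeparated Y.hom] :
    IsClosedImmersion (lift a b).left := by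
  have : IsClosedImmersion (diagY Y).left := inferInstanceAs (IsClosedImmersion (pullback.diagonal Y.hom))
  exact MorphismProperty.of_isPullback (isPullback_graph p h).flip this

/-- A single flat morphism in which every affine open is the image of a quasi-compact open. -/
theorem quasiCompactCover_singleton {Y Z : Scheme.{u}} (q : Z ⟶ Y)
    (hq : ∀ V : Y.Opens, IsAffineOpen V → ∃ W : Z.Opens, IsCompact (W : Set Z) ∧ q.base '' (W : Set Z) = (V : Set Y)) :
    QuasiCompactCover (PreZeroHypercover.singleton.{u} q) := ⟨fun {U} hU => by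
  obtain ⟨W, hW, hWU⟩ := hq U hU
  exact IsCompactOpenCovered.of_finite (κ := PUnit.{u+1}) (fun _ => ⟨⟩) (fun _ => W) (fun _ => hW)
    (by rw [Set.iUnion_const]; exact hWU)⟩

theorem isSeparated_of_graph {P : Over S} {a b : P ⟶ X} (h : IsPullback a b p p)
    {Z : Scheme.{u}} (q : Z ⟶ Y.left) (r : Z ⟶ X.left) (hr : r ≫ p.left = q) [Surjective q] [Flat q]
    (hq : ∀ V : Y.left.Opens, IsAffineOpen V → ∃ W : Z.Opens, IsCompact (W : Set Z) ∧ q.base '' (W : Set Z) = (V : Set Y.left))
    (hv : IsClosedImmersion (lift a b).left) : IsSeparated Y.hom := by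
  have : QuasiCompactCover (PreZeroHypercover.singleton.{u} q) := quasiCompactCover_singleton q hq
  suffices IsClosedImmersion (diagY Y).left from ⟨this⟩
  have hD := DescAlg.Descends.descends_isClosedImmersion.{u}
  refine DescAlg.FpqcCover.of_fpqcCover @IsClosedImmersion hD _ ((PreZeroHypercover.singleton.{u} q).pullback₁ (fst Y Y).left)
    (fun _ => inferInstanceAs (Flat (pullback.fst (fst Y Y).left q))) fun _ => ?_
  let c₁ := pullback.fst (fst Y Y).left q
  show IsClosedImmersion (pullback.snd (diagY Y).left c₁)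
  refine DescAlg.FpqcCover.of_fpqcCover @IsClosedImmersion hD _ ((PreZeroHypercover.singleton.{u} q).pullback₁ (c₁ ≫ (snd Y Y).left))
    (fun _ => inferInstanceAs (Flat (pullback.fst (c₁ ≫ (snd Y Y).left) q))) fun _ => ?_
  let c₂ := pullback.fst (c₁ ≫ (snd Y Y).left) q
  show IsClosedImmersion (pullback.snd (pullback.snd (diagY Y).left c₁) c₂)
  rw [DescAlg.FpqcCover.snd_iff @IsClosedImmersion]
  let z₁ := (c₂ ≫ pullback.snd (fst Y Y).left q) ≫ r
  let z₂ := pullback.snd (c₁ ≫ (snd Y Y).left) q ≫ r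
  have e₁ : z₁ ≫ p.left = (c₂ ≫ c₁) ≫ (fst Y Y).left := by
    simp only [z₁, c₁, Category.assoc, hr, pullback.condition]
  have e₂ : z₂ ≫ p.left = (c₂ ≫ c₁) ≫ (snd Y Y).left := by
    simp only [z₂, c₂, Category.assoc, hr, pullback.condition]
  let W : Over S := Over.mk ((c₂ ≫ c₁) ≫ (Y ⊗ Y).hom)
  let t₁ : W ⟶ X := Over.homMk z₁ (by
    show z₁ ≫ X.hom = (c₂ ≫ c₁) ≫ (Y ⊗ Y).hom
    rw [← Over.w p, ← Category.assoc, e₁, Category.assoc, Over.w (fst Y Y)])
  let t₂ : W ⟶ X := Over.homMk z₂ (by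
    show z₂ ≫ X.hom = (c₂ ≫ c₁) ≫ (Y ⊗ Y).hom
    rw [← Over.w p, ← Category.assoc, e₂, Category.assoc, Over.w (snd Y Y)])
  let w : W ⟶ Y ⊗ Y := Over.homMk (c₂ ≫ c₁) rfl
  have hm : lift t₁ t₂ ≫ (p ⊗ₘ p) = w := by
    refine CartesianMonoidalCategory.hom_ext _ _ ?_ ?_
    · rw [Category.assoc, tensorHom_fst, lift_fst_assoc]
      exact Over.OverMorphism.ext e₁
    · rw [Category.assoc, tensorHom_snd, lift_snd_assoc]
      exact Over.OverMorphism.ext e₂
  rw [show c₂ ≫ c₁ = (lift t₁ t₂).left ≫ (p ⊗ₘ p).left from (congrArg CommaMorphism.left hm).symm]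
  rw [← DescAlg.FpqcCover.snd_iff @IsClosedImmersion]
  refine MorphismProperty.pullback_snd _ _ ?_
  rw [← (isPullback_graph p h).flip.isoPullback_inv_snd]
  exact (MorphismProperty.cancel_left_of_respectsIso @IsClosedImmersion _ _).2 hv

end Groth.Agent.Lib.ActSep
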