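import Groth.Agent.Lib.GrpSch.Basic
import Groth.Agent.Lib.Flat55.FibrewiseStalk
import Groth.Agent.Lib.Flat55.FlatDescend
import Groth.Agent.Lib.LocalFlat.Fibre
import Groth.Agent.Lib.AlgSpThick.FlatAt
import Groth.Agent.H56.SpecStalk
import Mathlib.RingTheory.Artinian.Module

/-!
Flatness at a point of an equivariant morphism over an artinian local ring spreads everywhere.
-/

set_option autoImplicit false

universe u

open CategoryTheory Limits MonoidalCategory CartesianMonoidalCategory MonObj AlgebraicGeometry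
open TensorProduct

namespace Groth.Agent.Lib.ActSep

open Groth.Agent.Lib.Flat55 Groth.Agent.Lib.Flat55.FlatDescend Groth.Agent.Lib.AlgSpThick.FlatAt
open Groth.Agent.Lib.GrpSch

/-- Flatness at a point survives base change. -/
theorem flat_stalkMap_bc {F₂ F₁ X₁ X₀ : Scheme.{u}} {v : F₂ ⟶ F₁} {d' : F₂ ⟶ X₁} {d : F₁ ⟶ X₀} {b : X₁ ⟶ X₀}
    (h : IsPullback v d' d b) (x : F₂) (hx : (d.stalkMap (v x)).hom.Flat) : (d'.stalkMap x).hom.Flat := by
  let j := F₁.fromSpecStalk (v x)
  have : Flat (Spec.map (d.stalkMap (v x))) := Flat.SpecMap_iff.2 hx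
  have : Flat (X₀.fromSpecStalk (d (v x))) := Groth.Agent.H56.SpecStalk.flat_fromSpecStalk _
  have : Flat (j ≫ d) := by
    rw [← Scheme.SpecMap_stalkMap_fromSpecStalk]; infer_instance
  have : Flat j := Groth.Agent.H56.SpecStalk.flat_fromSpecStalk _
  have hs : IsPullback (pullback.fst j v) (pullback.snd j v ≫ d') (j ≫ d) b :=
    (IsPullback.of_hasPullback j v).paste_vert h
  have : Flat (pullback.snd j v ≫ d') := MorphismProperty.of_isPullback hs ‹Flat (j ≫ d)›
  obtain ⟨p, -, hp⟩ := Scheme.Pullback.exists_preimage_pullback (f := j) (g := v)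
    (IsLocalRing.closedPoint _) x Scheme.fromSpecStalk_closedPoint
  have key := flat_stalkMap_of_comp (pullback.snd j v) d' p (Flat.stalkMap _ p) (Flat.stalkMap _ p)
  exact hp ▸ key

/-- Descent of flatness at a point along a flat base change. -/
theorem flat_stalkMap_descend {F₂ F₁ X₁ X₀ : Scheme.{u}} {v : F₂ ⟶ F₁} {d' : F₂ ⟶ X₁} {d : F₁ ⟶ X₀} {b : X₁ ⟶ X₀}
    (h : IsPullback v d' d b) [Flat b] (x : F₂) (hx : (d'.stalkMap x).hom.Flat) : (d.stalkMap (v x)).hom.Flat := by
  have : Flat v := MorphismProperty.of_isPullback h.flip ‹Flat b›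
  have h1 : ((d' ≫ b).stalkMap x).hom.Flat := flat_stalkMap_comp d' b x hx (Flat.stalkMap b _)
  rw [← h.w] at h1
  exact flat_stalkMap_of_comp v d x (Flat.stalkMap v x) h1

/-- The criterion of flatness by the closed fibre over an artinian local ring. -/
theorem flat_stalkMap_of_fiber {A : Type u} [CommRing A] [IsArtinianRing A] {X Y : Scheme.{u}} (f : X ⟶ Y)
    (g : Y ⟶ Spec (CommRingCat.of A)) [Flat (f ≫ g)] (s : Spec (CommRingCat.of A)) (a : (f ≫ g).fiber s) (x : X)
    (ha : (f ≫ g).fiberι s a = x) (h : ((MoreMor.fiberMap f g s).stalkMap a).hom.Flat) :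
    (f.stalkMap x).hom.Flat := by
  have h2 := (FibrewiseStalk.flat_fiberMap_iff f g s a x ha).1 h
  let R := (Spec (CommRingCat.of A)).presheaf.stalk (g (f x))
  let B := Y.presheaf.stalk (f x)
  let C := X.presheaf.stalk x
  have : IsArtinianRing R := by
    let : Algebra A R := (StructureSheaf.toStalk A (g (f x))).hom.toAlgebra
    have : IsLocalization.AtPrime R (g (f x)).asIdeal := StructureSheaf.IsLocalization.to_stalk A (g (f x))
    exact (IsArtinianRing.localization_surjective (g (f x)).asIdeal.primeCompl R).isArtinianRing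
  have hm : IsNilpotent (IsLocalRing.maximalIdeal R) := by
    rw [← IsLocalRing.jacobson_eq_maximalIdeal (⊥ : Ideal R) bot_ne_top]
    exact IsArtinianRing.isNilpotent_jacobson_bot
  let : Algebra R B := (g.stalkMap (f x)).hom.toAlgebra
  let : Algebra B C := (f.stalkMap x).hom.toAlgebra
  let : Algebra R C := ((f.stalkMap x).hom.comp (g.stalkMap (f x)).hom).toAlgebra
  have : IsScalarTower R B C := .of_algebraMap_eq fun _ ↦ rfl
  have : Module.Flat R C := by
    have h1 : ((f ≫ g).stalkMap x).hom.Flat := Flat.stalkMap _ _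
    rw [Scheme.Hom.stalkMap_comp] at h1
    exact h1
  set I := FibrewiseStalk.mIdeal g (f x)
  set J := FibrewiseStalk.mIdeal (f ≫ g) x
  let : Algebra (B ⧸ I) (C ⧸ J) :=
    RingHom.toAlgebra (R := B ⧸ I) (S := C ⧸ J) (FibrewiseStalk.fibreStalkMap f g x)
  have : IsScalarTower B (B ⧸ I) (C ⧸ J) := .of_algebraMap_eq fun _ ↦ rfl
  have hIJ : J.restrictScalars B = I • (⊤ : Submodule B C) := by
    rw [Ideal.smul_top_eq_map]
    exact congrArg _ (FibrewiseStalk.map_mIdeal f g x).symm
  let E : ((B ⧸ I) ⊗[B] C) ≃ₗ[B] C ⧸ J :=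
    TensorProduct.quotTensorEquivQuotSMul C I ≪≫ₗ Submodule.quotEquivOfEq _ _ hIJ.symm ≪≫ₗ
      Submodule.Quotient.restrictScalarsEquiv _ J
  have : Module.Flat (B ⧸ I) (C ⧸ J) := h2
  have hfib : Module.Flat (B ⧸ I) ((B ⧸ I) ⊗[B] C) := Module.Flat.of_linearEquiv
    (E.extendScalarsOfSurjective (S := B ⧸ I) Ideal.Quotient.mk_surjective)
  have : Module.Flat (B ⧸ (IsLocalRing.maximalIdeal R).map (algebraMap R B))
      ((B ⧸ (IsLocalRing.maximalIdeal R).map (algebraMap R B)) ⊗[B] C) := hfib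
  have hflat : Module.Flat B C := LocalFlat.Fibre.flat_of_nilpotent B (IsLocalRing.maximalIdeal R) hm
  exact hflat

/-- Flatness at a point of `f ▷ T` moves along the translations. -/
theorem flat_stalkMap_translate {S : Scheme.{u}} {G X T : Over S} [GrpObj G] (f : G ⟶ X) (g : T ⟶ G) (e : X ⊗ T ≅ X ⊗ T)
    (he : lift ((snd G T ≫ g) * fst G T) (snd G T) ≫ (f ▷ T) = (f ▷ T) ≫ e.hom)
    (p₀ p₁ : (G ⊗ T).left) (hσ : (lift ((snd G T ≫ g) * fst G T) (snd G T)).left p₁ = p₀)
    (h : ((f ▷ T).left.stalkMap p₀).hom.Flat) : ((f ▷ T).left.stalkMap p₁).hom.Flat := by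
  let σ : G ⊗ T ≅ G ⊗ T :=
    { hom := lift ((snd G T ≫ g) * fst G T) (snd G T)
      inv := lift ((snd G T ≫ g)⁻¹ * fst G T) (snd G T)
      hom_inv_id := by
        refine CartesianMonoidalCategory.hom_ext _ _ ?_ (by simp)
        simp [MonObj.comp_mul, GrpObj.comp_inv]
      inv_hom_id := by
        refine CartesianMonoidalCategory.hom_ext _ _ ?_ (by simp)
        simp [MonObj.comp_mul] }
  have : IsIso σ.hom.left := ((Over.forget _).mapIso σ).isIso_hom
  have : IsIso e.hom.left := ((Over.forget _).mapIso e).isIso_hom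
  exact flat_stalkMap_bc (IsPullback.of_horiz_isIso (fst := σ.hom.left) (snd := (f ▷ T).left) (f := (f ▷ T).left)
      (g := e.hom.left) ⟨by rw [← Over.comp_left, ← Over.comp_left, he]⟩) p₁ (hσ.symm ▸ h)

/-- Flatness at a point descends from a field-valued point of the artinian base. -/
theorem flat_stalkMap_of_fieldPoint {A : Type u} [CommRing A] [IsArtinianRing A]
    {G X : Over (Spec (CommRingCat.of A))} [Flat G.hom] (f : G ⟶ X) (K : Type u) [Field K]
    (t : Spec (CommRingCat.of K) ⟶ Spec (CommRingCat.of A)) (p : (G ⊗ Over.mk t).left)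
    (hp : ((f ▷ Over.mk t).left.stalkMap p).hom.Flat) : (f.left.stalkMap ((fst G (Over.mk t)).left p)).hom.Flat := by
  obtain ⟨⟨s, ψ⟩, hψ⟩ := (Scheme.SpecToEquivOfField K (Spec (CommRingCat.of A))).symm.surjective t
  change Spec.map ψ ≫ (Spec (CommRingCat.of A)).fromSpecResidueField s = t at hψ
  let R : Over (Spec (CommRingCat.of A)) := Over.mk ((Spec (CommRingCat.of A)).fromSpecResidueField s)
  let T : Over (Spec (CommRingCat.of A)) := Over.mk t
  let π : T ⟶ R := Over.homMk (Spec.map ψ) hψ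
  have : Flat π.left := by
    show Flat (Spec.map ψ)
    rw [Flat.SpecMap_iff]
    letI := ψ.hom.toAlgebra
    exact (inferInstance : Module.Flat ((Spec (CommRingCat.of A)).residueField s) K)
  have : Flat (X ◁ π).left := MorphismProperty.of_isPullback (P := @Flat) (isPullback_whiskerLeft X π).flip ‹_›
  have sq : IsPullback (G ◁ π).left (f ▷ T).left (f ▷ R).left (X ◁ π).left := by
    refine IsPullback.of_right ?_ ?_ (isPullback_whiskerRight f R).flip
    · rw [← Over.comp_left, whiskerLeft_fst, ← Over.comp_left, whiskerLeft_fst]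
      exact (isPullback_whiskerRight f T).flip
    · rw [← Over.comp_left, ← Over.comp_left, whisker_exchange]
  have hflatR := flat_stalkMap_descend sq p hp
  have haπ : (fst G R).left ((G ◁ π).left p) = (fst G T).left p := by
    rw [← Scheme.Hom.comp_apply, ← Over.comp_left, whiskerLeft_fst]
  have key : ∀ (h : G.left ⟶ Spec (CommRingCat.of A)) (w : f.left ≫ X.hom = h)
      (m : h.fiber s ⟶ X.hom.fiber s), m ≫ X.hom.fiberι s = h.fiberι s ≫ f.left →
      m ≫ X.hom.fiberToSpecResidueField s = h.fiberToSpecResidueField s → ∀ (a : h.fiber s),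
      Flat h → (m.stalkMap a).hom.Flat → (f.left.stalkMap (h.fiberι s a)).hom.Flat := by
    intro h w m hm1 hm2 a _ hm
    subst w
    have e : m = MoreMor.fiberMap f.left X.hom s :=
      pullback.hom_ext (hm1.trans (pullback.lift_fst _ _ _).symm) (hm2.trans (pullback.lift_snd _ _ _).symm)
    subst e
    exact flat_stalkMap_of_fiber f.left X.hom s a _ rfl hm
  have hk := key G.hom (Over.w f) _
    (show (f ▷ R).left ≫ (fst X R).left = (fst G R).left ≫ f.left by
      rw [← Over.comp_left, ← Over.comp_left, whiskerRight_fst])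
    (show (f ▷ R).left ≫ (snd X R).left = (snd G R).left by
      rw [← Over.comp_left, whiskerRight_snd])
    ((G ◁ π).left p) ‹_› hflatR
  exact haπ ▸ hk

/-- An equivariant morphism out of a flat group which is flat at one point is flat. -/
theorem flat_of_flat_at_point {A : Type u} [CommRing A] [IsArtinianRing A] [IsLocalRing A]
    {G X : Over (Spec (CommRingCat.of A))} [GrpObj G] [Flat G.hom] (f : G ⟶ X)
    (heq : ∀ (T : Over (Spec (CommRingCat.of A))) (g : T ⟶ G), ∃ e : X ⊗ T ≅ X ⊗ T,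
      lift ((snd G T ≫ g) * fst G T) (snd G T) ≫ (f ▷ T) = (f ▷ T) ≫ e.hom)
    (x₀ : G.left) (hx₀ : (f.left.stalkMap x₀).hom.Flat) : Flat f.left := by
  refine Flat.of_stalkMap _ fun x => ?_
  obtain ⟨z, hz₀, hz⟩ := Scheme.exists_preimage_of_isPullback (isPullback_left G G) x₀ x
    (Subsingleton.elim (α := PrimeSpectrum A) _ _)
  obtain ⟨K, hK, t, zT, hzpt⟩ : ∃ (K : Type u) (_ : Field K) (t : Spec (CommRingCat.of K) ⟶ Spec (CommRingCat.of A))
      (zT : Over.mk t ⟶ G ⊗ G), zT.left (IsLocalRing.closedPoint K) = z :=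
    ⟨(G ⊗ G).left.residueField z, inferInstance, (G ⊗ G).left.fromSpecResidueField z ≫ (G ⊗ G).hom,
      Over.homMk ((G ⊗ G).left.fromSpecResidueField z) rfl, (G ⊗ G).left.fromSpecResidueField_apply z _⟩
  have hpt : ∀ (g : Over.mk t ⟶ G), (fst G (Over.mk t)).left ((lift g (𝟙 (Over.mk t))).left (IsLocalRing.closedPoint K)) =
      g.left (IsLocalRing.closedPoint K) := fun g => by
    rw [← Scheme.Hom.comp_apply, ← Over.comp_left, lift_fst]
  have hp₀ := hpt (zT ≫ fst G G)
  rw [Over.comp_left, Scheme.Hom.comp_apply, hzpt, show (fst G G).left z = x₀ from hz₀] at hp₀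
  have hp₁ := hpt (zT ≫ snd G G)
  rw [Over.comp_left, Scheme.Hom.comp_apply, hzpt, show (snd G G).left z = x from hz] at hp₁
  obtain ⟨e, he⟩ := heq (Over.mk t) ((zT ≫ fst G G) * (zT ≫ snd G G)⁻¹)
  have h0 := flat_stalkMap_bc (isPullback_whiskerRight f (Over.mk t)).flip
    ((lift (zT ≫ fst G G) (𝟙 _)).left (IsLocalRing.closedPoint K)) (hp₀.symm ▸ hx₀)
  have h1 := flat_stalkMap_translate f _ e he _ ((lift (zT ≫ snd G G) (𝟙 _)).left (IsLocalRing.closedPoint K)) (by
    rw [← Scheme.Hom.comp_apply, ← Over.comp_left]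
    have e : lift (zT ≫ snd G G) (𝟙 (Over.mk t)) ≫
        lift ((snd G (Over.mk t) ≫ ((zT ≫ fst G G) * (zT ≫ snd G G)⁻¹)) * fst G (Over.mk t)) (snd G (Over.mk t)) =
        lift (zT ≫ fst G G) (𝟙 (Over.mk t)) := by
      refine CartesianMonoidalCategory.hom_ext _ _ ?_ (by simp)
      simp [MonObj.comp_mul]
    rw [e]) h0
  exact hp₁ ▸ flat_stalkMap_of_fieldPoint f K t _ h1

/-- A homomorphism is equivariant. -/
theorem exists_iso_hom {S : Scheme.{u}} {G H : Over S} [GrpObj G] [GrpObj H] (f : G ⟶ H) [IsMonHom f]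
    (T : Over S) (g : T ⟶ G) :
    ∃ e : H ⊗ T ≅ H ⊗ T, lift ((snd G T ≫ g) * fst G T) (snd G T) ≫ (f ▷ T) = (f ▷ T) ≫ e.hom := by
  refine ⟨{ hom := lift ((snd H T ≫ g ≫ f) * fst H T) (snd H T)
            inv := lift ((snd H T ≫ g ≫ f)⁻¹ * fst H T) (snd H T)
            hom_inv_id := ?_, inv_hom_id := ?_ }, ?_⟩
  · refine CartesianMonoidalCategory.hom_ext _ _ ?_ (by simp)
    simp [MonObj.comp_mul, GrpObj.comp_inv]
  · refine CartesianMonoidalCategory.hom_ext _ _ ?_ (by simp)
    simp [MonObj.comp_mul, GrpObj.comp_inv]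
  · ext1 <;> simp [MonObj.mul_comp, MonObj.comp_mul, Category.assoc]

/-- An orbit map is equivariant. -/
theorem exists_iso_orbit {S : Scheme.{u}} {G X : Over S} [GrpObj G] (a : AlgGrp.Action G X)
    (o : 𝟙_ (Over S) ⟶ X) (T : Over S) (g : T ⟶ G) :
    ∃ e : X ⊗ T ≅ X ⊗ T,
      lift ((snd G T ≫ g) * fst G T) (snd G T) ≫ (a.orbitMap o ▷ T) = (a.orbitMap o ▷ T) ≫ e.hom := by
  refine ⟨{ hom := lift (lift (snd X T ≫ g) (fst X T) ≫ a.act) (snd X T)
            inv := lift (lift (snd X T ≫ g)⁻¹ (fst X T) ≫ a.act) (snd X T)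
            hom_inv_id := ?_, inv_hom_id := ?_ }, ?_⟩
  · refine CartesianMonoidalCategory.hom_ext _ _ ?_ (by simp)
    simp [comp_lift_assoc, GrpObj.comp_inv]
  · refine CartesianMonoidalCategory.hom_ext _ _ ?_ (by simp)
    simp [comp_lift_assoc, GrpObj.comp_inv]
  · refine CartesianMonoidalCategory.hom_ext _ _ ?_ (by simp)
    simp [AlgGrp.Action.orbitMap, comp_lift_assoc, act_mul]

end Groth.Agent.Lib.ActSep
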