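import Groth.Agent.Lib.GrpSch.Basic
import Groth.Agent.H75.RedKer
import Groth.Agent.Lib.ActSep.MaxPt
import Mathlib.AlgebraicGeometry.Morphisms.UniversallyOpen
import Mathlib.AlgebraicGeometry.Morphisms.FinitePresentation
import Mathlib.AlgebraicGeometry.AlgClosed.Basic
import Mathlib.AlgebraicGeometry.PullbackCarrier
import Mathlib.FieldTheory.IsAlgClosed.AlgebraicClosure

/-!
Separatedness of a scheme with an action, from translating pairs of points into separated opens.
-/

universe u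

open CategoryTheory Limits MonoidalCategory CartesianMonoidalCategory MonObj AlgebraicGeometry

namespace Groth.Agent.Lib.ActSep.Criterion

open Groth.Agent.Lib.GrpSch

theorem exists_lift_of_isImmersion {X Y Z : Scheme.{u}} [IsReduced X] (f : X ⟶ Y) (j : Z ⟶ Y)
    [IsImmersion j] (h : Set.range f ⊆ Set.range j) : ∃ g : X ⟶ Z, g ≫ j = f := by
  have hf : Set.range f ⊆ Set.range j.coborderRange.ι :=
    h.trans fun y ⟨z, hz⟩ => ⟨j.liftCoborder z, by rw [← Scheme.Hom.comp_apply, j.liftCoborder_ι, hz]⟩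
  have hfac : IsOpenImmersion.lift j.coborderRange.ι f hf ≫ j.coborderRange.ι = f :=
    IsOpenImmersion.lift_fac _ _ _
  obtain ⟨g, hg⟩ := Groth.Agent.H75.RedKer.exists_lift (IsOpenImmersion.lift j.coborderRange.ι f hf)
    j.liftCoborder (by
      rintro _ ⟨x, rfl⟩
      obtain ⟨z, hz⟩ := h ⟨x, rfl⟩
      refine ⟨z, j.coborderRange.ι.injective ?_⟩
      rw [← Scheme.Hom.comp_apply, j.liftCoborder_ι, hz, ← Scheme.Hom.comp_apply, hfac])
  exact ⟨g, by rw [← j.liftCoborder_ι, ← Category.assoc, hg, hfac]⟩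

/-- Inside a separated open the diagonal is closed. -/
theorem mem_range_diagonal_of_mem_closure {X S : Scheme.{u}} (f : X ⟶ S) {V : X.Opens}
    (hV : IsSeparated (V.ι ≫ f)) {y : ↥(pullback f f)}
    (hy : y ∈ closure (Set.range (pullback.diagonal f)))
    (h1 : pullback.fst f f y ∈ V) (h2 : pullback.snd f f y ∈ V) :
    y ∈ Set.range (pullback.diagonal f) := by
  let j := pullback.map (V.ι ≫ f) (V.ι ≫ f) f f V.ι V.ι (𝟙 S) (by simp) (by simp)
  have : IsOpenImmersion j := inferInstance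
  have hj : pullback.diagonal (V.ι ≫ f) ≫ j = V.ι ≫ pullback.diagonal f := by
    apply pullback.hom_ext
    · rw [Category.assoc, Category.assoc]
      erw [pullback.lift_fst, pullback.diagonal_fst]
      rw [pullback.diagonal_fst_assoc, Category.comp_id]
    · rw [Category.assoc, Category.assoc]
      erw [pullback.lift_snd, pullback.diagonal_snd]
      rw [pullback.diagonal_snd_assoc, Category.comp_id]
  obtain ⟨z, rfl⟩ : y ∈ Set.range j := by
    rw [Scheme.Pullback.range_map]
    exact ⟨by simpa using h1, by simpa using h2⟩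
  have hz : z ∈ closure (Set.range (pullback.diagonal (V.ι ≫ f))) := by
    rw [j.isOpenEmbedding.isInducing.closure_eq_preimage_closure_image, Set.mem_preimage]
    refine mem_closure_iff.2 fun O hO hzO => ?_
    obtain ⟨_, ⟨hwO, v, hv⟩, ⟨x, rfl⟩⟩ :=
      mem_closure_iff.1 hy (O ∩ Set.range j) (hO.inter j.isOpenEmbedding.isOpen_range) ⟨hzO, z, rfl⟩
    have hxV : x ∈ V := by
      have h3 : pullback.fst f f (j v) ∈ (V : Set X) := by
        rw [← Scheme.Hom.comp_apply]
        simp only [j, pullback.map, pullback.lift_fst, Scheme.Hom.comp_apply]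
        exact (pullback.fst (V.ι ≫ f) (V.ι ≫ f) v).2
      rw [hv, ← Scheme.Hom.comp_apply, pullback.diagonal_fst] at h3
      exact h3
    refine ⟨_, hwO, pullback.diagonal (V.ι ≫ f) ⟨x, hxV⟩, ⟨⟨x, hxV⟩, rfl⟩, ?_⟩
    exact ((Scheme.Hom.comp_apply _ j _).symm.trans
      (congrArg (fun φ : (V : Scheme.{u}) ⟶ pullback f f => φ ⟨x, hxV⟩) hj))
  rw [(pullback.diagonal (V.ι ≫ f)).isClosedEmbedding.isClosed_range.closure_eq] at hz
  obtain ⟨w, rfl⟩ := hz
  exact ⟨V.ι w, by rw [← Scheme.Hom.comp_apply, ← hj, Scheme.Hom.comp_apply]⟩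

variable {S : Scheme.{u}} {G X : Over S} [GrpObj G]

/-- `X` is separated when any two geometric points in a fibre can be translated by one point of an
open of `G` universally open over `S` into one separated open of `X`. -/
theorem isSeparated_of_translate (a : AlgGrp.Action G X) (W : G.left.Opens)
    (hW : UniversallyOpen (W.ι ≫ G.hom))
    (H : ∀ (K : Type u) [Field K] [IsAlgClosed K] (t : Spec (CommRingCat.of K) ⟶ S)
      (x₁ x₂ : Over.mk t ⟶ X),
      ∃ (L : Scheme.{u}) (_ : IsReduced L) (_ : Subsingleton L) (_ : Nonempty L)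
        (π : L ⟶ Spec (CommRingCat.of K)) (g : Over.mk (π ≫ t) ⟶ G) (p : L)
        (U : X.left.Opens), IsSeparated (U.ι ≫ X.hom) ∧ g.left p ∈ W ∧
          (lift g ((Over.homMk π rfl : Over.mk (π ≫ t) ⟶ Over.mk t) ≫ x₁) ≫ a.act).left p ∈ U ∧
          (lift g ((Over.homMk π rfl : Over.mk (π ≫ t) ⟶ Over.mk t) ≫ x₂) ≫ a.act).left p ∈ U) :
    IsSeparated X.hom := by
  let Δ := pullback.diagonal X.hom
  refine ⟨IsClosedImmersion.of_isPreimmersion _ (isClosed_of_closure_subset fun y hy => ?_)⟩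
  let K := AlgebraicClosure ((pullback X.hom X.hom).residueField y)
  let r : Spec (CommRingCat.of K) ⟶ pullback X.hom X.hom :=
    Spec.map (CommRingCat.ofHom (algebraMap ((pullback X.hom X.hom).residueField y) K)) ≫
      (pullback X.hom X.hom).fromSpecResidueField y
  have key : ∀ v, r v = y := fun v =>
    (Scheme.Hom.comp_apply _ _ _).trans (Scheme.fromSpecResidueField_apply _ _)
  let t : Spec (CommRingCat.of K) ⟶ S := r ≫ pullback.fst X.hom X.hom ≫ X.hom
  let x₁ : Over.mk t ⟶ X := Over.homMk (r ≫ pullback.fst X.hom X.hom) (Category.assoc _ _ _)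
  let x₂ : Over.mk t ⟶ X := Over.homMk (r ≫ pullback.snd X.hom X.hom)
    ((Category.assoc _ _ _).trans (by rw [← pullback.condition]; rfl))
  obtain ⟨L, _, _, _, π, g, p, U, hU, hgW, h1U, h2U⟩ := H K t x₁ x₂
  let T : Over S := Over.mk (π ≫ t)
  let πT : T ⟶ Over.mk t := Over.homMk π rfl
  let Wo : Over S := Over.mk (W.ι ≫ G.hom)
  let j : Wo ⟶ G := Over.homMk W.ι rfl
  have hgr : Set.range g.left ⊆ Set.range W.ι := by
    rintro _ ⟨q, rfl⟩
    rw [Scheme.Opens.range_ι, Subsingleton.elim (α := L) q p]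
    exact hgW
  let g' : T ⟶ Wo := Over.homMk (IsOpenImmersion.lift W.ι g.left hgr)
    (by show _ ≫ W.ι ≫ G.hom = _; rw [IsOpenImmersion.lift_fac_assoc]; exact Over.w g)
  have hg' : g' ≫ j = g := Over.OverMorphism.ext (IsOpenImmersion.lift_fac _ _ _)
  let Q : Over S := Wo ⊗ (X ⊗ X)
  let pr : Q ⟶ X ⊗ X := snd Wo (X ⊗ X)
  let ψ : Q ⟶ X ⊗ X :=
    lift (lift (fst _ _ ≫ j) (pr ≫ fst X X) ≫ a.act) (lift (fst _ _ ≫ j) (pr ≫ snd X X) ≫ a.act)
  let σ : T ⟶ Q := lift g' (πT ≫ lift x₁ x₂)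
  have hopen : IsOpenMap pr.left := by
    have : UniversallyOpen pr.left := snd_left_of (P := @UniversallyOpen) (X ⊗ X) hW
    exact pr.left.isOpenMap
  have hq : σ.left p ∈ closure (pr.left ⁻¹' Set.range Δ) := by
    apply hopen.preimage_closure_subset_closure_preimage
    show pr.left (σ.left p) ∈ closure (Set.range Δ)
    have e : σ ≫ pr = πT ≫ lift x₁ x₂ := lift_snd _ _
    have e2 : (lift x₁ x₂).left = r := by
      apply pullback.hom_ext
      · exact congrArg CommaMorphism.left (lift_fst x₁ x₂)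
      · exact congrArg CommaMorphism.left (lift_snd x₁ x₂)
    rw [← Scheme.Hom.comp_apply, ← Over.comp_left, e, Over.comp_left, Scheme.Hom.comp_apply, e2]
    show r (π p) ∈ closure (Set.range Δ)
    rw [key]
    exact hy
  have hmaps : pr.left ⁻¹' Set.range Δ ⊆ ψ.left ⁻¹' Set.range Δ := by
    intro q hq
    let rq := Q.left.fromSpecResidueField q
    obtain ⟨z, hz⟩ := exists_lift_of_isImmersion (rq ≫ pr.left) Δ (by
      rintro _ ⟨v, rfl⟩
      rw [Scheme.Hom.comp_apply, Scheme.fromSpecResidueField_apply]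
      exact hq)
    let Tq : Over S := Over.mk (rq ≫ Q.hom)
    let rq' : Tq ⟶ Q := Over.homMk rq rfl
    have heq : rq' ≫ pr ≫ fst X X = rq' ≫ pr ≫ snd X X := by
      apply Over.OverMorphism.ext
      show rq ≫ pr.left ≫ pullback.fst X.hom X.hom = rq ≫ pr.left ≫ pullback.snd X.hom X.hom
      rw [← Category.assoc, ← Category.assoc, ← hz, Category.assoc, Category.assoc]
      simp [Δ]
    let w : Tq ⟶ X := lift (rq' ≫ fst _ _ ≫ j) (rq' ≫ pr ≫ fst X X) ≫ a.act
    have hψ : rq' ≫ ψ = w ≫ lift (𝟙 X) (𝟙 X) := by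
      ext1
      · simp [ψ, w, comp_lift_assoc]
      · simp [ψ, w, comp_lift_assoc, heq]
    have hd : (lift (𝟙 X) (𝟙 X)).left = Δ := by
      apply pullback.hom_ext
      · exact (congrArg CommaMorphism.left (lift_fst (𝟙 X) (𝟙 X))).trans
          (pullback.diagonal_fst X.hom).symm
      · exact (congrArg CommaMorphism.left (lift_snd (𝟙 X) (𝟙 X))).trans
          (pullback.diagonal_snd X.hom).symm
    obtain ⟨v⟩ : Nonempty ↥(Spec (Q.left.residueField q)) := inferInstance
    refine ⟨w.left v, ?_⟩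
    rw [← hd, ← Scheme.Hom.comp_apply, ← Over.comp_left, ← hψ, Over.comp_left]
    show ψ.left (rq v) = ψ.left q
    rw [Scheme.fromSpecResidueField_apply]
  have e1 : σ ≫ ψ ≫ fst X X = lift g (πT ≫ x₁) ≫ a.act := by
    simp [σ, ψ, pr, hg']
  have e2 : σ ≫ ψ ≫ snd X X = lift g (πT ≫ x₂) ≫ a.act := by
    simp [σ, ψ, pr, hg']
  have hψq : ψ.left (σ.left p) ∈ Set.range Δ := by
    refine mem_range_diagonal_of_mem_closure X.hom hU ?_ ?_ ?_
    · exact map_mem_closure ψ.left.continuous hq hmaps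
    · show (fst X X).left (ψ.left (σ.left p)) ∈ U
      rw [← Scheme.Hom.comp_apply, ← Scheme.Hom.comp_apply, ← Over.comp_left, ← Over.comp_left, e1]
      exact h1U
    · show (snd X X).left (ψ.left (σ.left p)) ∈ U
      rw [← Scheme.Hom.comp_apply, ← Scheme.Hom.comp_apply, ← Over.comp_left, ← Over.comp_left, e2]
      exact h2U
  have : IsReduced T.left := ‹IsReduced L›
  obtain ⟨z, hz⟩ := exists_lift_of_isImmersion (σ ≫ ψ).left Δ (by
    rintro _ ⟨v, rfl⟩
    rw [Subsingleton.elim (α := L) v p]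
    exact hψq)
  have heq : lift g (πT ≫ x₁) ≫ a.act = lift g (πT ≫ x₂) ≫ a.act := by
    refine (e1.symm.trans ?_).trans e2
    apply Over.OverMorphism.ext
    show σ.left ≫ ψ.left ≫ pullback.fst X.hom X.hom = σ.left ≫ ψ.left ≫ pullback.snd X.hom X.hom
    rw [← Category.assoc, ← Category.assoc]
    erw [← Over.comp_left, ← hz]
    rw [Category.assoc, Category.assoc]
    simp [Δ]
  have hx : πT ≫ x₁ = πT ≫ x₂ := by
    have h := congrArg (fun x => lift g⁻¹ x ≫ a.act) heq
    simpa [act_inv_act] using h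
  refine ⟨(r ≫ pullback.fst X.hom X.hom) (π p), ?_⟩
  have e : π ≫ (r ≫ pullback.fst X.hom X.hom) ≫ Δ = π ≫ r := by
    apply pullback.hom_ext
    · simp [Δ]
    · have := congrArg CommaMorphism.left hx
      simp only [Category.assoc, Δ, pullback.diagonal_snd, Category.comp_id]
      exact this
  rw [← Scheme.Hom.comp_apply, ← Scheme.Hom.comp_apply, e, Scheme.Hom.comp_apply]
  exact key _

end Groth.Agent.Lib.ActSep.Criterion
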