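import Groth.Agent.Lib.ActSep.CMDescend
import Groth.Agent.Lib.GrpSch.Basic
import Groth.Agent.Lib.ActSep.MaxPt
import Groth.Agent.Lib.EtPropABC.Basic
import Mathlib.AlgebraicGeometry.AlgClosed.Basic

/-!
Group schemes locally of finite type over a field are Cohen–Macaulay.
-/

universe u

open CategoryTheory Limits MonoidalCategory CartesianMonoidalCategory MonObj AlgebraicGeometry Topology

namespace Groth.Agent.Lib.ActSep

open Groth.Agent.Lib.GrpSch Groth.Agent.Lib.ActSep.MaxPt

section AlgClosed

variable {k : Type u} [Field k] [IsAlgClosed k] {G : Over (Spec (CommRingCat.of k))} [GrpObj G]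
  [LocallyOfFiniteType G.hom]

/-- Right translation by a rational point. -/
noncomputable def transl (q : 𝟙_ (Over (Spec (CommRingCat.of k))) ⟶ G) : G ≅ G where
  hom := 𝟙 G * (toUnit G ≫ q)
  inv := 𝟙 G * (toUnit G ≫ q⁻¹)
  hom_inv_id := by
    rw [MonObj.comp_mul, Category.comp_id, GrpObj.comp_inv, GrpObj.comp_inv, ← Category.assoc,
      toUnit_unique (_ ≫ toUnit G) (toUnit G), mul_inv_cancel_right]
  inv_hom_id := by
    rw [MonObj.comp_mul, Category.comp_id, GrpObj.comp_inv, ← Category.assoc,
      toUnit_unique (_ ≫ toUnit G) (toUnit G), inv_mul_cancel_right]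

omit [IsAlgClosed k] [LocallyOfFiniteType G.hom] in
theorem transl_apply (r q : 𝟙_ (Over (Spec (CommRingCat.of k))) ⟶ G)
    (z : (𝟙_ (Over (Spec (CommRingCat.of k)))).left) : (transl q).hom.left (r.left z) = (r * q).left z := by
  rw [← Scheme.Hom.comp_apply, ← Over.comp_left, transl, MonObj.comp_mul, Category.comp_id, ← Category.assoc,
    toUnit_unique (r ≫ toUnit G) (𝟙 _), Category.id_comp]

theorem exists_ratPt {x : G.left} (hx : x ∈ closedPoints G.left) :
    ∃ q : 𝟙_ (Over (Spec (CommRingCat.of k))) ⟶ G, ∀ z, q.left z = x :=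
  ⟨Over.homMk (pointOfClosedPoint G.hom x hx) (pointOfClosedPoint_comp G.hom x hx),
    fun z => pointOfClosedPoint_apply G.hom x hx z⟩

theorem nonempty_stalk_iso {a b : G.left} (ha : a ∈ closedPoints G.left) (hb : b ∈ closedPoints G.left) :
    Nonempty (G.left.presheaf.stalk a ≅ G.left.presheaf.stalk b) := by
  obtain ⟨qa, hqa⟩ := exists_ratPt ha
  obtain ⟨qb, hqb⟩ := exists_ratPt hb
  let e := ((Over.forget (Spec (CommRingCat.of k))).mapIso (transl (qa⁻¹ * qb))).hom
  obtain ⟨z⟩ : Nonempty (Spec (CommRingCat.of k)) := inferInstance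
  have he : e a = b := by
    rw [← hqa z, ← hqb z]
    refine (transl_apply qa (qa⁻¹ * qb) z).trans ?_
    rw [mul_inv_cancel_left]
  exact ⟨(asIso (e.stalkMap a)).symm ≪≫ G.left.presheaf.stalkCongr (.of_eq he)⟩

theorem isCohenMacaulay_stalk_of_isAlgClosed (x : G.left) :
    LocCoh.IsCohenMacaulayLocalRing (G.left.presheaf.stalk x) := by
  have : JacobsonSpace G.left := LocallyOfFiniteType.jacobsonSpace G.hom
  have : IsLocallyNoetherian G.left := LocallyOfFiniteType.isLocallyNoetherian G.hom
  let C := {y : G.left | LocCoh.IsCohenMacaulayLocalRing (G.left.presheaf.stalk y)}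
  have hC : IsOpen C := isOpen_setOf_isCohenMacaulay G.hom
  -- maximal points are in the locus
  obtain ⟨ξ, hξ, hξx⟩ := exists_isMaxPt G.left x
  have hξC : ξ ∈ C := by
    refine Groth.Agent.Lib.Depth.CM.isCohenMacaulayLocalRing_iff.2 (le_trans ?_ (WithBot.coe_le_coe.2 bot_le))
    have : Subsingleton (PrimeSpectrum (G.left.presheaf.stalk ξ)) := by
      refine ⟨fun P Q => ?_⟩
      have key : ∀ R : PrimeSpectrum (G.left.presheaf.stalk ξ), R = IsLocalRing.closedPoint _ := by
        intro R
        apply (G.left.fromSpecStalk ξ).isEmbedding.injective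
        have h1 : (R : Spec (G.left.presheaf.stalk ξ)) ⤳ IsLocalRing.closedPoint (G.left.presheaf.stalk ξ) :=
          (PrimeSpectrum.le_iff_specializes R _).1 (IsLocalRing.le_maximalIdeal R.isPrime.ne_top)
        have h2 := h1.map (G.left.fromSpecStalk ξ).continuous
        rw [Scheme.fromSpecStalk_closedPoint] at h2 ⊢
        exact hξ _ h2
      rw [key P, key Q]
    exact Order.krullDim_nonpos_of_subsingleton
  by_contra hx
  obtain ⟨a, ha, hac⟩ := nonempty_inter_closedPoints (Z := C) ⟨ξ, hξC⟩ hC.isLocallyClosed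
  obtain ⟨b, hb, hbc⟩ := nonempty_inter_closedPoints (Z := Cᶜ) ⟨x, hx⟩ hC.isClosed_compl.isLocallyClosed
  obtain ⟨e⟩ := nonempty_stalk_iso hac hbc
  have ha' : LocCoh.IsCohenMacaulayLocalRing (G.left.presheaf.stalk a) := ha
  exact hb (Groth.Agent.Lib.Excellent.Transport.isCohenMacaulayLocalRing_of_ringEquiv e.commRingCatIsoToRingEquiv)

end AlgClosed

theorem isCohenMacaulay_stalk {k : Type u} [Field k] (G : Over (Spec (CommRingCat.of k))) [GrpObj G]
    [LocallyOfFiniteType G.hom] (x : G.left) : LocCoh.IsCohenMacaulayLocalRing (G.left.presheaf.stalk x) := by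
  let K := AlgebraicClosure k
  let b : Spec (CommRingCat.of K) ⟶ Spec (CommRingCat.of k) :=
    Spec.map (CommRingCat.ofHom (algebraMap k (AlgebraicClosure k)))
  have hb1 : Flat b := by
    rw [HasRingHomProperty.Spec_iff (P := @Flat)]
    exact RingHom.flat_algebraMap_iff.2 inferInstance
  have hb2 : IsIntegralHom b := by
    rw [IsIntegralHom.SpecMap_iff]
    exact fun y => (Algebra.IsIntegral.isIntegral (R := k) y)
  let H := (Over.pullback b).obj G
  let : GrpObj H := ((Over.pullback b).mapGrp.obj ⟨G⟩).grp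
  have : LocallyOfFiniteType H.hom := inferInstanceAs (LocallyOfFiniteType (pullback.snd G.hom b))
  let p : H.left ⟶ G.left := pullback.fst G.hom b
  have : Flat p := MorphismProperty.pullback_fst G.hom b hb1
  have : IsIntegralHom p := MorphismProperty.pullback_fst G.hom b hb2
  have : IsLocallyNoetherian G.left := LocallyOfFiniteType.isLocallyNoetherian G.hom
  have : Surjective b := ⟨fun _ => ⟨IsLocalRing.closedPoint K, Subsingleton.elim _ _⟩⟩
  have : Surjective p := MorphismProperty.pullback_fst G.hom b ‹_›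
  obtain ⟨z, rfl⟩ := p.surjective x
  have : LocCoh.IsCohenMacaulayLocalRing (H.left.presheaf.stalk z) := isCohenMacaulay_stalk_of_isAlgClosed (G := H) z
  exact isCohenMacaulayLocalRing_stalk_of_flat p z fun w hw he =>
    Groth.Agent.Lib.EtPropABC.Basic.eq_of_specializes p hw he

end Groth.Agent.Lib.ActSep
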