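import Groth.Agent.Lib.ActSep.UnivOpen

/-!
The fibre dimension of a group scheme as a function on the base.
-/

universe u

open CategoryTheory Limits MonoidalCategory CartesianMonoidalCategory MonObj AlgebraicGeometry Topology

namespace Groth.Agent.Lib.ActSep

open Groth.Agent.Lib.GrpSch Groth.Agent.Lib.FibreDim.Basic

variable {S : Scheme.{u}} (G : Over S) [GrpObj G]

theorem isOpen_setOf_dim_le [LocallyOfFiniteType G.hom] (c : WithBot ℕ∞) :
    IsOpen {t : S | topologicalKrullDim ↥(G.hom ⁻¹' {t}) ≤ c} := by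
  have h : {t : S | topologicalKrullDim ↥(G.hom ⁻¹' {t}) ≤ c} =
      η[G].left ⁻¹' {x | FlatMor.fibreDimAt G.hom x ≤ c} := by
    ext t; simp only [Set.mem_preimage, Set.mem_setOf_eq, fibreDimAt_unit]
  rw [h]
  exact (Groth.Agent.Lib.FibreDim.Semicont.isOpen_setOf_fibreDimAt_le G.hom c).preimage η[G].left.continuous

variable [LocallyOfFinitePresentation G.hom]

theorem exists_affine_isCompact_setOf_dim_le (s : S) :
    ∃ D : S.Opens, IsAffineOpen D ∧ s ∈ D ∧ ∀ m : ℕ,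
      IsCompact ((D : Set S) ∩ {t | topologicalKrullDim ↥(G.hom ⁻¹' {t}) ≤ (m : WithBot ℕ∞)}) := by
  obtain ⟨V, hV, hsV, -⟩ := exists_isAffineOpen_mem_and_subset (U := ⊤) (x := s) trivial
  have hesV : G.hom (η[G].left s) ∈ V := by
    rw [← Scheme.Hom.comp_apply, η_left_comp_hom]; exact hsV
  obtain ⟨Ua, hUa, heU, hUV⟩ := exists_isAffineOpen_mem_and_subset (U := G.hom ⁻¹ᵁ V) (x := η[G].left s) hesV
  obtain ⟨D, hD, hsD, hDU⟩ := exists_isAffineOpen_mem_and_subset (U := η[G].left ⁻¹ᵁ Ua) (x := s) heU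
  let := (G.hom.appLE V Ua hUV).hom.toAlgebra
  have : Algebra.FinitePresentation Γ(S, V) Γ(G.left, Ua) := G.hom.finitePresentation_appLE hV hUa hUV
  have hw : Spec.map (CommRingCat.ofHom (algebraMap Γ(S, V) Γ(G.left, Ua))) ≫ hV.fromSpec =
      hUa.fromSpec ≫ G.hom := hV.SpecMap_appLE_fromSpec G.hom hUa hUV
  refine ⟨D, hD, hsD, fun m => ?_⟩
  obtain ⟨hEo, hEc⟩ := isOpen_isCompact_fibreDimAt_le G.hom hV.fromSpec hUa.fromSpec hw m
  let ε : Spec Γ(S, D) ⟶ Spec Γ(G.left, Ua) := Spec.map (η[G].left.appLE Ua D hDU)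
  have hε : ε ≫ hUa.fromSpec = hD.fromSpec ≫ η[G].left := hUa.SpecMap_appLE_fromSpec η[G].left hD hDU
  have hCc := (ε.isCompact_preimage (U := ⟨_, hEo⟩) hEc).image hD.fromSpec.continuous
  have hCmem : ∀ q : Spec Γ(S, D), q ∈ ε ⁻¹' {P | FlatMor.fibreDimAt G.hom (hUa.fromSpec P) ≤ (m : WithBot ℕ∞)} ↔
      topologicalKrullDim ↥(G.hom ⁻¹' {hD.fromSpec q}) ≤ (m : WithBot ℕ∞) := by
    intro q
    show FlatMor.fibreDimAt G.hom (hUa.fromSpec (ε q)) ≤ _ ↔ _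
    rw [← Scheme.Hom.comp_apply, hε, Scheme.Hom.comp_apply, fibreDimAt_unit]
  refine Eq.mp (congrArg IsCompact ?_) hCc
  apply le_antisymm
  · rintro _ ⟨q, hq, rfl⟩
    exact ⟨hD.range_fromSpec ▸ Set.mem_range_self q, (hCmem q).1 hq⟩
  · rintro t ⟨htD, ht⟩
    obtain ⟨q, rfl⟩ : t ∈ Set.range hD.fromSpec := by rw [hD.range_fromSpec]; exact htD
    exact ⟨q, (hCmem q).2 ht, rfl⟩

end Groth.Agent.Lib.ActSep
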