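import Groth.Agent.Lib.ActSep.EquiDim
import Groth.Agent.Lib.UnivHomeo.Basic

/-!
Connected components of group schemes locally of finite type over a one point base are quasi-compact.
-/

universe u

open CategoryTheory Limits MonoidalCategory CartesianMonoidalCategory MonObj AlgebraicGeometry Topology

namespace Groth.Agent.Lib.ActSep

open Groth.Agent.Lib.GrpSch Groth.Agent.Lib.ActSep.MaxPt

variable {S : Scheme.{u}} (G : Over S) [GrpObj G] [LocallyOfFiniteType G.hom]
  {K : Type u} [Field K] [IsAlgClosed K] (t : Spec (CommRingCat.of K) ⟶ S)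

omit [IsAlgClosed K] in
theorem isCompact_closure_genOne : IsCompact (closure {genOne G t}) := by
  let H := (Over.pullback t).obj G
  let : GrpObj H := ((Over.pullback t).mapGrp.obj ⟨G⟩).grp
  rw [closure_genOne_eq, pt_one_eq_unitPt]
  exact Groth.Agent.H63.GrpConnected.isCompact_comp0 H

theorem isOpen_isCompact_closure_of_isMaxPt {ξ : (G ⊗ Over.mk t).left} (hξ : IsMaxPt ξ) :
    IsOpen (closure {ξ}) ∧ IsCompact (closure {ξ}) := by
  obtain ⟨g, hg⟩ := exists_pt_specializes t ξ
  have h1 := (genOne_specializes G t).map (mulR g).left.continuous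
  rw [mulR_pt, _root_.one_mul] at h1
  let e : (G ⊗ Over.mk t).left ≃ₜ (G ⊗ Over.mk t).left :=
    ((Over.forget S).mapIso (mulRIso (T := Over.mk t) g)).hom.homeomorph
  have e1 : e (genOne G t) = ξ := maxPt_unique G t (isMaxPt_mulR t g (isMaxPt_genOne G t)) hξ h1 hg
  have e2 : e '' closure {genOne G t} = closure {ξ} := by
    rw [← e1, e.image_closure]
    congr 1
    exact Set.image_singleton
  rw [← e2]
  exact ⟨e.isOpenMap _ (isOpen_closure_genOne G t), (isCompact_closure_genOne G t).image e.continuous⟩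

include t in
theorem isCompact_connectedComponent_of_subsingleton [Subsingleton S] (g : G.left) :
    IsCompact (connectedComponent g) := by
  have hop : UniversallyOpen t := by
    obtain ⟨⟨s, φ⟩, rfl⟩ := (Scheme.SpecToEquivOfField K S).symm.surjective t
    have : Surjective (S.fromSpecResidueField s) :=
      ⟨fun x => ⟨IsLocalRing.closedPoint (S.residueField s),
        (Scheme.fromSpecResidueField_apply s _).trans (Subsingleton.elim s x)⟩⟩
    have h : UniversallyOpen (S.fromSpecResidueField s) := by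
      have : IsClosedImmersion (S.fromSpecResidueField s) :=
        IsClosedImmersion.iff_isPreimmersion.2 ⟨inferInstance, by
          rw [(S.fromSpecResidueField s).surjective.range_eq]; exact isClosed_univ⟩
      exact Groth.Agent.Lib.UnivHomeo.Basic.universallyOpen
        (Groth.Agent.Lib.UnivHomeo.Basic.of_isClosedImmersion_surjective _)
    show UniversallyOpen (Spec.map φ ≫ S.fromSpecResidueField s)
    infer_instance
  have hts : Surjective t := ⟨fun x => ⟨IsLocalRing.closedPoint K, Subsingleton.elim _ x⟩⟩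
  have sq := isPullback_left G (Over.mk t)
  let p : (G ⊗ Over.mk t).left ⟶ G.left := (fst G (Over.mk t)).left
  have : UniversallyOpen p := MorphismProperty.of_isPullback sq.flip hop
  have : Surjective p := MorphismProperty.of_isPullback sq.flip hts
  have hps := p.surjective
  obtain ⟨z, hz⟩ := hps g
  obtain ⟨ξ₀, hξ₀, hzξ⟩ := exists_isMaxPt (G ⊗ Over.mk t).left z
  let 𝒟 : Set (G ⊗ Over.mk t).left := {ξ | IsMaxPt ξ ∧ p ξ = p ξ₀}
  let W : Set G.left := p '' ⋃ ξ ∈ 𝒟, closure {ξ}
  have hWo : IsOpen W := p.isOpenMap _ (isOpen_biUnion fun ξ hξ => (isOpen_isCompact_closure_of_isMaxPt G t hξ.1).1)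
  -- the fibre over a maximal point meets finitely many components
  have hfin : 𝒟.Finite := by
    obtain ⟨V, hV, hξV, -⟩ := exists_isAffineOpen_mem_and_subset (U := ⊤) (x := p ξ₀) trivial
    have : QuasiCompact p := by
      have : IsAffineHom t := by
        obtain ⟨⟨s, φ⟩, rfl⟩ := (Scheme.SpecToEquivOfField K S).symm.surjective t
        have : IsAffineHom (S.fromSpecResidueField s) := by
          refine isAffineHom_of_isInducing _ (S.fromSpecResidueField s).isEmbedding.isInducing ?_
          rw [Scheme.range_fromSpecResidueField, Set.eq_univ_of_forall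
            (fun x : S => Set.mem_singleton_iff.2 (Subsingleton.elim x s))]
          exact isClosed_univ
        show IsAffineHom (Spec.map φ ≫ S.fromSpecResidueField s)
        infer_instance
      have : QuasiCompact t := inferInstance
      exact MorphismProperty.of_isPullback sq.flip this
    obtain ⟨F, hF⟩ := (p.isCompact_preimage (U := V) hV.isCompact).elim_finite_subcover
      (fun ξ : {ξ : (G ⊗ Over.mk t).left // IsMaxPt ξ} => closure {ξ.1})
      (fun ξ => (isOpen_isCompact_closure_of_isMaxPt G t ξ.2).1)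
      (fun w _ => by
        obtain ⟨θ, hθ, hw⟩ := exists_isMaxPt (G ⊗ Over.mk t).left w
        exact Set.mem_iUnion.2 ⟨⟨θ, hθ⟩, hw.mem_closure⟩)
    refine (F.finite_toSet.image Subtype.val).subset fun ξ hξ => ?_
    obtain ⟨θ, hθ, hmem⟩ := Set.mem_iUnion₂.1 (hF (show p ξ ∈ V from hξ.2 ▸ hξV))
    exact ⟨θ, hθ, hξ.1 _ (specializes_iff_mem_closure.2 hmem)⟩
  have hWc : IsCompact W := (hfin.isCompact_biUnion fun ξ hξ =>
    (isOpen_isCompact_closure_of_isMaxPt G t hξ.1).2).image p.continuous
  have hWcl : IsClosed W := by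
    rw [← isOpen_compl_iff, isOpen_iff_forall_mem_open]
    intro y hy
    obtain ⟨w, rfl⟩ := hps y
    obtain ⟨θ, hθ, hw⟩ := exists_isMaxPt (G ⊗ Over.mk t).left w
    refine ⟨p '' closure {θ}, ?_, p.isOpenMap _ (isOpen_isCompact_closure_of_isMaxPt G t hθ).1,
      ⟨w, hw.mem_closure, rfl⟩⟩
    rintro _ ⟨a, ha, rfl⟩ ⟨b, hb, hab⟩
    obtain ⟨ξ, hξ, hb⟩ := Set.mem_iUnion₂.1 hb
    -- both generic points specialise to a common point, so they have the same image
    have h1 : p θ ⤳ p a := (specializes_iff_mem_closure.2 ha).map p.continuous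
    have h2 : p ξ ⤳ p a := hab ▸ (specializes_iff_mem_closure.2 hb).map p.continuous
    obtain ⟨c, hc, hce⟩ : p θ ∈ p '' closure {ξ} :=
      h1.mem_open (p.isOpenMap _ (isOpen_isCompact_closure_of_isMaxPt G t hξ.1).1)
        (hab ▸ ⟨b, hb, rfl⟩)
    obtain ⟨d, hd, hde⟩ : p ξ ∈ p '' closure {θ} :=
      h2.mem_open (p.isOpenMap _ (isOpen_isCompact_closure_of_isMaxPt G t hθ).1) ⟨a, ha, rfl⟩
    have h3 : p ξ ⤳ p θ := hce ▸ (specializes_iff_mem_closure.2 hc).map p.continuous
    have h4 : p θ ⤳ p ξ := hde ▸ (specializes_iff_mem_closure.2 hd).map p.continuous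
    exact hy ⟨w, Set.mem_biUnion (show θ ∈ 𝒟 from ⟨hθ, (h4.antisymm h3).eq.trans hξ.2⟩) hw.mem_closure, rfl⟩
  refine hWc.of_isClosed_subset isClosed_connectedComponent
    (IsClopen.connectedComponent_subset ⟨hWcl, hWo⟩ ⟨z, Set.mem_biUnion (show ξ₀ ∈ 𝒟 from ⟨hξ₀, rfl⟩) hzξ.mem_closure, hz⟩)

end Groth.Agent.Lib.ActSep
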