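import Groth.Agent.Lib.ActSep.HomogInst
import Groth.Agent.Lib.Flat55.FibrewiseStalk
import Groth.Agent.Lib.Flat55.FibreTransfer
import Groth.Agent.Lib.Flat55.FlatDescend
import Groth.Agent.H19.FlatLocus.Scheme

/-!
Flatness, smoothness and etaleness of a homomorphism of group schemes are homogeneous along the fibres.
-/

universe u

open CategoryTheory Limits MonoidalCategory CartesianMonoidalCategory MonObj AlgebraicGeometry Topology

namespace Groth.Agent.Lib.ActSep

open Groth.Agent.Lib.GrpSch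

theorem mem_nhdLocus_isoPullback (P : MorphismProperty Scheme.{u}) [P.RespectsIso] {X X' Y Y' : Scheme.{u}}
    {f : X ⟶ Y} {f' : X' ⟶ Y'} {eX : X' ⟶ X} {b : Y' ⟶ Y} (sq : IsPullback eX f' f b) (x' : X')
    (h : x' ∈ nhdLocus P f') : sq.isoPullback.hom x' ∈ nhdLocus P (pullback.snd f b) := by
  obtain ⟨U, hU, hUP⟩ := h
  refine ⟨sq.isoPullback.inv ⁻¹ᵁ U, ?_, ?_⟩
  · show sq.isoPullback.inv (sq.isoPullback.hom x') ∈ U
    rwa [← Scheme.Hom.comp_apply, Iso.hom_inv_id]
  · have e : (sq.isoPullback.inv ⁻¹ᵁ U).ι ≫ pullback.snd f b = (sq.isoPullback.inv ∣_ U) ≫ U.ι ≫ f' := by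
      rw [morphismRestrict_ι_assoc, sq.isoPullback_inv_snd]
    rw [e]
    exact (MorphismProperty.cancel_left_of_respectsIso P _ _).2 hUP

theorem mem_nhdLocus_bc {P : MorphismProperty Scheme.{u}} [P.IsStableUnderBaseChange]
    {X X' Y Y' : Scheme.{u}} {f : X ⟶ Y} {f' : X' ⟶ Y'}
    {eX : X' ⟶ X} {b : Y' ⟶ Y} (sq : IsPullback eX f' f b) (x' : X') :
    eX x' ∈ nhdLocus P f → x' ∈ nhdLocus P f' := fun ⟨U, hU, hUP⟩ =>
  ⟨eX ⁻¹ᵁ U, hU, MorphismProperty.of_isPullback ((isPullback_morphismRestrict eX U).paste_vert sq) hUP⟩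

theorem nhdLocus_flat_eq {X Y : Scheme.{u}} (f : X ⟶ Y) [LocallyOfFinitePresentation f] :
    nhdLocus @Flat f = {x | (f.stalkMap x).hom.Flat} := by
  ext x
  constructor
  · rintro ⟨U, hU, hUP⟩
    obtain ⟨y, rfl⟩ : x ∈ Set.range U.ι := by rw [Scheme.Opens.range_ι]; exact hU
    have h : ((U.ι ≫ f).stalkMap y).hom.Flat := Flat.stalkMap _ _
    rw [Scheme.Hom.stalkMap_comp] at h
    exact (RingHom.Flat.respectsIso.cancel_right_isIso (f.stalkMap (U.ι y)) (U.ι.stalkMap y)).1 h
  · intro hx
    let O : X.Opens := ⟨_, Groth.Agent.H19.FlatLocus.Scheme.isOpen_flat_stalkMap f⟩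
    refine ⟨O, hx, Flat.of_stalkMap _ fun y => ?_⟩
    rw [Scheme.Hom.stalkMap_comp]
    exact (RingHom.Flat.respectsIso.cancel_right_isIso (f.stalkMap (O.ι y)) (O.ι.stalkMap y)).2 y.2

theorem nhdLocus_etale_eq {X Y : Scheme.{u}} (f : X ⟶ Y) [LocallyOfFinitePresentation f] :
    nhdLocus @Etale f = nhdLocus @Flat f ∩ nhdLocus @FormallyUnramified f := by
  ext x
  constructor
  · rintro ⟨U, hU, hUP⟩
    exact ⟨⟨U, hU, (Etale.iff_flat_and_formallyUnramified.1 hUP).1⟩,
      ⟨U, hU, (Etale.iff_flat_and_formallyUnramified.1 hUP).2.1⟩⟩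
  · rintro ⟨⟨U, hU, hUP⟩, ⟨V, hV, hVP⟩⟩
    refine ⟨U ⊓ V, ⟨hU, hV⟩, Etale.iff_flat_and_formallyUnramified.2 ⟨?_, ?_, inferInstance⟩⟩
    · rw [← X.homOfLE_ι (inf_le_left : U ⊓ V ≤ U), Category.assoc]
      exact MorphismProperty.comp_mem _ _ _ inferInstance hUP
    · rw [← X.homOfLE_ι (inf_le_right : U ⊓ V ≤ V), Category.assoc]
      exact MorphismProperty.comp_mem _ _ _ inferInstance hVP

/-- A property whose pointwise version descends along flat base change. -/
structure FlatBC (P : MorphismProperty Scheme.{u}) : Prop where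
  descend : ∀ {X Y Y' : Scheme.{u}} (f : X ⟶ Y) [LocallyOfFinitePresentation f] (g : Y' ⟶ Y) [Flat g]
    (w : ↑(pullback f g)), w ∈ nhdLocus P (pullback.snd f g) → pullback.fst f g w ∈ nhdLocus P f

theorem flatBC_flat : FlatBC.{u} @Flat where
  descend f _ g _ w hw := by
    rw [nhdLocus_flat_eq] at hw ⊢
    have h : ((pullback.fst f g ≫ f).stalkMap w).hom.Flat := by
      rw [Scheme.Hom.stalkMap_congr_hom _ _ pullback.condition w, CommRingCat.hom_comp,
        RingHom.Flat.respectsIso.cancel_left_isIso, Scheme.Hom.stalkMap_comp]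
      exact RingHom.Flat.comp (Flat.stalkMap g _) hw
    exact Groth.Agent.Lib.Flat55.FlatDescend.flat_stalkMap_of_comp _ _ w (Flat.stalkMap _ w) h

theorem flatBC_smooth : FlatBC.{u} @Smooth where
  descend f _ g _ w hw := Groth.Agent.Lib.Unram.BaseChangeNhd.exists_nhd_descend @Smooth (fun i _ => inferInstance)
      Groth.Agent.Lib.Unram.BaseChangeNhd.smooth_at_descend_ring f g w (Flat.stalkMap g _) hw

theorem flatBC_etale : FlatBC.{u} @Etale where
  descend f _ g _ w hw := by
    rw [nhdLocus_etale_eq] at hw ⊢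
    exact ⟨flatBC_flat.descend f g w hw.1, pointwiseBC_formallyUnramified.descend f g w hw.2⟩

variable {P : MorphismProperty Scheme.{u}} [P.IsStableUnderBaseChange] [IsZariskiLocalAtSource P]

theorem FlatBC.mem_iff (hP : FlatBC P) {X X' Y Y' : Scheme.{u}} {f : X ⟶ Y} {f' : X' ⟶ Y'}
    {eX : X' ⟶ X} {b : Y' ⟶ Y} (sq : IsPullback eX f' f b) [LocallyOfFinitePresentation f] [Flat b] (x' : X') :
    x' ∈ nhdLocus P f' ↔ eX x' ∈ nhdLocus P f := by
  refine ⟨fun hx => ?_, mem_nhdLocus_bc sq x'⟩
  have h := hP.descend f b _ (mem_nhdLocus_isoPullback P sq x' hx)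
  rwa [← Scheme.Hom.comp_apply, sq.isoPullback_hom_fst] at h

variable {S : Scheme.{u}} {G H : Over S} (u : G ⟶ H)

/-- The hypothesis that a property can be checked on the fibres over the base. -/
def FibreCrit (P : MorphismProperty Scheme.{u}) : Prop :=
  ∀ (s : S) (a : (G ⊗ Over.mk (S.fromSpecResidueField s)).left),
    a ∈ nhdLocus P (u ▷ Over.mk (S.fromSpecResidueField s)).left ↔
      (fst G (Over.mk (S.fromSpecResidueField s))).left a ∈ nhdLocus P u.left

variable [GrpObj G] [GrpObj H] [IsMonHom u] [LocallyOfFinitePresentation u.left]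

theorem mem_nhdLocus_mulR' (hP : FlatBC P) {T : Over S} (g : T ⟶ G) (z : (G ⊗ T).left) :
    (mulR g).left z ∈ nhdLocus P (u ▷ T).left ↔ z ∈ nhdLocus P (u ▷ T).left := by
  have : IsIso (mulR g).left := inferInstanceAs (IsIso ((Over.forget S).mapIso (mulRIso g)).hom)
  have : IsIso (mulR (g ≫ u)).left := inferInstanceAs (IsIso ((Over.forget S).mapIso (mulRIso (g ≫ u))).hom)
  have : LocallyOfFinitePresentation (u ▷ T).left :=
    MorphismProperty.of_isPullback (P := @LocallyOfFinitePresentation) (isPullback_whiskerRight u T).flip ‹_›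
  exact (hP.mem_iff (IsPullback.of_horiz_isIso
    (fst := (mulR g).left) (snd := (u ▷ T).left) (f := (u ▷ T).left) (g := (mulR (g ≫ u)).left)
    ⟨by rw [← Over.comp_left, ← Over.comp_left, mulR_whiskerRight]⟩) z).symm

omit [GrpObj H] [IsMonHom u] [LocallyOfFinitePresentation u.left] in
theorem mem_of_mem_of_mulR_invariant {K : Type u} [Field K] [IsAlgClosed K]
    (t : Spec (CommRingCat.of K) ⟶ S) (hlft : LocallyOfFiniteType (snd G (Over.mk t)).left)
    {L : Set (G ⊗ Over.mk t).left} (hL : IsOpen L)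
    (hinv : ∀ (g : Over.mk t ⟶ G) (z : (G ⊗ Over.mk t).left), (mulR g).left z ∈ L ↔ z ∈ L)
    {z z' : (G ⊗ Over.mk t).left} (hz : z ∈ L) : z' ∈ L := by
  let T := Over.mk t
  let π : (G ⊗ T).left ⟶ Spec (CommRingCat.of K) := (snd G T).left
  have : LocallyOfFiniteType π := hlft
  have : JacobsonSpace (G ⊗ T).left := LocallyOfFiniteType.jacobsonSpace π
  have hpt : ∀ c ∈ closedPoints (G ⊗ T).left, ∃ g : T ⟶ G, pt t g = c := by
    intro c hc
    let q : T ⟶ G ⊗ T := Over.homMk (pointOfClosedPoint π c hc) (by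
      rw [← Over.w (snd G T), ← Category.assoc]
      exact (congrArg (· ≫ t) (pointOfClosedPoint_comp π c hc)).trans (Category.id_comp t))
    refine ⟨q ≫ fst G T, ?_⟩
    have : q = lift (q ≫ fst G T) (𝟙 _) := by
      refine CartesianMonoidalCategory.hom_ext _ _ (by simp) (Over.OverMorphism.ext ?_)
      rw [lift_snd, Over.comp_left]
      exact pointOfClosedPoint_comp π c hc
    rw [pt, ← this]
    exact pointOfClosedPoint_apply π c hc _
  by_contra hz'
  obtain ⟨a, ha, hac⟩ := nonempty_inter_closedPoints ⟨z, hz⟩ hL.isLocallyClosed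
  obtain ⟨b, hb, hbc⟩ := nonempty_inter_closedPoints (Z := Lᶜ) ⟨z', hz'⟩
    hL.isClosed_compl.isLocallyClosed
  obtain ⟨g, rfl⟩ := hpt a hac
  obtain ⟨h, rfl⟩ := hpt b hbc
  refine hb ?_
  have := (hinv (g⁻¹ * h) (pt t g)).2 ha
  rwa [mulR_pt, mul_inv_cancel_left] at this

theorem mem_nhdLocus_iff_of_hom_eq' (hP : FlatBC P) (hF : FibreCrit u P) [LocallyOfFiniteType G.hom] {x y : G.left}
    (hxy : G.hom x = G.hom y) : x ∈ nhdLocus P u.left ↔ y ∈ nhdLocus P u.left := by
  suffices ∀ x y : G.left, G.hom x = G.hom y → x ∈ nhdLocus P u.left → y ∈ nhdLocus P u.left from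
    ⟨this x y hxy, this y x hxy.symm⟩
  intro x y hxy hx
  let s := G.hom x
  let K := AlgebraicClosure (S.residueField s)
  let r := S.fromSpecResidueField s
  let R : Over S := Over.mk r
  let φ : S.residueField s ⟶ CommRingCat.of K :=
    CommRingCat.ofHom (algebraMap (S.residueField s) (AlgebraicClosure (S.residueField s)))
  let t : Spec (CommRingCat.of K) ⟶ S := Spec.map φ ≫ S.fromSpecResidueField s
  let T : Over S := Over.mk t
  let π : T ⟶ R := Over.homMk (Spec.map φ) rfl
  have hflat : Flat π.left := by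
    show Flat (Spec.map φ)
    rw [HasRingHomProperty.Spec_iff (P := @Flat)]
    exact RingHom.flat_algebraMap_iff.2 inferInstance
  have : Flat (H ◁ π).left := MorphismProperty.of_isPullback (P := @Flat) (isPullback_whiskerLeft H π).flip hflat
  have hlfpR : LocallyOfFinitePresentation (u ▷ R).left :=
    MorphismProperty.of_isPullback (P := @LocallyOfFinitePresentation) (isPullback_whiskerRight u R).flip ‹_›
  have sq : IsPullback (G ◁ π).left (u ▷ T).left (u ▷ R).left (H ◁ π).left := by
    refine IsPullback.of_right ?_ ?_ (isPullback_whiskerRight u R).flip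
    · rw [← Over.comp_left, whiskerLeft_fst, ← Over.comp_left, whiskerLeft_fst]
      exact (isPullback_whiskerRight u T).flip
    · rw [← Over.comp_left, ← Over.comp_left, whisker_exchange]
  have hlft : LocallyOfFiniteType (snd G T).left := snd_left_of (P := @LocallyOfFiniteType) T ‹_›
  have key : ∀ a : (G ⊗ T).left, a ∈ nhdLocus P (u ▷ T).left ↔ (fst G T).left a ∈ nhdLocus P u.left := by
    intro a
    rw [hP.mem_iff sq a, hF s, ← Scheme.Hom.comp_apply, ← Over.comp_left, whiskerLeft_fst]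
  have hr : ∀ w : G.left, G.hom w = s → w ∈ Set.range (fst G T).left := by
    intro w hw
    show w ∈ Set.range (pullback.fst G.hom t)
    rw [Scheme.Pullback.range_fst]
    exact ⟨IsLocalRing.closedPoint K, by
      rw [hw]; exact (Scheme.Hom.comp_apply _ _ _).trans (Scheme.fromSpecResidueField_apply _ _)⟩
  obtain ⟨a, ha⟩ := hr x rfl
  obtain ⟨b, hb⟩ := hr y hxy.symm
  rw [← hb]
  rw [← ha] at hx
  exact (key b).1 (mem_of_mem_of_mulR_invariant t hlft (isOpen_nhdLocus P _)
    (fun g z => mem_nhdLocus_mulR' u hP g z) ((key a).2 hx))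

omit [GrpObj G] [GrpObj H] [IsMonHom u] [LocallyOfFinitePresentation u.left] in
theorem map_left_eq_whiskerRight {T : Scheme.{u}} (r : T ⟶ S) :
    ((Over.pullback r).map u).left = (u ▷ Over.mk r).left := by
  apply pullback.hom_ext
  · refine (pullback.lift_fst _ _ _).trans ?_
    show _ = (u ▷ Over.mk r).left ≫ (fst H (Over.mk r)).left
    rw [← Over.comp_left, whiskerRight_fst]
    rfl
  · refine (pullback.lift_snd _ _ _).trans ?_
    show _ = (u ▷ Over.mk r).left ≫ (snd H (Over.mk r)).left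
    rw [← Over.comp_left, whiskerRight_snd]
    rfl

theorem map_iff_mem' (hP : FlatBC P) (hF : FibreCrit u P) [LocallyOfFiniteType G.hom] (s : S) :
    P ((Over.pullback (S.fromSpecResidueField s)).map u).left ↔ η[G].left s ∈ nhdLocus P u.left := by
  rw [map_left_eq_whiskerRight, iff_nhdLocus_eq_univ P]
  have hs : G.hom (η[G].left s) = s := by rw [← Scheme.Hom.comp_apply, η_left_comp_hom]; rfl
  have hrange : Set.range (fst G (Over.mk (S.fromSpecResidueField s))).left = G.hom ⁻¹' {s} := by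
    show Set.range (pullback.fst G.hom (S.fromSpecResidueField s)) = _
    rw [Scheme.Pullback.range_fst, Scheme.range_fromSpecResidueField]
  constructor
  · intro h
    obtain ⟨a, ha⟩ : η[G].left s ∈ Set.range (fst G (Over.mk (S.fromSpecResidueField s))).left := by
      rw [hrange]; exact hs
    rw [← ha]
    exact (hF s a).1 (h ▸ Set.mem_univ a)
  · refine fun h => Set.eq_univ_of_forall fun a => (hF s a).2 ?_
    have ha : G.hom ((fst G (Over.mk (S.fromSpecResidueField s))).left a) = s := by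
      have : (fst G (Over.mk (S.fromSpecResidueField s))).left a ∈ G.hom ⁻¹' {s} := hrange ▸ ⟨a, rfl⟩
      exact this
    exact (mem_nhdLocus_iff_of_hom_eq' u hP hF (ha.trans hs.symm)).2 h

theorem nhdLocus_eq_preimage' (hP : FlatBC P) (hF : FibreCrit u P) [LocallyOfFiniteType G.hom] :
    nhdLocus P u.left = G.hom ⁻¹' {s : S | P ((Over.pullback (S.fromSpecResidueField s)).map u).left} := by
  ext x
  rw [Set.mem_preimage, Set.mem_setOf_eq, map_iff_mem' u hP hF]
  exact mem_nhdLocus_iff_of_hom_eq' u hP hF (by rw [← Scheme.Hom.comp_apply η[G].left, η_left_comp_hom]; rfl)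

theorem isOpen_setOf_map' (hP : FlatBC P) (hF : FibreCrit u P) [LocallyOfFiniteType G.hom] :
    IsOpen {s : S | P ((Over.pullback (S.fromSpecResidueField s)).map u).left} := by
  rw [show {s : S | P ((Over.pullback (S.fromSpecResidueField s)).map u).left} = η[G].left ⁻¹' nhdLocus P u.left from
    Set.ext (map_iff_mem' u hP hF)]
  exact (isOpen_nhdLocus P _).preimage η[G].left.continuous

omit P [P.IsStableUnderBaseChange] [IsZariskiLocalAtSource P] [GrpObj G] [GrpObj H] [IsMonHom u] in
theorem fibreCrit_flat [Flat G.hom] [LocallyOfFinitePresentation G.hom] [LocallyOfFiniteType H.hom] :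
    FibreCrit u @Flat := by
  intro s a
  have hlfpR : LocallyOfFinitePresentation (u ▷ Over.mk (S.fromSpecResidueField s)).left :=
    MorphismProperty.of_isPullback (P := @LocallyOfFinitePresentation)
      (isPullback_whiskerRight u (Over.mk (S.fromSpecResidueField s))).flip ‹_›
  refine ⟨fun h => ?_, mem_nhdLocus_bc (isPullback_whiskerRight u _).flip a⟩
  rw [nhdLocus_flat_eq] at h ⊢
  have key : ∀ {X Y : Scheme.{u}} (f : X ⟶ Y) (g : Y ⟶ S) (h : X ⟶ S) (w : f ≫ g = h)
      (m : h.fiber s ⟶ g.fiber s), m ≫ g.fiberι s = h.fiberι s ≫ f →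
      m ≫ g.fiberToSpecResidueField s = h.fiberToSpecResidueField s → ∀ (a : h.fiber s),
      Flat h → LocallyOfFinitePresentation h → LocallyOfFiniteType g → (m.stalkMap a).hom.Flat →
      (f.stalkMap (h.fiberι s a)).hom.Flat := by
    intro X Y f g h w m hm1 hm2 a _ _ _ hm
    subst w
    have e : m = MoreMor.fiberMap f g s :=
      pullback.hom_ext (hm1.trans (pullback.lift_fst _ _ _).symm) (hm2.trans (pullback.lift_snd _ _ _).symm)
    subst e
    exact (Groth.Agent.Lib.Flat55.FibrewiseStalk.flat_stalkMap_of_fiberMap f g _ s a rfl (Flat.stalkMap _ _) hm).1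
  exact key u.left H.hom G.hom (Over.w u) _
    (show (u ▷ Over.mk (S.fromSpecResidueField s)).left ≫ (fst H (Over.mk (S.fromSpecResidueField s))).left =
      (fst G (Over.mk (S.fromSpecResidueField s))).left ≫ u.left by
        rw [← Over.comp_left, ← Over.comp_left, whiskerRight_fst])
    (show (u ▷ Over.mk (S.fromSpecResidueField s)).left ≫ (snd H (Over.mk (S.fromSpecResidueField s))).left =
      (snd G (Over.mk (S.fromSpecResidueField s))).left by
        rw [← Over.comp_left, whiskerRight_snd])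
    a ‹_› ‹_› ‹_› h

omit P [P.IsStableUnderBaseChange] [IsZariskiLocalAtSource P] [GrpObj G] [GrpObj H] [IsMonHom u] in
theorem fibreCrit_smooth [Flat G.hom] [LocallyOfFinitePresentation G.hom] [LocallyOfFiniteType H.hom] :
    FibreCrit u @Smooth := by
  intro s a
  let R : Over S := Over.mk (S.fromSpecResidueField s)
  have sq := (isPullback_whiskerRight u R).flip
  refine ⟨fun h => ?_, mem_nhdLocus_bc sq a⟩
  obtain ⟨U, hU, hUP⟩ := h
  have hflat := (fibreCrit_flat u s a).1 ⟨U, hU, (inferInstance : Flat (U.ι ≫ (u ▷ R).left))⟩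
  rw [nhdLocus_flat_eq] at hflat
  have hw := mem_nhdLocus_isoPullback @Smooth sq a ⟨U, hU, hUP⟩
  have e : pullback.fst u.left _ (sq.isoPullback.hom a) = (fst G R).left a := by
    rw [← Scheme.Hom.comp_apply, sq.isoPullback_hom_fst]
  rw [← e] at hflat ⊢
  exact Groth.Agent.H75.BaseChange.smooth_nhd_descend_of_flat_stalk u.left _ _ hflat hw

omit P [P.IsStableUnderBaseChange] [IsZariskiLocalAtSource P] [GrpObj G] [GrpObj H] [IsMonHom u] in
theorem fibreCrit_etale [Flat G.hom] [LocallyOfFinitePresentation G.hom] [LocallyOfFiniteType H.hom] :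
    FibreCrit u @Etale := by
  intro s a
  have hlfpR : LocallyOfFinitePresentation (u ▷ Over.mk (S.fromSpecResidueField s)).left :=
    MorphismProperty.of_isPullback (P := @LocallyOfFinitePresentation)
      (isPullback_whiskerRight u (Over.mk (S.fromSpecResidueField s))).flip ‹_›
  rw [nhdLocus_etale_eq, nhdLocus_etale_eq, Set.mem_inter_iff, Set.mem_inter_iff, fibreCrit_flat u s a,
    pointwiseBC_formallyUnramified.mem_iff (isPullback_whiskerRight u (Over.mk (S.fromSpecResidueField s))).flip a]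

end Groth.Agent.Lib.ActSep
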