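import Mathlib

/-!
A field containing copies of a given family of field extensions.
-/

set_option autoImplicit false

universe u

namespace Groth.Agent.Lib.ActSep.BigField

theorem nonempty_algHom {Ω F : Type u} [Field Ω] [Field F] [Algebra Ω F] {σ : Type u} (ι : F ↪ σ)
    {K : Type u} [Field K] [IsAlgClosed K] [Algebra Ω K] (j : MvPolynomial σ Ω →ₐ[Ω] K)
    (hj : Function.Injective j) : Nonempty (F →ₐ[Ω] K) := by
  obtain ⟨s, hs⟩ := exists_isTranscendenceBasis Ω F
  let R := Algebra.adjoin Ω (Set.range (Subtype.val : s → F))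
  have : Algebra.IsAlgebraic R F := hs.isAlgebraic
  let φ : R →ₐ[Ω] K :=
    (j.comp (MvPolynomial.rename fun x : s => ι x)).comp hs.1.aevalEquiv.symm.toAlgHom
  have hφ : Function.Injective φ :=
    (hj.comp (MvPolynomial.rename_injective _ (ι.injective.comp Subtype.val_injective))).comp
      hs.1.aevalEquiv.symm.injective
  let : Algebra R K := φ.toRingHom.toAlgebra
  have : IsScalarTower Ω R K := IsScalarTower.of_algebraMap_eq fun c => (φ.commutes c).symm
  have : FaithfulSMul R K := (faithfulSMul_iff_algebraMap_injective R K).2 hφ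
  exact ⟨(IsAlgClosed.lift : F →ₐ[R] K).restrictScalars Ω⟩

/-- An algebraically closed extension into which all members of a family of extensions embed. -/
theorem exists_field (Ω : Type u) [Field Ω] (I : Type u) (F : I → Type u) [∀ i, Field (F i)]
    [∀ i, Algebra Ω (F i)] :
    ∃ (K : Type u) (_ : Field K) (_ : IsAlgClosed K) (_ : Algebra Ω K), ∀ i, Nonempty (F i →ₐ[Ω] K) := by
  let L := FractionRing (MvPolynomial (Σ i, F i) Ω)
  refine ⟨AlgebraicClosure L, inferInstance, inferInstance, inferInstance, fun i => ?_⟩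
  refine nonempty_algHom ⟨Sigma.mk i, sigma_mk_injective⟩
    ((IsScalarTower.toAlgHom Ω L (AlgebraicClosure L)).comp (IsScalarTower.toAlgHom Ω (MvPolynomial (Σ i, F i) Ω) L)) ?_
  exact (algebraMap L (AlgebraicClosure L)).injective.comp (IsFractionRing.injective _ L)

end Groth.Agent.Lib.ActSep.BigField
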