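import Mathlib.AlgebraicGeometry.Morphisms.UniversallyOpen
import Mathlib.CategoryTheory.Monoidal.Cartesian.Grp
import Mathlib.CategoryTheory.Monoidal.Cartesian.Over
import Mathlib.AlgebraicGeometry.Morphisms.Flat

/-!
Products of points of a group scheme, after base change to a point.
-/

set_option autoImplicit false

universe u

open CategoryTheory Limits MonoidalCategory CartesianMonoidalCategory MonObj AlgebraicGeometry

namespace Groth.Agent.Lib.ActSep

/-- For a `T`-point `g` there is a self-homeomorphism `φ` of `G_T` such that `x` times the projection of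
`φ x` lies over `g`. -/
theorem exists_flip {S : Scheme.{u}} (G T : Over S) [GrpObj G] (g : T ⟶ G) :
    ∃ φ : ↥(G ⊗ T).left ≃ₜ ↥(G ⊗ T).left, ∀ x : ↥(G ⊗ T).left, ∃ z : ↥(G ⊗ G).left,
      (fst G G).left z = (fst G T).left x ∧ (snd G G).left z = (fst G T).left (φ x) ∧
        μ[G].left z = g.left ((snd G T).left x) := by
  let τ : G ⊗ T ⟶ G := (fst G T)⁻¹ * (snd G T ≫ g)
  let τ' : G ⊗ T ⟶ G := (snd G T ≫ g) * (fst G T)⁻¹
  let a : G ⊗ T ≅ G ⊗ T :=
    { hom := lift τ (snd G T)
      inv := lift τ' (snd G T)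
      hom_inv_id := by
        refine CartesianMonoidalCategory.hom_ext _ _ ?_ (by simp)
        simp [τ, τ', MonObj.comp_mul, GrpObj.comp_inv]
      inv_hom_id := by
        refine CartesianMonoidalCategory.hom_ext _ _ ?_ (by simp)
        simp [τ, τ', MonObj.comp_mul, GrpObj.comp_inv] }
  refine ⟨((Over.forget S).mapIso a).hom.homeomorph, fun x => ?_⟩
  refine ⟨(lift (fst G T) τ).left x, ?_, ?_, ?_⟩
  · rw [← Scheme.Hom.comp_apply, ← Over.comp_left, lift_fst]
  · show _ = (fst G T).left (a.hom.left x)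
    rw [← Scheme.Hom.comp_apply, ← Over.comp_left, lift_snd, ← Scheme.Hom.comp_apply, ← Over.comp_left, lift_fst]
  · rw [← Scheme.Hom.comp_apply, ← Over.comp_left, ← Scheme.Hom.comp_apply, ← Over.comp_left]
    have h : lift (fst G T) τ ≫ μ[G] = snd G T ≫ g := by
      rw [show lift (fst G T) τ ≫ μ[G] = fst G T * τ from rfl]
      exact mul_inv_cancel_left _ _
    rw [h]

end Groth.Agent.Lib.ActSep
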