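import Groth.Agent.Lib.ActSep.Neutral

/-!
A group scheme locally of finite type over a field is equidimensional.
-/

universe u

open CategoryTheory Limits MonoidalCategory CartesianMonoidalCategory MonObj AlgebraicGeometry Topology

namespace Groth.Agent.Lib.ActSep

open Groth.Agent.Lib.GrpSch Groth.Agent.Lib.ActSep.MaxPt Groth.Agent.Lib.FibreDim.Basic

theorem localDim_eq_of_isAlgClosed {S : Scheme.{u}} (G : Over S) [GrpObj G] [LocallyOfFiniteType G.hom]
    {K : Type u} [Field K] [IsAlgClosed K] (t : Spec (CommRingCat.of K) ⟶ S) (z : (G ⊗ Over.mk t).left) :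
    FlatMor.localDim ↥(G ⊗ Over.mk t).left z = topologicalKrullDim ↥(G ⊗ Over.mk t).left := by
  refine le_antisymm (localDim_le_topologicalKrullDim _) (le_iInf fun U => ?_)
  obtain ⟨ξ, hξ, hz⟩ := exists_isMaxPt (G ⊗ Over.mk t).left z
  obtain ⟨g, hg⟩ := exists_pt_specializes t ξ
  have h1 := (genOne_specializes G t).map (mulR g).left.continuous
  rw [mulR_pt, _root_.one_mul] at h1
  let e : (G ⊗ Over.mk t).left ≃ₜ (G ⊗ Over.mk t).left := ((Over.forget S).mapIso (mulRIso (T := Over.mk t) g)).hom.homeomorph
  have e1 : e (genOne G t) = ξ := maxPt_unique G t (isMaxPt_mulR t g (isMaxPt_genOne G t)) hξ h1 hg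
  have e2 : e '' closure {genOne G t} = closure {ξ} := by
    rw [← e1, e.image_closure]
    congr 1
    exact Set.image_singleton
  let π : (G ⊗ Over.mk t).left ⟶ Spec (CommRingCat.of K) := (snd G (Over.mk t)).left
  have : LocallyOfFiniteType π := snd_left_of (P := @LocallyOfFiniteType) _ ‹_›
  rw [topologicalKrullDim_eq_localDim_pt_one, localDim_pt_one]
  refine (IsHomeomorph.topologicalKrullDim_eq _ (e.image (closure {genOne G t})).isHomeomorph).le.trans ?_
  rw [e2, Groth.Agent.Lib.VarDim.Basic.topologicalKrullDim_isGenericPoint π (ξ := ξ)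
      (show IsGenericPoint ξ (closure {ξ}) from isGenericPoint_closure)]
  exact Groth.Agent.Lib.VarDim.Basic.pdim_le_topologicalKrullDim π U.1.2.isLocallyClosed
    (hz.mem_open U.1.2 U.2)

theorem localDim_eq_topologicalKrullDim {k : Type u} [Field k] (G : Over (Spec (CommRingCat.of k))) [GrpObj G]
    [LocallyOfFiniteType G.hom] (g : G.left) :
    FlatMor.localDim ↥G.left g = topologicalKrullDim ↥G.left := by
  let b : Spec (CommRingCat.of (AlgebraicClosure k)) ⟶ Spec (CommRingCat.of k) :=
    Spec.map (CommRingCat.ofHom (algebraMap k (AlgebraicClosure k)))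
  have sq := isPullback_left G (Over.mk b)
  have : Surjective (Over.mk b).hom :=
    ⟨fun _ => ⟨IsLocalRing.closedPoint (AlgebraicClosure k), Subsingleton.elim _ _⟩⟩
  have hs : Surjective (fst G (Over.mk b)).left := MorphismProperty.of_isPullback sq.flip this
  obtain ⟨z, rfl⟩ := hs.surj g
  rw [← Groth.Agent.H56.DimBaseChange.localDim_baseChange b G.hom _ _ sq z,
    ← Groth.Agent.H56.DimBaseChange.topologicalKrullDim_baseChange b G.hom _ _ sq]
  exact localDim_eq_of_isAlgClosed G b z

theorem topologicalKrullDim_irreducibleComponent_eq {k : Type u} [Field k] (G : Over (Spec (CommRingCat.of k)))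
    [GrpObj G] [LocallyOfFiniteType G.hom] {Z : Set G.left} (hZ : Z ∈ irreducibleComponents ↥G.left) :
    topologicalKrullDim ↥Z = topologicalKrullDim ↥G.left := by
  have : IsLocallyNoetherian G.left := LocallyOfFiniteType.isLocallyNoetherian G.hom
  obtain ⟨ξ, hξ⟩ := QuasiSober.sober hZ.1 (isClosed_of_mem_irreducibleComponents Z hZ)
  have hmax : IsMaxPt ξ := by
    intro y hy
    have h1 : Z ⊆ closure {y} := hξ.def ▸ closure_minimal
      (Set.singleton_subset_iff.2 hy.mem_closure) isClosed_closure
    have h2 := hZ.2 isIrreducible_singleton.closure h1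
    exact (hy.antisymm (hξ.specializes (h2 (subset_closure (Set.mem_singleton y))))).eq
  obtain ⟨V, hV, hξV, hsub⟩ := exists_open_subset_closure hmax
  refine le_antisymm (topologicalKrullDim_subspace_le G.left Z) ?_
  rw [← localDim_eq_topologicalKrullDim G ξ]
  refine le_trans (iInf_le_of_le ⟨⟨V, hV⟩, hξV⟩ le_rfl) ?_
  exact (IsEmbedding.inclusion (hξ.def ▸ hsub)).isInducing.topologicalKrullDim_le

end Groth.Agent.Lib.ActSep
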