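import Groth.Agent.Lib.GrpQ.MonoClosed
import Groth.Agent.Lib.FibreDim.Semicont
import Groth.Agent.Lib.VarDim.Fibre
import Groth.Agent.Lib.SchTopo.Basic
import Groth.Agent.Lib.ActSep.GrpArt
import Groth.Agent.Lib.ActSep.EquiDim

/-!
The dimension formula for homomorphisms of group schemes.
-/

universe u

open CategoryTheory Limits MonoidalCategory CartesianMonoidalCategory MonObj AlgebraicGeometry Topology
open Groth.Agent.Lib Groth.Agent.Lib.GrpQ.MonoClosed Groth.Agent.Lib.FibreDim.Basic

namespace Groth.Agent.Lib.ActSep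

section AlgClosed

variable {k : Type u} [Field k] [IsAlgClosed k]
variable {G H : Over (Spec (CommRingCat.of k))} [GrpObj G] [GrpObj H] [LocallyOfFiniteType G.hom]
  [LocallyOfFiniteType H.hom] (f : G ⟶ H) [IsMonHom f]

/-- `x ↦ x * r` as an isomorphism. -/
noncomputable def rmulIso {X : Over (Spec (CommRingCat.of k))} [GrpObj X]
    (r : 𝟙_ (Over (Spec (CommRingCat.of k))) ⟶ X) : X ≅ X where
  hom := rmul r
  inv := rmul r⁻¹
  hom_inv_id := by
    rw [rmul, rmul, MonObj.comp_mul, Category.comp_id, ← Category.assoc,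
      toUnit_unique (_ ≫ toUnit X) (toUnit X), GrpObj.comp_inv, mul_inv_cancel_right]
  inv_hom_id := by
    rw [rmul, rmul, MonObj.comp_mul, Category.comp_id, ← Category.assoc,
      toUnit_unique (_ ≫ toUnit X) (toUnit X), GrpObj.comp_inv, inv_mul_cancel_right]

omit [IsAlgClosed k] [LocallyOfFiniteType G.hom] [LocallyOfFiniteType H.hom] in
theorem fibreDimAt_rmul (g : 𝟙_ (Over (Spec (CommRingCat.of k))) ⟶ G) (x : G.left) :
    FlatMor.fibreDimAt f.left ((rmul g).left x) = FlatMor.fibreDimAt f.left x := by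
  let τ : G.left ≃ₜ G.left := ((Over.forget _).mapIso (rmulIso g)).hom.homeomorph
  let σ : H.left ≃ₜ H.left := ((Over.forget _).mapIso (rmulIso (g ≫ f))).hom.homeomorph
  have hc : ∀ y, f.left (τ y) = σ (f.left y) := by
    intro y
    show f.left ((rmul g).left y) = (rmul (g ≫ f)).left (f.left y)
    rw [← Scheme.Hom.comp_apply, ← Scheme.Hom.comp_apply, ← Over.comp_left, ← Over.comp_left]
    congr 3
    simp [rmul, MonObj.mul_comp, MonObj.comp_mul, ← Category.assoc, toUnit_unique (f ≫ toUnit H) (toUnit G)]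
  show FlatMor.fibreDimAt f.left (τ x) = _
  rw [fibreDimAt_eq, fibreDimAt_eq]
  symm
  let e : ↥(f.left.base ⁻¹' {f.left.base x}) ≃ₜ ↥(f.left.base ⁻¹' {f.left.base (τ x)}) :=
    τ.subtype fun y => by
      show f.left y = f.left x ↔ f.left (τ y) = f.left (τ x)
      rw [hc, hc]
      exact σ.injective.eq_iff.symm
  exact (localDim_eq_of_homeomorph e ⟨x, rfl⟩).symm

theorem fibreDimAt_const (x y : G.left) : FlatMor.fibreDimAt f.left x = FlatMor.fibreDimAt f.left y := by
  have : LocallyOfFiniteType (f.left ≫ H.hom) := by rw [Over.w]; infer_instance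
  have : LocallyOfFiniteType f.left := locallyOfFiniteType_of_comp f.left H.hom
  suffices ∀ x y : G.left, FlatMor.fibreDimAt f.left x ≤ FlatMor.fibreDimAt f.left y from
    le_antisymm (this x y) (this y x)
  intro x y
  by_contra hx
  let L := {z : G.left | FlatMor.fibreDimAt f.left z ≤ FlatMor.fibreDimAt f.left y}
  have hL : IsOpen L := Groth.Agent.Lib.FibreDim.Semicont.isOpen_setOf_fibreDimAt_le f.left _
  obtain ⟨a, ha⟩ := exists_ptOf (X := G) (s := L) hL.isLocallyClosed ⟨y, le_refl (FlatMor.fibreDimAt f.left y)⟩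
  obtain ⟨b, hb⟩ := exists_ptOf (X := G) (s := Lᶜ) hL.isClosed_compl.isLocallyClosed ⟨x, hx⟩
  refine hb ?_
  show FlatMor.fibreDimAt f.left (ptOf b) ≤ _
  rw [show ptOf b = (rmul (a⁻¹ * b)).left (ptOf a) by rw [ptOf_rmul, mul_inv_cancel_left], fibreDimAt_rmul]
  exact ha

theorem dim_eq_add [QuasiCompact f.left] :
    topologicalKrullDim G.left = topologicalKrullDim ↥(Set.range f.left) +
      topologicalKrullDim ↥(f.left ⁻¹' {f.left (η[G].left (IsLocalRing.closedPoint k))}) := by
  have : LocallyOfFiniteType (f.left ≫ H.hom) := by rw [Over.w]; infer_instance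
  have : LocallyOfFiniteType f.left := locallyOfFiniteType_of_comp f.left H.hom
  let e := η[G].left (IsLocalRing.closedPoint k)
  obtain ⟨d, hd⟩ := Groth.Agent.Lib.FibreDim.Chart.exists_fibreDimAt_eq f.left e
  have hconst : ∀ x, FlatMor.fibreDimAt f.left x = d := fun x => (fibreDimAt_const f x e).trans hd
  have hfib : ∀ z : H.left, z ∈ Set.range f.left → topologicalKrullDim ↥(f.left ⁻¹' {z}) = (d : WithBot ℕ∞) := by
    rintro _ ⟨x, rfl⟩
    refine le_antisymm (topologicalKrullDim_le_of_forall fun w => ?_) ?_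
    · exact ((localDim_preimage f.left w).trans (hconst w.1)).le
    · rw [← hconst x, fibreDimAt_eq]
      exact localDim_le_topologicalKrullDim _
  obtain ⟨n, hn⟩ : ∃ n : ℕ, topologicalKrullDim G.left = n := by
    obtain ⟨n, hn⟩ := Groth.Agent.Lib.FibreDim.Chart.exists_fibreDimAt_eq G.hom e
    refine ⟨n, ?_⟩
    rw [fibreDimAt_eq] at hn
    rw [← localDim_eq_topologicalKrullDim G e, ← hn]
    have hu : (G.hom.base ⁻¹' {G.hom.base e} : Set G.left) = Set.univ :=
      Set.eq_univ_of_forall fun w => Subsingleton.elim (α := Spec (CommRingCat.of k)) _ _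
    exact (localDim_eq_of_homeomorph ((Homeomorph.setCongr hu).trans (Homeomorph.Set.univ _)) ⟨e, rfl⟩)
  have hR : IsLocallyClosed (Set.range f.left) := (isClosed_range f).isLocallyClosed
  have hadd : ∀ z ∈ Set.range f.left, VarDim.Basic.pdim H.hom z + d ≤ n := by
    intro z hz
    obtain ⟨x, rfl, hx⟩ := VarDim.Fibre.exists_tdAt_ge f.left z d (hfib z hz).ge
    have h1 := VarDim.Basic.pdim_le_topologicalKrullDim_scheme G.hom x
    rw [hn] at h1
    have h2 : VarDim.Basic.pdim G.hom x ≤ n := by exact_mod_cast h1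
    have h3 := VarDim.Fibre.pdim_eq_add G.hom H.hom f.left (Over.w f) x
    omega
  classical
  let P : Set ℕ := VarDim.Basic.pdim H.hom '' Set.range f.left
  have hP : P.Nonempty := ⟨_, Set.mem_image_of_mem _ ⟨e, rfl⟩⟩
  have hPb : BddAbove P := ⟨n, by rintro _ ⟨z, hz, rfl⟩; have := hadd z hz; omega⟩
  obtain ⟨z₀, hz₀, hz₀m⟩ := Nat.sSup_mem hP hPb
  have hR' : topologicalKrullDim ↥(Set.range f.left) = (sSup P : ℕ) := by
    rw [← hz₀m]
    exact VarDim.Basic.topologicalKrullDim_eq H.hom hR hz₀ fun w hw => by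
      rw [hz₀m]; exact le_csSup hPb (Set.mem_image_of_mem _ hw)
  rw [hR', hfib _ ⟨e, rfl⟩, hn]
  have h4 : n ≤ sSup P + d := by
    have h5 : topologicalKrullDim G.left ≤ ((sSup P + d : ℕ) : WithBot ℕ∞) := by
      refine (VarDim.Basic.topologicalKrullDim_scheme_le_iff G.hom _).2 fun x => ?_
      have h1 := VarDim.Fibre.tdAt_le_topologicalKrullDim_fibre f.left x
      rw [hfib _ ⟨x, rfl⟩] at h1
      have h1' : VarDim.Basic.tdAt f.left x ≤ d := by exact_mod_cast h1
      have h2 : VarDim.Basic.pdim H.hom (f.left x) ≤ sSup P := le_csSup hPb (Set.mem_image_of_mem _ ⟨x, rfl⟩)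
      have h3 := VarDim.Fibre.pdim_eq_add G.hom H.hom f.left (Over.w f) x
      exact_mod_cast (show VarDim.Basic.pdim G.hom x ≤ sSup P + d by omega)
    rw [hn] at h5
    exact_mod_cast h5
  have h6 : sSup P + d ≤ n := by have := hadd z₀ hz₀; omega
  exact_mod_cast le_antisymm h4 h6

end AlgClosed

theorem topologicalKrullDim_preimage_of_integral_surjective {X Y : Scheme.{u}} (p : X ⟶ Y) [IsIntegralHom p]
    [Surjective p] {C : Set Y} (hC : IsClosed C) :
    topologicalKrullDim ↥(p ⁻¹' C) = topologicalKrullDim ↥C := by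
  let Zs : TopologicalSpace.Closeds Y := ⟨C, hC⟩
  let I := Scheme.IdealSheafData.vanishingIdeal Zs
  let j := I.subschemeι
  have hj : Set.range j = C := by
    rw [Scheme.IdealSheafData.range_subschemeι, Scheme.IdealSheafData.coe_support_vanishingIdeal]
    rfl
  let q := pullback.fst j p
  let j' := pullback.snd j p
  have hj' : Set.range j' = p ⁻¹' C := by
    show Set.range (pullback.snd j p) = _
    rw [Scheme.Pullback.range_snd, hj]
  have h1 : topologicalKrullDim ↥(pullback j p) = topologicalKrullDim ↥(p ⁻¹' C) := by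
    rw [← hj']
    exact j'.isEmbedding.toHomeomorph.isHomeomorph.topologicalKrullDim_eq
  have h2 : topologicalKrullDim ↥I.subscheme = topologicalKrullDim ↥C := by
    rw [← hj]
    exact j.isEmbedding.toHomeomorph.isHomeomorph.topologicalKrullDim_eq
  rw [← h1, ← h2]
  refine le_antisymm (SchTopo.Basic.topologicalKrullDim_le_of_specializes_eq q
    fun x y h he => SchTopo.Basic.isIntegralHom_eq_of_specializes q h he) ?_
  exact SchTopo.Basic.topologicalKrullDim_le_of_specializingMap q q.isClosedMap.specializingMap q.surjective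

end Groth.Agent.Lib.ActSep
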