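import Groth.Agent.Lib.GrpQ.MonoClosed
import Groth.Agent.H75.Birat.GenFinite

/-!
A quasi-compact homomorphism of groups locally of finite type over a field with finite fibres is finite.
-/

set_option autoImplicit false

universe u

open scoped Topology
open CategoryTheory Limits MonoidalCategory CartesianMonoidalCategory MonObj AlgebraicGeometry
open Groth.Agent.Lib Groth.Agent.Lib.GrpQ.MonoClosed

namespace Groth.Agent.Lib.ActSep

variable {k : Type u} [Field k] [IsAlgClosed k]
variable {G H : Over (Spec (CommRingCat.of k))} [GrpObj G] [GrpObj H] [LocallyOfFiniteType G.hom]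
  [LocallyOfFiniteType H.hom] (f : G ⟶ H) [IsMonHom f] [QuasiCompact f.left]

theorem universallyClosed_of_locallyQuasiFinite [LocallyQuasiFinite f.left] : UniversallyClosed f.left := by
  have : IsLocallyNoetherian H.left := LocallyOfFiniteType.isLocallyNoetherian H.hom
  have : LocallyOfFiniteType (f.left ≫ H.hom) := by rw [Over.w]; infer_instance
  have : LocallyOfFiniteType f.left := locallyOfFiniteType_of_comp f.left H.hom
  let Zc : TopologicalSpace.Closeds H.left := ⟨Set.range f.left, isClosed_range f⟩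
  let I := Scheme.IdealSheafData.vanishingIdeal Zc
  let j := I.subschemeι
  have hj : Set.range j = Set.range f.left := by
    rw [Scheme.IdealSheafData.range_subschemeι, Scheme.IdealSheafData.coe_support_vanishingIdeal]
    rfl
  have : IsReduced I.subscheme := H75.RedSub.isReduced_vanishingIdeal Zc
  have : IsLocallyNoetherian I.subscheme := LocallyOfFiniteType.isLocallyNoetherian (j ≫ H.hom)
  let p := pullback.snd f.left j
  have : LocallyQuasiFinite p := inferInstanceAs (LocallyQuasiFinite (pullback.snd f.left j))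
  have : QuasiCompact p := inferInstanceAs (QuasiCompact (pullback.snd f.left j))
  have : LocallyOfFiniteType p := inferInstanceAs (LocallyOfFiniteType (pullback.snd f.left j))
  have : IsSeparated p := by
    have : IsSeparated (f.left ≫ H.hom) := by
      rw [Over.w]; exact Groth.Agent.Lib.GrpSch.isSeparated_of_field G
    have : IsSeparated f.left := IsSeparated.of_comp f.left H.hom
    exact inferInstanceAs (IsSeparated (pullback.snd f.left j))
  have : Surjective p := ⟨fun z => by
    obtain ⟨x, hx⟩ := hj.le ⟨z, rfl⟩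
    obtain ⟨w, -, hw⟩ := Scheme.Pullback.exists_preimage_pullback (f := f.left) (g := j) x z hx
    exact ⟨w, hw⟩⟩
  obtain ⟨z₀, hz₀⟩ := hj.ge ⟨η[G].left (IsLocalRing.closedPoint k), rfl⟩
  obtain ⟨ξ, hξ, -⟩ := SchTopo.Closure.exists_maximal_specializes I.subscheme z₀
  have hgen : ∀ y : I.subscheme, y ⤳ ξ → y = ξ := fun y hy => by
    refine (hy.antisymm ?_).eq
    exact specializes_iff_mem_closure.2 (hξ.2 isIrreducible_singleton.closure
      (closure_minimal (Set.singleton_subset_iff.2 hy.mem_closure) isClosed_closure) (subset_closure rfl))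
  obtain ⟨V₀, hV₀, hξV₀, -⟩ := exists_isAffineOpen_mem_and_subset (X := I.subscheme) (x := ξ) (U := ⊤) trivial
  have hGen : Groth.Agent.H75.Birat.IsGen ξ := Lib.SchTopo.Closure.maximal_of_forall_eq hgen
  obtain ⟨U, -, hU, -, hiso⟩ := Groth.Agent.H75.Birat.exists_isFinite_restrict p hGen
    (p.finite_preimage_singleton ξ) hV₀ hξV₀
    (fun W hW _ => Groth.Agent.H75.Birat.exists_nhd_of_quasiCompact p hGen W hW)
    (fun U U' hU hU' h h' hne => Groth.Agent.H75.Birat.exists_sep_of_quasiSeparated p hGen hV₀ hξV₀ U U' hU hU' h h' hne)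
  obtain ⟨W, hW, hWU⟩ : ∃ W, IsOpen W ∧ j ⁻¹' W = (U : Set I.subscheme) :=
    (j.isClosedEmbedding.isInducing.isOpen_iff).1 U.2
  let W' : H.left.Opens := ⟨W, hW⟩
  have hWU' : j ⁻¹ᵁ W' = U := TopologicalSpace.Opens.ext hWU
  let q := (isPullback_morphismRestrict f.left W').flip
  have hpW : UniversallyClosed (f.left ∣_ W') := by
    subst hWU'
    let m : ((p ⁻¹ᵁ j ⁻¹ᵁ W' : (pullback f.left j).Opens) : Scheme.{u}) ⟶ (f.left ⁻¹ᵁ W' : G.left.Opens) :=
      q.lift (Scheme.Opens.ι _ ≫ pullback.fst f.left j) ((p ∣_ (j ⁻¹ᵁ W')) ≫ (j ∣_ W')) (by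
        rw [Category.assoc, pullback.condition, Category.assoc, morphismRestrict_ι,
          morphismRestrict_ι_assoc])
    have hm : m ≫ (f.left ∣_ W') = (p ∣_ (j ⁻¹ᵁ W')) ≫ (j ∣_ W') := q.lift_snd _ _ _
    have : UniversallyClosed (m ≫ (f.left ∣_ W')) := by
      rw [hm]
      have : IsClosedImmersion (j ∣_ W') :=
        MorphismProperty.of_isPullback (isPullback_morphismRestrict j W').flip inferInstance
      infer_instance
    have : Surjective m := ⟨fun x => by
      have hxW : f.left x.1 ∈ W' := x.2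
      obtain ⟨z, hz⟩ := hj.ge ⟨x.1, rfl⟩
      obtain ⟨w, hw1, hw2⟩ := Scheme.Pullback.exists_preimage_pullback (f := f.left) (g := j) x.1 z hz.symm
      refine ⟨⟨w, show j (p w) ∈ W' by
        rw [show p w = z from hw2, hz]; exact hxW⟩, Subtype.ext ?_⟩
      refine ((Scheme.Hom.comp_apply m (f.left ⁻¹ᵁ W').ι _).symm.trans ?_).trans hw1
      rw [show m ≫ (f.left ⁻¹ᵁ W').ι = _ from q.lift_fst _ _ _]
      rfl⟩
    exact UniversallyClosed.of_comp_surjective m _
  refine IsZariskiLocalAtTarget.of_forall_exists_morphismRestrict fun y => ?_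
  by_cases hy : y ∈ Set.range f.left
  · have : JacobsonSpace H.left := LocallyOfFiniteType.jacobsonSpace H.hom
    obtain ⟨c, hc⟩ := exists_ptOf (X := H) (s := closure {y}) isClosed_closure.isLocallyClosed
      ⟨y, subset_closure rfl⟩
    obtain ⟨x, hx⟩ := (isClosed_range f).closure_subset_iff.2 (Set.singleton_subset_iff.2 hy) hc
    obtain ⟨gc, hgc⟩ := exists_ptOf (X := G) (s := f.left ⁻¹' {ptOf c})
      ((GrpSch.rational_isClosed c _).preimage f.left.continuous).isLocallyClosed ⟨x, hx⟩
    have ec : c = gc ≫ f := eq_comp_of_ptOf_eq f gc c hgc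
    obtain ⟨gv, hgv⟩ := exists_ptOf (X := G) (s := f.left ⁻¹' W) (hW.preimage f.left.continuous).isLocallyClosed (by
      obtain ⟨x', hx'⟩ := hj.le ⟨ξ, rfl⟩
      exact ⟨x', show f.left x' ∈ W from hx'.symm ▸ hWU.ge hU⟩)
    rw [Set.mem_preimage, ptOf_comp] at hgv
    let τ := (GrpSch.translate (GrpSch.regularAction H) ((gv * gc⁻¹) ≫ f)).hom
    refine ⟨τ.left ⁻¹ᵁ W', ?_, GrpSch.restrict_preimage_of_isPullback
      (GrpSch.forall_translate_isPullback f _) W' hpW⟩
    refine (specializes_iff_mem_closure.2 hc).mem_open (τ.left ⁻¹ᵁ W').2 ?_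
    show τ.left (ptOf c) ∈ W
    rw [ptOf_comp, GrpSch.translate_regular_apply, ec, MonObj.mul_comp, GrpObj.inv_comp,
      inv_mul_cancel_right]
    exact hgv
  · let O : H.left.Opens := ⟨(Set.range f.left)ᶜ, (isClosed_range f).isOpen_compl⟩
    have : IsEmpty ((f.left ⁻¹ᵁ O : G.left.Opens) : Scheme.{u}) := ⟨fun x => x.2 ⟨x.1, rfl⟩⟩
    exact ⟨O, hy, inferInstance⟩

end Groth.Agent.Lib.ActSep
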