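import Groth.Agent.Lib.GrpQ.MonoClosed
import Groth.Agent.Lib.GrpSch.Translate
import Groth.Agent.H75.Birat.GenFinite
import Groth.Agent.H47.GenericFlat

/-!
A quasi-compact homomorphism of groups locally of finite type over a field with universally closed kernel
is universally closed.
-/

set_option autoImplicit false

universe u

open scoped Topology
open CategoryTheory Limits MonoidalCategory CartesianMonoidalCategory MonObj AlgebraicGeometry
open Groth.Agent.Lib Groth.Agent.Lib.GrpQ.MonoClosed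

namespace Groth.Agent.Lib.ActSep

theorem kernelPair_of_isPullback {P : MorphismProperty Scheme.{u}} [P.IsStableUnderBaseChange] [P.RespectsIso]
    {X Y X' Y' : Scheme.{u}} {f : X ⟶ Y} {v : Y' ⟶ Y} {q : X' ⟶ X} {p : X' ⟶ Y'} (hq : IsPullback q p f v)
    (h : P (pullback.snd f f)) : P (pullback.snd p p) := by
  have h1 : IsPullback (pullback.fst p p ≫ q) (pullback.snd p p) f (q ≫ f) := by
    rw [hq.w]
    exact (IsPullback.of_hasPullback p p).paste_horiz hq
  have h2 : P (pullback.snd f (q ≫ f)) := by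
    rw [← pullbackLeftPullbackSndIso_inv_snd_snd f f q]
    exact (P.cancel_left_of_respectsIso _ _).2 (MorphismProperty.pullback_snd _ _ h)
  rw [← h1.isoPullback_hom_snd]
  exact (P.cancel_left_of_respectsIso _ _).2 h2

theorem kernelPair_of_base_change {P : MorphismProperty Scheme.{u}} [P.IsStableUnderBaseChange] [P.RespectsIso]
    {X Y Y' : Scheme.{u}} (f : X ⟶ Y) (v : Y' ⟶ Y) (h : P (pullback.snd f f)) :
    P (pullback.snd (pullback.snd f v) (pullback.snd f v)) :=
  kernelPair_of_isPullback (IsPullback.of_hasPullback f v) h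

variable {k : Type u} [Field k] [IsAlgClosed k]
variable {G H : Over (Spec (CommRingCat.of k))} [GrpObj G] [GrpObj H] [LocallyOfFiniteType G.hom]
  [LocallyOfFiniteType H.hom] (f : G ⟶ H) [IsMonHom f] [QuasiCompact f.left]

theorem universallyClosed_of_kernelPair (hf : UniversallyClosed (pullback.snd f.left f.left)) :
    UniversallyClosed f.left := by
  have : IsLocallyNoetherian H.left := LocallyOfFiniteType.isLocallyNoetherian H.hom
  have : LocallyOfFiniteType (f.left ≫ H.hom) := by rw [Over.w]; infer_instance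
  have : LocallyOfFiniteType f.left := locallyOfFiniteType_of_comp f.left H.hom
  let Zc : TopologicalSpace.Closeds H.left := ⟨Set.range f.left, isClosed_range f⟩
  let I := Scheme.IdealSheafData.vanishingIdeal Zc
  let j := I.subschemeι
  have hj : Set.range j = Set.range f.left := by
    rw [Scheme.IdealSheafData.range_subschemeι, Scheme.IdealSheafData.coe_support_vanishingIdeal]
    rfl
  have : IsReduced I.subscheme := H75.RedSub.isReduced_vanishingIdeal Zc
  have : IsLocallyNoetherian I.subscheme := LocallyOfFiniteType.isLocallyNoetherian (j ≫ H.hom)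
  obtain ⟨z₀, -⟩ := hj.ge ⟨η[G].left (IsLocalRing.closedPoint k), rfl⟩
  obtain ⟨V₀, hV₀, hz₀V₀, -⟩ := exists_isAffineOpen_mem_and_subset (X := I.subscheme) (x := z₀) (U := ⊤) trivial
  have : IsAffine (V₀ : Scheme.{u}) := hV₀
  have : IsLocallyNoetherian (V₀ : Scheme.{u}) := isLocallyNoetherian_of_isOpenImmersion V₀.ι
  have : IsNoetherian (V₀ : Scheme.{u}) := ⟨⟩
  have : Nonempty ↥(V₀ : Scheme.{u}) := ⟨⟨z₀, hz₀V₀⟩⟩
  let C : Set (V₀ : Scheme.{u}) := irreducibleComponent ⟨z₀, hz₀V₀⟩
  let V : (V₀ : Scheme.{u}).Opens :=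
    ⟨(⋃₀ (irreducibleComponents ↥(V₀ : Scheme.{u}) \ {C}))ᶜ, by
      rw [Set.sUnion_eq_biUnion, isOpen_compl_iff]
      exact TopologicalSpace.NoetherianSpace.finite_irreducibleComponents.sdiff.isClosed_biUnion
        fun W hW ↦ isClosed_of_mem_irreducibleComponents W hW.1⟩
  have hV : closure (V : Set (V₀ : Scheme.{u})) = C :=
    closure_sUnion_irreducibleComponents_sdiff_singleton
      TopologicalSpace.NoetherianSpace.finite_irreducibleComponents
      _ (irreducibleComponent_mem_irreducibleComponents _)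
  have : AlgebraicGeometry.IsIntegral (V : Scheme.{u}) :=
    have : IrreducibleSpace (V : Scheme.{u}) := isIrreducible_iff_irreducibleSpace.mp
      (isIrreducible_iff_closure.mp (hV ▸ isIrreducible_irreducibleComponent))
    isIntegral_of_irreducibleSpace_of_isReduced _
  obtain ⟨A, a, ha, hηa, hflat⟩ := H47.GenericFlat.exists_flat_affine (pullback.snd f.left (V.ι ≫ V₀.ι ≫ j))
  let v : Spec A ⟶ I.subscheme := a ≫ V.ι ≫ V₀.ι
  let r := pullback.snd f.left (v ≫ j)
  have hr : Flat r := by
    show Flat (pullback.snd f.left ((a ≫ V.ι ≫ V₀.ι) ≫ j))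
    rw [Category.assoc, Category.assoc, ← pullbackLeftPullbackSndIso_inv_snd_snd f.left (V.ι ≫ V₀.ι ≫ j) a]
    exact (MorphismProperty.cancel_left_of_respectsIso @Flat _ _).2 hflat
  have : Surjective r := ⟨fun z => by
    obtain ⟨x, hx⟩ := hj.le ⟨v z, rfl⟩
    obtain ⟨w, -, hw⟩ := Scheme.Pullback.exists_preimage_pullback (f := f.left) (g := v ≫ j) x z
      (by rw [hx]; rfl)
    exact ⟨w, hw⟩⟩
  have hru : UniversallyClosed r :=
    MorphismProperty.DescendsAlong.of_isPullback (P := @UniversallyClosed) (Q := @Surjective ⊓ @Flat ⊓ @QuasiCompact)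
      (IsPullback.of_hasPullback r r).flip ⟨⟨‹_›, hr⟩, inferInstanceAs (QuasiCompact (pullback.snd f.left (v ≫ j)))⟩
      (kernelPair_of_base_change f.left (v ≫ j) hf)
  let p := pullback.snd f.left j
  let U := v.opensRange
  have hpU : UniversallyClosed (p ∣_ U) := by
    refine (MorphismProperty.arrow_mk_iso_iff @UniversallyClosed (morphismRestrictOpensRange p v)).2 ?_
    show UniversallyClosed (pullback.snd (pullback.snd f.left j) v)
    rw [← pullbackLeftPullbackSndIso_hom_snd f.left j v]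
    exact (MorphismProperty.cancel_left_of_respectsIso @UniversallyClosed _ _).2 hru
  obtain ⟨ξ, hU⟩ : ∃ ξ, ξ ∈ U := by
    obtain ⟨b, -⟩ := hηa
    exact ⟨v b, b, rfl⟩
  obtain ⟨W, hW, hWU⟩ : ∃ W, IsOpen W ∧ j ⁻¹' W = (U : Set I.subscheme) :=
    (j.isClosedEmbedding.isInducing.isOpen_iff).1 U.2
  let W' : H.left.Opens := ⟨W, hW⟩
  have hWU' : j ⁻¹ᵁ W' = U := TopologicalSpace.Opens.ext hWU
  let q := (isPullback_morphismRestrict f.left W').flip
  have hpW : UniversallyClosed (f.left ∣_ W') := by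
    rw [← hWU'] at hpU
    let m : ((p ⁻¹ᵁ j ⁻¹ᵁ W' : (pullback f.left j).Opens) : Scheme.{u}) ⟶ (f.left ⁻¹ᵁ W' : G.left.Opens) :=
      q.lift (Scheme.Opens.ι _ ≫ pullback.fst f.left j) ((p ∣_ (j ⁻¹ᵁ W')) ≫ (j ∣_ W')) (by
        rw [Category.assoc, pullback.condition, Category.assoc, morphismRestrict_ι,
          morphismRestrict_ι_assoc])
    have hm : m ≫ (f.left ∣_ W') = (p ∣_ (j ⁻¹ᵁ W')) ≫ (j ∣_ W') := q.lift_snd _ _ _
    have : UniversallyClosed (m ≫ (f.left ∣_ W')) := by
      rw [hm]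
      have : IsClosedImmersion (j ∣_ W') :=
        MorphismProperty.of_isPullback (isPullback_morphismRestrict j W').flip inferInstance
      infer_instance
    have : Surjective m := ⟨fun x => by
      have hxW : f.left x.1 ∈ W' := x.2
      obtain ⟨z, hz⟩ := hj.ge ⟨x.1, rfl⟩
      obtain ⟨w, hw1, hw2⟩ := Scheme.Pullback.exists_preimage_pullback (f := f.left) (g := j) x.1 z hz.symm
      refine ⟨⟨w, show j (p w) ∈ W' by
        rw [show p w = z from hw2, hz]; exact hxW⟩, Subtype.ext ?_⟩
      refine ((Scheme.Hom.comp_apply m (f.left ⁻¹ᵁ W').ι _).symm.trans ?_).trans hw1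
      rw [show m ≫ (f.left ⁻¹ᵁ W').ι = _ from q.lift_fst _ _ _]
      rfl⟩
    exact UniversallyClosed.of_comp_surjective m _
  refine IsZariskiLocalAtTarget.of_forall_exists_morphismRestrict fun y => ?_
  by_cases hy : y ∈ Set.range f.left
  · have : JacobsonSpace H.left := LocallyOfFiniteType.jacobsonSpace H.hom
    obtain ⟨c, hc⟩ := exists_ptOf (X := H) (s := closure {y}) isClosed_closure.isLocallyClosed
      ⟨y, subset_closure rfl⟩
    obtain ⟨x, hx⟩ := (isClosed_range f).closure_subset_iff.2 (Set.singleton_subset_iff.2 hy) hc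
    obtain ⟨gc, hgc⟩ := exists_ptOf (X := G) (s := f.left ⁻¹' {ptOf c})
      ((GrpSch.rational_isClosed c _).preimage f.left.continuous).isLocallyClosed ⟨x, hx⟩
    have ec : c = gc ≫ f := eq_comp_of_ptOf_eq f gc c hgc
    obtain ⟨gv, hgv⟩ := exists_ptOf (X := G) (s := f.left ⁻¹' W) (hW.preimage f.left.continuous).isLocallyClosed (by
      obtain ⟨x', hx'⟩ := hj.le ⟨ξ, rfl⟩
      exact ⟨x', show f.left x' ∈ W from hx'.symm ▸ hWU.ge hU⟩)
    rw [Set.mem_preimage, ptOf_comp] at hgv
    let τ := (GrpSch.translate (GrpSch.regularAction H) ((gv * gc⁻¹) ≫ f)).hom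
    refine ⟨τ.left ⁻¹ᵁ W', ?_, GrpSch.restrict_preimage_of_isPullback
      (GrpSch.forall_translate_isPullback f _) W' hpW⟩
    refine (specializes_iff_mem_closure.2 hc).mem_open (τ.left ⁻¹ᵁ W').2 ?_
    show τ.left (ptOf c) ∈ W
    rw [ptOf_comp, GrpSch.translate_regular_apply, ec, MonObj.mul_comp, GrpObj.inv_comp,
      inv_mul_cancel_right]
    exact hgv
  · let O : H.left.Opens := ⟨(Set.range f.left)ᶜ, (isClosed_range f).isOpen_compl⟩
    have : IsEmpty ((f.left ⁻¹ᵁ O : G.left.Opens) : Scheme.{u}) := ⟨fun x => x.2 ⟨x.1, rfl⟩⟩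
    exact ⟨O, hy, inferInstance⟩

end Groth.Agent.Lib.ActSep
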