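import Groth.Agent.Lib.ActSep.GrpDim
import Groth.Agent.H75.RedSub
import Groth.Agent.H47.GenericFlat
import Groth.Agent.H46.UnibranchSch
import Groth.Agent.H54.ThickBasic
import Groth.Agent.Lib.JacCrit.OverField

/-!
Universally open homomorphisms of groups locally of finite type over an algebraically closed field.
-/

set_option autoImplicit false

universe u

open scoped Topology
open CategoryTheory Limits MonoidalCategory CartesianMonoidalCategory MonObj AlgebraicGeometry
open Groth.Agent.Lib Groth.Agent.Lib.GrpQ.MonoClosed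

namespace Groth.Agent.Lib.ActSep

variable {k : Type u} [Field k] [IsAlgClosed k]
variable {G H : Over (Spec (CommRingCat.of k))} [GrpObj G] [GrpObj H] [LocallyOfFiniteType G.hom]
  [LocallyOfFiniteType H.hom] (f : G ⟶ H) [IsMonHom f]

/-- A homomorphism mapping some affine open onto a set with nonempty interior is universally open. -/
theorem universallyOpen_of_interior {O : G.left.Opens} (hO : IsAffineOpen O)
    (h : (interior (f.left '' (O : Set G.left))).Nonempty) : UniversallyOpen f.left := by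
  have : IsLocallyNoetherian H.left := LocallyOfFiniteType.isLocallyNoetherian H.hom
  have : JacobsonSpace H.left := LocallyOfFiniteType.jacobsonSpace H.hom
  have : JacobsonSpace G.left := LocallyOfFiniteType.jacobsonSpace G.hom
  have : LocallyOfFiniteType (f.left ≫ H.hom) := by rw [Over.w]; infer_instance
  have : LocallyOfFiniteType f.left := locallyOfFiniteType_of_comp f.left H.hom
  have : IsSeparated H.hom := GrpSch.isSeparated_of_field H
  have : IsAffine (O : Scheme.{u}) := hO
  let g : (O : Scheme.{u}) ⟶ H.left := O.ι ≫ f.left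
  have : QuasiCompact g := QuasiCompact.of_comp g H.hom
  let Zc : TopologicalSpace.Closeds H.left := ⟨Set.univ, isClosed_univ⟩
  let I := Scheme.IdealSheafData.vanishingIdeal Zc
  let j := I.subschemeι
  have hj : Set.range j = Set.univ := by
    rw [Scheme.IdealSheafData.range_subschemeι, Scheme.IdealSheafData.coe_support_vanishingIdeal]
    rfl
  have : Surjective j := ⟨Set.range_eq_univ.1 hj⟩
  have : UniversallyOpen j := Groth.Agent.H46.UnibranchSch.universallyOpen_of_surjective_isClosedImmersion j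
  have : IsReduced I.subscheme := H75.RedSub.isReduced_vanishingIdeal Zc
  have : IsLocallyNoetherian I.subscheme := LocallyOfFiniteType.isLocallyNoetherian (j ≫ H.hom)
  obtain ⟨y₀, hy₀⟩ := h
  obtain ⟨z₀, rfl⟩ := j.surjective y₀
  obtain ⟨V₀, hV₀, hz₀V₀, hV₀sub⟩ := exists_isAffineOpen_mem_and_subset (X := I.subscheme) (x := z₀)
    (U := ⟨j ⁻¹' interior (f.left '' (O : Set G.left)), isOpen_interior.preimage j.continuous⟩) hy₀
  have : IsAffine (V₀ : Scheme.{u}) := hV₀
  have : IsLocallyNoetherian (V₀ : Scheme.{u}) := isLocallyNoetherian_of_isOpenImmersion V₀.ι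
  have : IsNoetherian (V₀ : Scheme.{u}) := ⟨⟩
  have : Nonempty ↥(V₀ : Scheme.{u}) := ⟨⟨z₀, hz₀V₀⟩⟩
  let C : Set (V₀ : Scheme.{u}) := irreducibleComponent ⟨z₀, hz₀V₀⟩
  let V : (V₀ : Scheme.{u}).Opens :=
    ⟨(⋃₀ (irreducibleComponents ↥(V₀ : Scheme.{u}) \ {C}))ᶜ, by
      rw [Set.sUnion_eq_biUnion, isOpen_compl_iff]
      exact TopologicalSpace.NoetherianSpace.finite_irreducibleComponents.sdiff.isClosed_biUnion
        fun W hW ↦ isClosed_of_mem_irreducibleComponents W hW.1⟩
  have hV : closure (V : Set (V₀ : Scheme.{u})) = C :=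
    closure_sUnion_irreducibleComponents_sdiff_singleton
      TopologicalSpace.NoetherianSpace.finite_irreducibleComponents
      _ (irreducibleComponent_mem_irreducibleComponents _)
  have : AlgebraicGeometry.IsIntegral (V : Scheme.{u}) :=
    have : IrreducibleSpace (V : Scheme.{u}) := isIrreducible_iff_irreducibleSpace.mp
      (isIrreducible_iff_closure.mp (hV ▸ isIrreducible_irreducibleComponent))
    isIntegral_of_irreducibleSpace_of_isReduced _
  obtain ⟨A, a, ha, hηa, hflat⟩ := H47.GenericFlat.exists_flat_affine (pullback.snd g (V.ι ≫ V₀.ι ≫ j))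
  let v : Spec A ⟶ I.subscheme := a ≫ V.ι ≫ V₀.ι
  let r := pullback.snd g (v ≫ j)
  have hr : Flat r := by
    show Flat (pullback.snd g ((a ≫ V.ι ≫ V₀.ι) ≫ j))
    rw [Category.assoc, Category.assoc, ← pullbackLeftPullbackSndIso_inv_snd_snd g (V.ι ≫ V₀.ι ≫ j) a]
    exact (MorphismProperty.cancel_left_of_respectsIso @Flat _ _).2 hflat
  have : IsLocallyNoetherian (Spec A) := isLocallyNoetherian_of_isOpenImmersion v
  have : LocallyOfFiniteType r := inferInstanceAs (LocallyOfFiniteType (pullback.snd g (v ≫ j)))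
  have : LocallyOfFinitePresentation r := Groth.Agent.Lib.JacCrit.OverField.locallyOfFinitePresentation r
  have : UniversallyOpen r := UniversallyOpen.of_flat r
  obtain ⟨W, hW, hWU⟩ : ∃ W, IsOpen W ∧ j ⁻¹' W = (v.opensRange : Set I.subscheme) :=
    (j.isClosedEmbedding.isInducing.isOpen_iff).1 v.opensRange.2
  let W' : H.left.Opens := ⟨W, hW⟩
  let O' : G.left.Opens := O ⊓ f.left ⁻¹ᵁ W'
  have hO' : UniversallyOpen (O'.ι ≫ f.left) := by
    have hmem : Set.range (pullback.fst g (v ≫ j) ≫ O.ι) = (O' : Set G.left) := by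
      ext x
      rw [Scheme.Hom.comp_base, TopCat.coe_comp, Set.range_comp, Scheme.Pullback.range_fst]
      constructor
      · rintro ⟨o, ⟨s, hs⟩, rfl⟩
        refine ⟨o.2, ?_⟩
        show f.left (O.ι o) ∈ W
        rw [show f.left (O.ι o) = g o from rfl, ← hs]
        exact hWU.ge (show v s ∈ (v.opensRange : Set I.subscheme) from ⟨s, rfl⟩)
      · rintro ⟨hx, hxW⟩
        refine ⟨⟨x, hx⟩, ?_, rfl⟩
        obtain ⟨z, hz⟩ := j.surjective (f.left x)
        obtain ⟨s, hs⟩ : z ∈ (v.opensRange : Set I.subscheme) := hWU.le (show j z ∈ W from hz ▸ hxW)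
        exact ⟨s, show j (v s) = f.left x by rw [hs, hz]⟩
    let m : pullback g (v ≫ j) ⟶ (O' : Scheme.{u}) :=
      IsOpenImmersion.lift O'.ι (pullback.fst g (v ≫ j) ≫ O.ι) (by rw [hmem, Scheme.Opens.range_ι])
    have hm : m ≫ O'.ι = pullback.fst g (v ≫ j) ≫ O.ι := IsOpenImmersion.lift_fac _ _ _
    have : Surjective m := ⟨fun x => by
      obtain ⟨w, hw⟩ := hmem.ge x.2
      exact ⟨w, O'.ι.isOpenEmbedding.injective (by rw [← Scheme.Hom.comp_apply, hm, hw]; rfl)⟩⟩
    have : UniversallyOpen (m ≫ O'.ι ≫ f.left) := by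
      rw [reassoc_of% hm, pullback.condition]
      infer_instance
    exact Groth.Agent.H54.ThickBasic.universallyOpen_of_comp_surjective m _
  have hne : ∃ x, x ∈ O' := by
    obtain ⟨b, -⟩ := hηa
    obtain ⟨x, hx, hfx⟩ := interior_subset (hV₀sub (show v b ∈ (V₀ : Set I.subscheme) from (V.ι (a b)).2))
    refine ⟨x, hx, ?_⟩
    show f.left x ∈ W
    rw [hfx]
    exact hWU.ge (show v b ∈ (v.opensRange : Set I.subscheme) from ⟨b, rfl⟩)
  obtain ⟨x₀, hx₀⟩ := hne
  obtain ⟨c₀, hc₀⟩ := exists_ptOf (X := G) (s := (O' : Set G.left)) O'.2.isLocallyClosed ⟨x₀, hx₀⟩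
  refine IsZariskiLocalAtSource.of_openCover (G.left.openCoverOfIsOpenCover
    (fun c : 𝟙_ (Over (Spec (CommRingCat.of k))) ⟶ G => (rmul (c⁻¹ * c₀)).left ⁻¹ᵁ O') (top_unique fun x _ => ?_)) fun (c : 𝟙_ (Over (Spec (CommRingCat.of k))) ⟶ G) => ?_
  · obtain ⟨c, hc⟩ := exists_ptOf (X := G) (s := closure {x}) isClosed_closure.isLocallyClosed ⟨x, subset_closure rfl⟩
    refine TopologicalSpace.Opens.mem_iSup.2 ⟨c, (specializes_iff_mem_closure.2 hc).mem_open
      ((rmul (c⁻¹ * c₀)).left ⁻¹ᵁ O').2 ?_⟩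
    show (rmul (c⁻¹ * c₀)).left (ptOf c) ∈ O'
    rw [ptOf_rmul, mul_inv_cancel_left]
    exact hc₀
  · let t := c⁻¹ * c₀
    show UniversallyOpen (((rmul t).left ⁻¹ᵁ O').ι ≫ f.left)
    have : IsIso (rmul t) := (rmulIso t).isIso_hom
    have : IsIso (rmul t).left := (Over.forget _).map_isIso (rmul t)
    have : IsIso (rmul (t ≫ f)) := (rmulIso (t ≫ f)).isIso_hom
    have : IsIso (rmul (t ≫ f)).left := (Over.forget _).map_isIso (rmul (t ≫ f))
    have hc : rmul t ≫ f = f ≫ rmul (t ≫ f) := by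
      simp [rmul, MonObj.mul_comp, MonObj.comp_mul, ← Category.assoc, toUnit_unique (f ≫ toUnit H) (toUnit G)]
    have : UniversallyOpen ((((rmul t).left ⁻¹ᵁ O').ι ≫ f.left) ≫ (rmul (t ≫ f)).left) := by
      rw [Category.assoc, ← Over.comp_left, ← hc, Over.comp_left, ← morphismRestrict_ι_assoc]
      infer_instance
    exact (MorphismProperty.cancel_right_of_respectsIso @UniversallyOpen _ (rmul (t ≫ f)).left).1 this

end Groth.Agent.Lib.ActSep
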