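import Groth.Agent.Lib.ActSep.Orbit
import Groth.Agent.H75.BaseChange.Nhd

/-!
Local properties of a homomorphism of group schemes are homogeneous along the fibres.
-/

universe u

open CategoryTheory Limits MonoidalCategory CartesianMonoidalCategory MonObj AlgebraicGeometry Topology

namespace Groth.Agent.Lib.ActSep

open Groth.Agent.Lib.GrpSch

/-- The points near which a morphism has property `P`. -/
def nhdLocus (P : MorphismProperty Scheme.{u}) {X Y : Scheme.{u}} (f : X ⟶ Y) : Set X :=
  {x | ∃ U : X.Opens, x ∈ U ∧ P (U.ι ≫ f)}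

theorem isOpen_nhdLocus (P : MorphismProperty Scheme.{u}) {X Y : Scheme.{u}} (f : X ⟶ Y) :
    IsOpen (nhdLocus P f) :=
  isOpen_iff_forall_mem_open.2 fun _ ⟨U, hxU, hU⟩ => ⟨U, fun _ hy => ⟨U, hy, hU⟩, U.2, hxU⟩

theorem iff_nhdLocus_eq_univ (P : MorphismProperty Scheme.{u}) [IsZariskiLocalAtSource P] {X Y : Scheme.{u}}
    (f : X ⟶ Y) : P f ↔ nhdLocus P f = Set.univ := by
  constructor
  · exact fun h => Set.eq_univ_of_forall fun x => ⟨⊤, trivial, IsZariskiLocalAtSource.comp h _⟩
  · intro h
    choose U hxU hU using fun x => Set.eq_univ_iff_forall.1 h x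
    exact (IsZariskiLocalAtSource.iff_of_iSup_eq_top (P := P) U
      (top_le_iff.1 fun x _ => TopologicalSpace.Opens.mem_iSup.2 ⟨x, hxU x⟩)).2 hU

/-- A property whose pointwise version is insensitive to base change. -/
structure PointwiseBC (P : MorphismProperty Scheme.{u}) : Prop where
  descend : ∀ {X Y Y' : Scheme.{u}} (f : X ⟶ Y) [LocallyOfFiniteType f] (g : Y' ⟶ Y)
    (w : ↑(pullback f g)), w ∈ nhdLocus P (pullback.snd f g) → pullback.fst f g w ∈ nhdLocus P f

variable {P : MorphismProperty Scheme.{u}} [P.IsStableUnderBaseChange] [IsZariskiLocalAtSource P]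

theorem PointwiseBC.mem_iff (hP : PointwiseBC P) {X X' Y Y' : Scheme.{u}} {f : X ⟶ Y} {f' : X' ⟶ Y'}
    {eX : X' ⟶ X} {b : Y' ⟶ Y} (sq : IsPullback eX f' f b) [LocallyOfFiniteType f] (x' : X') :
    x' ∈ nhdLocus P f' ↔ eX x' ∈ nhdLocus P f := by
  constructor
  · rintro ⟨U, hU, hUP⟩
    have hw : sq.isoPullback.hom x' ∈ nhdLocus P (pullback.snd f b) := by
      refine ⟨sq.isoPullback.inv ⁻¹ᵁ U, ?_, ?_⟩
      · show sq.isoPullback.inv (sq.isoPullback.hom x') ∈ U
        rwa [← Scheme.Hom.comp_apply, Iso.hom_inv_id]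
      · have e : (sq.isoPullback.inv ⁻¹ᵁ U).ι ≫ pullback.snd f b = (sq.isoPullback.inv ∣_ U) ≫ U.ι ≫ f' := by
          rw [morphismRestrict_ι_assoc, sq.isoPullback_inv_snd]
        rw [e]
        exact (MorphismProperty.cancel_left_of_respectsIso P _ _).2 hUP
    have h := hP.descend f b _ hw
    rwa [← Scheme.Hom.comp_apply, sq.isoPullback_hom_fst] at h
  · rintro ⟨U, hU, hUP⟩
    exact ⟨eX ⁻¹ᵁ U, hU, MorphismProperty.of_isPullback ((isPullback_morphismRestrict eX U).paste_vert sq) hUP⟩

variable {S : Scheme.{u}} {G H : Over S} [GrpObj G] [GrpObj H] (u : G ⟶ H) [IsMonHom u]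

theorem mulR_whiskerRight {T : Over S} (g : T ⟶ G) :
    mulR g ≫ (u ▷ T) = (u ▷ T) ≫ mulR (g ≫ u) := by
  ext1 <;> simp [mulR, MonObj.mul_comp, MonObj.comp_mul, Category.assoc]

variable [LocallyOfFiniteType u.left]

theorem mem_nhdLocus_mulR (hP : PointwiseBC P) {T : Over S} (g : T ⟶ G) (z : (G ⊗ T).left) :
    (mulR g).left z ∈ nhdLocus P (u ▷ T).left ↔ z ∈ nhdLocus P (u ▷ T).left := by
  have : IsIso (mulR g).left := inferInstanceAs (IsIso ((Over.forget S).mapIso (mulRIso g)).hom)
  have : IsIso (mulR (g ≫ u)).left := inferInstanceAs (IsIso ((Over.forget S).mapIso (mulRIso (g ≫ u))).hom)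
  have : LocallyOfFiniteType (u ▷ T).left :=
    MorphismProperty.of_isPullback (P := @LocallyOfFiniteType) (isPullback_whiskerRight u T).flip ‹_›
  exact (hP.mem_iff (IsPullback.of_horiz_isIso
    (fst := (mulR g).left) (snd := (u ▷ T).left) (f := (u ▷ T).left) (g := (mulR (g ≫ u)).left)
    ⟨by rw [← Over.comp_left, ← Over.comp_left, mulR_whiskerRight]⟩) z).symm

theorem mem_nhdLocus_of_mem_geom (hP : PointwiseBC P) {K : Type u} [Field K] [IsAlgClosed K]
    (t : Spec (CommRingCat.of K) ⟶ S) (hlft : LocallyOfFiniteType (snd G (Over.mk t)).left)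
    {z z' : (G ⊗ Over.mk t).left} (hz : z ∈ nhdLocus P (u ▷ Over.mk t).left) :
    z' ∈ nhdLocus P (u ▷ Over.mk t).left := by
  let T := Over.mk t
  let π : (G ⊗ T).left ⟶ Spec (CommRingCat.of K) := (snd G T).left
  have : LocallyOfFiniteType π := hlft
  have : JacobsonSpace (G ⊗ T).left := LocallyOfFiniteType.jacobsonSpace π
  have hpt : ∀ c ∈ closedPoints (G ⊗ T).left, ∃ g : T ⟶ G, pt t g = c := by
    intro c hc
    let q : T ⟶ G ⊗ T := Over.homMk (pointOfClosedPoint π c hc) (by
      rw [← Over.w (snd G T), ← Category.assoc]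
      exact (congrArg (· ≫ t) (pointOfClosedPoint_comp π c hc)).trans (Category.id_comp t))
    refine ⟨q ≫ fst G T, ?_⟩
    have : q = lift (q ≫ fst G T) (𝟙 _) := by
      refine CartesianMonoidalCategory.hom_ext _ _ (by simp) (Over.OverMorphism.ext ?_)
      rw [lift_snd, Over.comp_left]
      exact pointOfClosedPoint_comp π c hc
    rw [pt, ← this]
    exact pointOfClosedPoint_apply π c hc _
  by_contra hz'
  obtain ⟨a, ha, hac⟩ := nonempty_inter_closedPoints ⟨z, hz⟩ (isOpen_nhdLocus P _).isLocallyClosed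
  obtain ⟨b, hb, hbc⟩ := nonempty_inter_closedPoints (Z := (nhdLocus P (u ▷ T).left)ᶜ) ⟨z', hz'⟩
    (isOpen_nhdLocus P _).isClosed_compl.isLocallyClosed
  obtain ⟨g, rfl⟩ := hpt a hac
  obtain ⟨h, rfl⟩ := hpt b hbc
  refine hb ?_
  have := (mem_nhdLocus_mulR u hP (g⁻¹ * h) (pt t g)).2 ha
  rwa [mulR_pt, mul_inv_cancel_left] at this

/-- A local property of a homomorphism is constant on each fibre. -/
theorem mem_nhdLocus_iff_of_hom_eq (hP : PointwiseBC P)
    (hG : ∀ s : S, LocallyOfFiniteType (G.hom.fiberToSpecResidueField s)) {x y : G.left}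
    (hxy : G.hom x = G.hom y) : x ∈ nhdLocus P u.left ↔ y ∈ nhdLocus P u.left := by
  suffices ∀ x y : G.left, G.hom x = G.hom y → x ∈ nhdLocus P u.left → y ∈ nhdLocus P u.left from
    ⟨this x y hxy, this y x hxy.symm⟩
  intro x y hxy hx
  let s := G.hom x
  let K := AlgebraicClosure (S.residueField s)
  let φ : S.residueField s ⟶ CommRingCat.of K := CommRingCat.ofHom (algebraMap (S.residueField s) (AlgebraicClosure (S.residueField s)))
  let t : Spec (CommRingCat.of K) ⟶ S := Spec.map φ ≫ S.fromSpecResidueField s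
  let T := Over.mk t
  have hlft : LocallyOfFiniteType (snd G T).left := by
    let q : pullback G.hom (Spec.map φ ≫ S.fromSpecResidueField s) ⟶ G.hom.fiber s :=
      pullback.lift (pullback.fst _ _) (pullback.snd _ _ ≫ Spec.map φ)
        (by rw [pullback.condition, Category.assoc])
    have hq : IsPullback q (pullback.snd G.hom (Spec.map φ ≫ S.fromSpecResidueField s))
        (G.hom.fiberToSpecResidueField s) (Spec.map φ) := by
      refine IsPullback.of_right ?_ (pullback.lift_snd _ _ _)
        (IsPullback.of_hasPullback G.hom (S.fromSpecResidueField s))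
      rw [show q ≫ pullback.fst G.hom (S.fromSpecResidueField s) = pullback.fst _ _ from
        pullback.lift_fst _ _ _]
      exact IsPullback.of_hasPullback _ _
    exact MorphismProperty.of_isPullback (P := @LocallyOfFiniteType) hq (hG s)
  have hr : ∀ w : G.left, G.hom w = s → w ∈ Set.range (fst G T).left := by
    intro w hw
    show w ∈ Set.range (pullback.fst G.hom t)
    rw [Scheme.Pullback.range_fst]
    exact ⟨IsLocalRing.closedPoint K, by
      rw [hw]; exact (Scheme.Hom.comp_apply _ _ _).trans (Scheme.fromSpecResidueField_apply _ _)⟩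
  obtain ⟨a, ha⟩ := hr x rfl
  obtain ⟨b, hb⟩ := hr y hxy.symm
  rw [← hb]
  rw [← ha] at hx
  exact (hP.mem_iff (isPullback_whiskerRight u T).flip b).1
    (mem_nhdLocus_of_mem_geom u hP t hlft ((hP.mem_iff (isPullback_whiskerRight u T).flip a).2 hx))

theorem isPullback_map {G H : Over S} (u : G ⟶ H) {T : Scheme.{u}} (r : T ⟶ S) :
    IsPullback (pullback.fst G.hom r) ((Over.pullback r).map u).left u.left (pullback.fst H.hom r) := by
  refine IsPullback.of_bot ?_ ?_ (IsPullback.of_hasPullback H.hom r).flip.flip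
  · rw [Over.w u]
    have : ((Over.pullback r).map u).left ≫ pullback.snd H.hom r = pullback.snd G.hom r := pullback.lift_snd _ _ _
    rw [this]
    exact IsPullback.of_hasPullback G.hom r
  · exact (pullback.lift_fst _ _ _).symm

theorem map_iff_mem (hP : PointwiseBC P)
    (hG : ∀ s : S, LocallyOfFiniteType (G.hom.fiberToSpecResidueField s)) (s : S) :
    P ((Over.pullback (S.fromSpecResidueField s)).map u).left ↔ η[G].left s ∈ nhdLocus P u.left := by
  have sq := isPullback_map u (S.fromSpecResidueField s)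
  have hs : G.hom (η[G].left s) = s := by rw [← Scheme.Hom.comp_apply, η_left_comp_hom]; rfl
  have hrange : Set.range (pullback.fst G.hom (S.fromSpecResidueField s)) = G.hom ⁻¹' {s} := by
    rw [Scheme.Pullback.range_fst, Scheme.range_fromSpecResidueField]
  rw [iff_nhdLocus_eq_univ P]
  constructor
  · intro h
    obtain ⟨a, ha⟩ : η[G].left s ∈ Set.range (pullback.fst G.hom (S.fromSpecResidueField s)) := by
      rw [hrange]; exact hs
    rw [← ha]
    exact (hP.mem_iff sq a).1 (h ▸ Set.mem_univ a)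
  · refine fun h => Set.eq_univ_of_forall fun a => (hP.mem_iff sq a).2 ?_
    have ha : G.hom (pullback.fst G.hom (S.fromSpecResidueField s) a) = s := by
      have : pullback.fst G.hom (S.fromSpecResidueField s) a ∈ G.hom ⁻¹' {s} := hrange ▸ ⟨a, rfl⟩
      exact this
    exact (mem_nhdLocus_iff_of_hom_eq u hP hG (ha.trans hs.symm)).2 h

theorem nhdLocus_eq_preimage (hP : PointwiseBC P)
    (hG : ∀ s : S, LocallyOfFiniteType (G.hom.fiberToSpecResidueField s)) :
    nhdLocus P u.left = G.hom ⁻¹' {s : S | P ((Over.pullback (S.fromSpecResidueField s)).map u).left} := by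
  ext x
  rw [Set.mem_preimage, Set.mem_setOf_eq, map_iff_mem u hP hG]
  exact mem_nhdLocus_iff_of_hom_eq u hP hG (by rw [← Scheme.Hom.comp_apply η[G].left, η_left_comp_hom]; rfl)

theorem isOpen_setOf_map (hP : PointwiseBC P)
    (hG : ∀ s : S, LocallyOfFiniteType (G.hom.fiberToSpecResidueField s)) :
    IsOpen {s : S | P ((Over.pullback (S.fromSpecResidueField s)).map u).left} := by
  rw [show {s : S | P ((Over.pullback (S.fromSpecResidueField s)).map u).left} = η[G].left ⁻¹' nhdLocus P u.left from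
    Set.ext (map_iff_mem u hP hG)]
  exact (isOpen_nhdLocus P _).preimage η[G].left.continuous

theorem iff_forall_map (hP : PointwiseBC P)
    (hG : ∀ s : S, LocallyOfFiniteType (G.hom.fiberToSpecResidueField s)) :
    P u.left ↔ ∀ s : S, P ((Over.pullback (S.fromSpecResidueField s)).map u).left := by
  rw [iff_nhdLocus_eq_univ P, nhdLocus_eq_preimage u hP hG]
  constructor
  · intro h s
    have := h ▸ Set.mem_univ (η[G].left s)
    rwa [Set.mem_preimage, ← Scheme.Hom.comp_apply, η_left_comp_hom] at this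
  · exact fun h => Set.eq_univ_of_forall fun x => h _

theorem iff_kernel (hP : PointwiseBC P)
    (hG : ∀ s : S, LocallyOfFiniteType (G.hom.fiberToSpecResidueField s))
    {N : Over S} [GrpObj N] (i : N ⟶ G) [IsMonHom i] (hK : AlgGrp.IsKernel i u) : P u.left ↔ P N.hom := by
  have sq : IsPullback i.left N.hom u.left η[H].left := by
    have := (Functor.map_isPullback (Over.forget S) hK)
    have e : (toUnit N).left = N.hom := (Category.comp_id _).symm.trans (Over.w (toUnit N))
    rw [← e]
    exact this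
  refine ⟨fun h => MorphismProperty.of_isPullback sq h, fun h => ?_⟩
  rw [iff_forall_map u hP hG]
  intro s
  rw [map_iff_mem u hP hG, show η[G].left s = i.left (η[N].left s) by
    rw [← Scheme.Hom.comp_apply, ← Over.comp_left, IsMonHom.one_hom]]
  exact (hP.mem_iff sq _).1 (((iff_nhdLocus_eq_univ P _).1 h) ▸ Set.mem_univ _)

end Groth.Agent.Lib.ActSep
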