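import Groth.Agent.Lib.ActSep.HomogSat

/-!
Base change of homogeneous spaces and geometric irreducibility of their components.
-/

set_option autoImplicit false
set_option backward.isDefEq.respectTransparency false
set_option backward.isDefEq.respectTransparency.types false

universe u

open CategoryTheory Limits MonoidalCategory CartesianMonoidalCategory MonObj AlgebraicGeometry Topology

namespace Groth.Agent.Lib.ActSep.HomogX

open Groth.Agent.Lib.GrpSch Groth.Agent.Lib.ActSep.MaxPt Groth.Agent.H63.GrpIrred Groth.Agent.H63.GrpComponent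

section Action

variable {S S' : Scheme.{u}} (r : S' ⟶ S) {G X : Over S} [GrpObj G] (a : AlgGrp.Action G X)

open Functor.LaxMonoidal Functor.OplaxMonoidal in
/-- The base change of an action. -/
noncomputable def bcAct : AlgGrp.Action (Red.bc r G) (Red.bc r X) where
  act := Functor.LaxMonoidal.μ (Over.pullback r) G X ≫ (Over.pullback r).map a.act
  one_act := by
    show ((Functor.LaxMonoidal.ε (Over.pullback r) ≫ (Over.pullback r).map η[G]) ▷ _) ≫ _ = _
    rw [MonoidalCategory.comp_whiskerRight, Category.assoc, Functor.LaxMonoidal.μ_natural_left_assoc,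
      ← Functor.map_comp, a.one_act, Functor.LaxMonoidal.left_unitality]
  mul_act := by
    show ((Functor.LaxMonoidal.μ (Over.pullback r) G G ≫ (Over.pullback r).map μ[G]) ▷ _) ≫ _ = _
    rw [MonoidalCategory.comp_whiskerRight, Category.assoc, Functor.LaxMonoidal.μ_natural_left_assoc,
      ← Functor.map_comp, a.mul_act, Functor.map_comp, Functor.map_comp, Functor.LaxMonoidal.associativity_assoc,
      MonoidalCategory.whiskerLeft_comp, Category.assoc, Functor.LaxMonoidal.μ_natural_right_assoc]

theorem bcAct_fst_snd :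
    Functor.LaxMonoidal.μ (Over.pullback r) G X ≫ (Over.pullback r).map (fst G X) = fst _ _ ∧
      Functor.LaxMonoidal.μ (Over.pullback r) G X ≫ (Over.pullback r).map (snd G X) = snd _ _ := by
  constructor <;> simp

theorem surjective_bcAct (hΦ : Surjective (lift a.act (snd G X)).left) :
    Surjective (lift (bcAct r a).act (snd (Red.bc r G) (Red.bc r X))).left := by
  have h : lift (bcAct r a).act (snd (Red.bc r G) (Red.bc r X)) =
      Functor.LaxMonoidal.μ (Over.pullback r) G X ≫ (Over.pullback r).map (lift a.act (snd G X)) ≫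
        Functor.OplaxMonoidal.δ (Over.pullback r) X X := by
    apply CartesianMonoidalCategory.hom_ext
    · simp [bcAct, ← Functor.map_comp]
    · simp [← Functor.map_comp]
  rw [h, Over.comp_left, Over.comp_left]
  have : Surjective ((Over.pullback r).map (lift a.act (snd G X))).left :=
    MorphismProperty.of_isPullback (P := @Surjective) (isPullback_map _ r) hΦ
  have : IsIso (Functor.LaxMonoidal.μ (Over.pullback r) G X).left :=
    inferInstanceAs (IsIso ((Over.forget _).map (Functor.LaxMonoidal.μ (Over.pullback r) G X)))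
  have : IsIso (Functor.OplaxMonoidal.δ (Over.pullback r) X X).left :=
    inferInstanceAs (IsIso ((Over.forget _).map (Functor.OplaxMonoidal.δ (Over.pullback r) X X)))
  infer_instance

end Action

variable {k : Type u} [Field k] {G X : Over (Spec (CommRingCat.of k))} [GrpObj G] (a : AlgGrp.Action G X)

theorem neutralSet_eq_comp0 (G : Over (Spec (CommRingCat.of k))) [GrpObj G] :
    SGA3x.neutralSet G = comp0 G :=
  (neutralSet_field_eq G).trans (Groth.Agent.H63.GrpConnected.connectedComponent_unit G)

variable (hΦ : Surjective (lift a.act (snd G X)).left)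
include hΦ

theorem isIrreducible_preimage_component {K : Type u} [Field K] (r : Spec (CommRingCat.of K) ⟶ Spec (CommRingCat.of k))
    (x : 𝟙_ (Over (Spec (CommRingCat.of k))) ⟶ X) (e : ↥(𝟙_ (Over (Spec (CommRingCat.of k)))).left) :
    IsIrreducible (pullback.fst X.hom r ⁻¹' closure {genX (x.left e)}) := by
  let a' := bcAct r a
  have hΦ' := surjective_bcAct r a hΦ
  let pr : (Red.bc r X).left ⟶ X.left := pullback.fst X.hom r
  have : Flat r := flat_of_isField (R := CommRingCat.of k) (Field.toIsField k) r
  have : Flat pr := MorphismProperty.pullback_fst (P := @Flat) _ _ ‹_›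
  have hmax : ∀ w : (Red.bc r X).left, IsMaxPt w → IsMaxPt (pr w) := fun w hw z hz => by
    obtain ⟨z', h1, rfl⟩ := Flat.generalizingMap pr hz
    rw [hw z' h1]
  have hpr : ∀ w : (Red.bc r X).left, pr (genX w) = genX (pr w) := fun w =>
    (genX_eq a hΦ (hmax _ (isMaxPt_genX w)) ((genX_specializes w).map pr.continuous)).symm
  have hSub : Subsingleton ↥(pullback (𝟙_ (Over (Spec (CommRingCat.of k)))).hom r) := by
    have : IsIso (pullback.snd (𝟙_ (Over (Spec (CommRingCat.of k)))).hom r) :=
      inferInstanceAs (IsIso (pullback.snd (𝟙 _) r))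
    have := subsingleton_field K
    exact (pullback.snd (𝟙_ (Over (Spec (CommRingCat.of k)))).hom r).homeomorph.injective.subsingleton
  have hsq := isPullback_map x r
  have huniq : ∀ w w' : (Red.bc r X).left, pr w = x.left e → pr w' = x.left e → w = w' := by
    intro w w' hw hw'
    obtain ⟨v, -, hv⟩ := Scheme.exists_preimage_of_isPullback hsq e w hw.symm
    obtain ⟨v', -, hv'⟩ := Scheme.exists_preimage_of_isPullback hsq e w' hw'.symm
    rw [← hv, ← hv', Subsingleton.elim (α := ↥(pullback (𝟙_ (Over (Spec (CommRingCat.of k)))).hom r)) v v']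
  have hG : comp0 (Red.bc r G) = pullback.fst G.hom r ⁻¹' comp0 G := by
    rw [← neutralSet_eq_comp0, ← neutralSet_eq_comp0, neutralSet_bc]
  obtain ⟨q, hq0, hqx, hqη⟩ := exists_act_eq_genX a hΦ (x.left e)
  have key : ∀ w : (Red.bc r X).left, pr w = genX (x.left e) →
      ∃ xK, pr xK = x.left e ∧ genX w = genX xK := by
    intro w hw
    obtain ⟨v, hv1, hv2⟩ := Scheme.exists_preimage_of_isPullback (isPullback_map a.act r) q w (hqη.trans hw.symm)
    let v' := (Functor.OplaxMonoidal.δ (Over.pullback r) G X).left v
    have h1 : (fst (Red.bc r G) (Red.bc r X)).left v' = ((Over.pullback r).map (fst G X)).left v := by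
      rw [← Scheme.Hom.comp_apply, ← Over.comp_left, Functor.OplaxMonoidal.δ_fst]
    have h2 : (snd (Red.bc r G) (Red.bc r X)).left v' = ((Over.pullback r).map (snd G X)).left v := by
      rw [← Scheme.Hom.comp_apply, ← Over.comp_left, Functor.OplaxMonoidal.δ_snd]
    have h3 : a'.act.left v' = w := by
      rw [← Scheme.Hom.comp_apply, ← Over.comp_left]
      show (Functor.OplaxMonoidal.δ (Over.pullback r) G X ≫
        Functor.LaxMonoidal.μ (Over.pullback r) G X ≫ (Over.pullback r).map a.act).left v = w
      rw [← Category.assoc, Functor.Monoidal.δ_μ, Category.id_comp]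
      exact hv2
    refine ⟨(snd (Red.bc r G) (Red.bc r X)).left v', ?_, ?_⟩
    · rw [h2]
      exact ((congrArg (fun φ : _ ⟶ X.left => φ v) (isPullback_map (snd G X) r).w).symm.trans
        (congrArg (snd G X).left hv1)).trans hqx
    · rw [← h3]
      refine genX_act a' hΦ' ?_
      rw [h1, hG]
      show pullback.fst G.hom r _ ∈ comp0 G
      have := (congrArg (fun φ : _ ⟶ G.left => φ v) (isPullback_map (fst G X) r).w).symm.trans
        (congrArg (fst G X).left hv1)
      exact this.symm ▸ hq0
  obtain ⟨xK, hxK⟩ : ∃ xK : (Red.bc r X).left, pr xK = x.left e := by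
    obtain ⟨z, hz, -⟩ := Scheme.Pullback.exists_preimage_pullback (f := X.hom) (g := r) (x.left e)
      (IsLocalRing.closedPoint K) (Subsingleton.elim (α := PrimeSpectrum k) _ _)
    exact ⟨z, hz⟩
  have : pr ⁻¹' closure {genX (x.left e)} = closure {genX xK} := by
    refine Set.Subset.antisymm (fun w hw => ?_) (closure_minimal ?_ (isClosed_closure.preimage pr.continuous))
    · rw [Set.mem_preimage, closure_genX_eq a hΦ] at hw
      obtain ⟨xK', h1, h2⟩ := key (genX w) ((hpr w).trans hw)
      rw [huniq xK' xK h1 hxK, genX_eq a' hΦ' (isMaxPt_genX w) specializes_rfl] at h2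
      rw [← h2]
      exact (genX_specializes w).mem_closure
    · rw [Set.singleton_subset_iff, Set.mem_preimage, hpr, hxK]
      exact subset_closure rfl
  show IsIrreducible (pr ⁻¹' _)
  rw [this]
  exact isIrreducible_singleton.closure

/-- The orbit of a rational point under the neutral component is its component. -/
theorem image_orbit_comp0 [QuasiSeparatedSpace X.left] (x : 𝟙_ (Over (Spec (CommRingCat.of k))) ⟶ X)
    (e : ↥(𝟙_ (Over (Spec (CommRingCat.of k)))).left) :
    (a.orbitMap x).left '' comp0 G = connectedComponent (x.left e) := by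
  have : Subsingleton ↥(𝟙_ (Over (Spec (CommRingCat.of k)))).left := subsingleton_field k
  have horb : a.orbitMap x = lift (𝟙 G) (toUnit G ≫ x) ≫ a.act := rfl
  rw [connectedComponent_eq a hΦ, closure_genX_eq a hΦ]
  ext y
  constructor
  · rintro ⟨g, hg, rfl⟩
    show genX _ = _
    rw [horb, Over.comp_left, Scheme.Hom.comp_apply, genX_act a hΦ]
    · congr 1
      rw [← Scheme.Hom.comp_apply, ← Over.comp_left, lift_snd, Over.comp_left, Scheme.Hom.comp_apply]
      exact congrArg x.left (Subsingleton.elim _ _)
    · rw [← Scheme.Hom.comp_apply, ← Over.comp_left, lift_fst]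
      exact hg
  · intro (hy : genX y = genX (x.left e))
    obtain ⟨q₁, hq₁, rfl, e₁⟩ := exists_act_eq_genX a hΦ y
    obtain ⟨q₂, hq₂, hx₂, e₂⟩ := exists_act_eq_genX a hΦ (x.left e)
    obtain ⟨w, hw1, hw2⟩ := Scheme.Pullback.exists_preimage_pullback (f := a.act.left) (g := a.act.left) q₁ q₂
      (by rw [e₁, e₂, hy])
    let R := pullback a.act.left a.act.left
    let T : Over (Spec (CommRingCat.of k)) := Over.mk (pullback.fst a.act.left a.act.left ≫ (G ⊗ X).hom)
    let p₁ : T ⟶ G ⊗ X := Over.homMk (pullback.fst a.act.left a.act.left) rfl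
    let p₂ : T ⟶ G ⊗ X := Over.homMk (pullback.snd a.act.left a.act.left) (by
      show _ ≫ _ = pullback.fst _ _ ≫ _
      rw [← Over.w a.act, ← Category.assoc, ← Category.assoc, pullback.condition])
    have hp : p₁ ≫ a.act = p₂ ≫ a.act := Over.OverMorphism.ext pullback.condition
    let g : T ⟶ G := (p₁ ≫ fst G X)⁻¹ * (p₂ ≫ fst G X)
    have hgx : lift g (p₂ ≫ snd G X) ≫ a.act = p₁ ≫ snd G X := by
      rw [act_mul, ← comp_lift, lift_fst_snd, Category.comp_id, ← hp]
      have h := act_inv_act a (p₁ ≫ fst G X) (p₁ ≫ snd G X)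
      rw [← comp_lift, lift_fst_snd, Category.comp_id] at h
      exact h
    have hg0 : g.left w ∈ comp0 G := by
      have : g = lift (p₁ ≫ fst G X ≫ ι[G]) (p₂ ≫ fst G X) ≫ μ[G] := by
        rw [← Hom.mul_def, ← Category.assoc, ← Hom.inv_def]
      rw [this, Over.comp_left, Scheme.Hom.comp_apply]
      refine Groth.Agent.H63.GrpConnected.mul_mem G ?_ ?_
      · show (fst G G).left _ ∈ comp0 G
        rw [← Scheme.Hom.comp_apply, ← Over.comp_left, lift_fst, Over.comp_left, Over.comp_left,
          Scheme.Hom.comp_apply, Scheme.Hom.comp_apply, show p₁.left w = q₁ from hw1]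
        exact Groth.Agent.H63.GrpConnected.inv_mem G hq₁
      · show (snd G G).left _ ∈ comp0 G
        rw [← Scheme.Hom.comp_apply, ← Over.comp_left, lift_snd, Over.comp_left, Scheme.Hom.comp_apply,
          show p₂.left w = q₂ from hw2]
        exact hq₂
    let v := (lift g (p₂ ≫ snd G X)).left w
    have hv1 : (fst G X).left v = g.left w := by rw [← Scheme.Hom.comp_apply, ← Over.comp_left, lift_fst]
    have hv2 : (snd G X).left v = x.left e := by
      rw [← Scheme.Hom.comp_apply, ← Over.comp_left, lift_snd, Over.comp_left, Scheme.Hom.comp_apply,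
        show p₂.left w = q₂ from hw2, hx₂]
    have hva : a.act.left v = (snd G X).left q₁ := by
      rw [← Scheme.Hom.comp_apply, ← Over.comp_left, hgx, Over.comp_left, Scheme.Hom.comp_apply,
        show p₁.left w = q₁ from hw1]
    obtain ⟨u, hu, -⟩ := Scheme.exists_preimage_of_isPullback (isPullback_whiskerLeft G x) v e hv2
    refine ⟨(fst G (𝟙_ _)).left u, ?_, ?_⟩
    · rw [← whiskerLeft_fst G x, Over.comp_left, Scheme.Hom.comp_apply, show (G ◁ x).left u = v from hu, hv1]
      exact hg0
    · rw [← hva, ← hu, ← Scheme.Hom.comp_apply, ← Scheme.Hom.comp_apply, ← Over.comp_left, ← Over.comp_left, horb]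
      rw [← Category.assoc, show fst G (𝟙_ _) ≫ lift (𝟙 G) (toUnit G ≫ x) = G ◁ x from
        CartesianMonoidalCategory.hom_ext _ _ (by simp)
          (by simp only [Category.assoc, lift_snd, whiskerLeft_snd, ← Category.assoc (fst G (𝟙_ _)),
            toUnit_unique (fst G (𝟙_ _) ≫ toUnit G) (snd G (𝟙_ _))])]

end Groth.Agent.Lib.ActSep.HomogX
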