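import Groth.Agent.Lib.ActSep.HomogBC
import Groth.Agent.H56.DimBaseChange

/-!
The dimension of a homogeneous space locally of finite type over a field is the same everywhere.
-/

set_option autoImplicit false
set_option backward.isDefEq.respectTransparency false
set_option backward.isDefEq.respectTransparency.types false

universe u

open CategoryTheory Limits MonoidalCategory CartesianMonoidalCategory MonObj AlgebraicGeometry Topology

namespace Groth.Agent.Lib.ActSep.HomogX

open Groth.Agent.Lib.GrpSch Groth.Agent.Lib.ActSep.MaxPt Groth.Agent.Lib.FibreDim.Basic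

variable {k : Type u} [Field k] {G X : Over (Spec (CommRingCat.of k))} [GrpObj G] (a : AlgGrp.Action G X)
  (hΦ : Surjective (lift a.act (snd G X)).left) [LocallyOfFiniteType X.hom]

include hΦ

theorem isOpen_closure_genX (x : X.left) : IsOpen (closure {genX x}) := by
  have : IsLocallyNoetherian X.left := LocallyOfFiniteType.isLocallyNoetherian X.hom
  have : LocallyConnectedSpace X.left :=
    Groth.Agent.Lib.FinCond.locallyConnectedSpace_of_locally_noetherian fun y =>
      Groth.Agent.Lib.FinCond.locally_noetherian X.left y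
  rw [← connectedComponent_eq a hΦ]
  exact isOpen_connectedComponent

theorem localDim_eq (x : X.left) : FlatMor.localDim ↥X.left x = topologicalKrullDim ↥(closure {genX x}) := by
  refine le_antisymm (iInf_le_of_le ⟨⟨_, isOpen_closure_genX a hΦ x⟩, (genX_specializes x).mem_closure⟩ le_rfl)
    (le_iInf fun U => ?_)
  rw [Groth.Agent.Lib.VarDim.Basic.topologicalKrullDim_isGenericPoint X.hom (ξ := genX x)
    (show IsGenericPoint (genX x) (closure {genX x}) from isGenericPoint_closure)]
  exact Groth.Agent.Lib.VarDim.Basic.pdim_le_topologicalKrullDim X.hom U.1.2.isLocallyClosed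
    ((genX_specializes x).mem_open U.1.2 U.2)

theorem localDim_eq_of_mem {x y : X.left} (h : y ∈ closure {genX x}) :
    FlatMor.localDim ↥X.left y = FlatMor.localDim ↥X.left x := by
  rw [localDim_eq a hΦ, localDim_eq a hΦ]
  rw [closure_genX_eq a hΦ] at h
  rw [show genX y = genX x from h]

theorem localDim_const_algClosed [IsAlgClosed k] [LocallyOfFiniteType G.hom] (x y : X.left) :
    FlatMor.localDim ↥X.left x = FlatMor.localDim ↥X.left y := by
  let t : Spec (CommRingCat.of k) ⟶ Spec (CommRingCat.of k) := 𝟙 _
  let T : Over (Spec (CommRingCat.of k)) := Over.mk t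
  have : IsIso (fst X T).left := inferInstanceAs (IsIso (pullback.fst X.hom (𝟙 _)))
  let ψ := (fst X T).left.homeomorph
  have hψ : ∀ v, FlatMor.localDim ↥X.left ((fst X T).left v) = FlatMor.localDim ↥(X ⊗ T).left v :=
    fun v => localDim_eq_of_isOpenEmbedding ψ.isOpenEmbedding v
  have : JacobsonSpace X.left := LocallyOfFiniteType.jacobsonSpace X.hom
  obtain ⟨c, hc, hcl⟩ := nonempty_inter_closedPoints (X := X.left) (Z := closure {genX x}) ⟨genX x, subset_closure rfl⟩
    isClosed_closure.isLocallyClosed
  obtain ⟨d, hd, hdl⟩ := nonempty_inter_closedPoints (X := X.left) (Z := closure {genX y}) ⟨genX y, subset_closure rfl⟩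
    isClosed_closure.isLocallyClosed
  rw [← localDim_eq_of_mem a hΦ hc, ← localDim_eq_of_mem a hΦ hd]
  let xc : T ⟶ X := Over.homMk (pointOfClosedPoint X.hom c hcl) (pointOfClosedPoint_comp X.hom c hcl)
  let xd : T ⟶ X := Over.homMk (pointOfClosedPoint X.hom d hdl) (pointOfClosedPoint_comp X.hom d hdl)
  let e := IsLocalRing.closedPoint k
  have hcl' : IsClosed ((fst X T).left ⁻¹' {d}) := hdl.preimage ψ.continuous
  have := surjective_orb a hΦ xc
  obtain ⟨w, hw⟩ := (orb a xc).left.surjective ((lift xd (𝟙 T)).left e)
  obtain ⟨g, hg⟩ := exists_pt_mem t (Z := (orb a xc).left ⁻¹' ((fst X T).left ⁻¹' {d})) ⟨w, by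
    show (fst X T).left ((orb a xc).left w) = d
    rw [hw, ← Scheme.Hom.comp_apply, ← Over.comp_left, lift_fst]
    exact pointOfClosedPoint_apply X.hom d hdl _⟩ (hcl'.preimage (orb a xc).left.continuous).isLocallyClosed
  have hg' : (fst X T).left ((orb a xc).left (pt t g)) = d := hg
  let φ := ((Over.forget (Spec (CommRingCat.of k))).mapIso (actLIso a g)).hom.homeomorph
  have key : (actL a g).left ((lift xc (𝟙 T)).left e) = (orb a xc).left (pt t g) := by
    rw [pt, ← Scheme.Hom.comp_apply, ← Scheme.Hom.comp_apply, ← Over.comp_left, ← Over.comp_left]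
    refine congrArg (fun f : T ⟶ X ⊗ T => f.left e) ?_
    apply CartesianMonoidalCategory.hom_ext <;> simp [T, actL, orb, comp_lift_assoc]
  have hc' : (fst X T).left ((lift xc (𝟙 T)).left e) = c := by
    rw [← Scheme.Hom.comp_apply, ← Over.comp_left, lift_fst]
    exact pointOfClosedPoint_apply X.hom c hcl _
  conv_lhs => rw [← hc', hψ]
  conv_rhs => rw [← hg', hψ, ← key]
  exact (localDim_eq_of_isOpenEmbedding φ.isOpenEmbedding _).symm

theorem localDim_const [LocallyOfFiniteType G.hom] (x y : X.left) :
    FlatMor.localDim ↥X.left x = FlatMor.localDim ↥X.left y := by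
  let K := AlgebraicClosure k
  let r : Spec (CommRingCat.of K) ⟶ Spec (CommRingCat.of k) := Spec.map (CommRingCat.ofHom (algebraMap k K))
  have : LocallyOfFiniteType (Red.bc r G).hom := MorphismProperty.pullback_snd (P := @LocallyOfFiniteType) _ _ ‹_›
  have : LocallyOfFiniteType (Red.bc r X).hom := MorphismProperty.pullback_snd (P := @LocallyOfFiniteType) _ _ ‹_›
  have : Surjective r := ⟨fun v => ⟨IsLocalRing.closedPoint K, Subsingleton.elim (α := PrimeSpectrum k) _ _⟩⟩
  obtain ⟨x', rfl⟩ := (pullback.fst X.hom r).surjective x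
  obtain ⟨y', rfl⟩ := (pullback.fst X.hom r).surjective y
  have h := fun z => Groth.Agent.H56.DimBaseChange.localDim_baseChange r X.hom _ _ (IsPullback.of_hasPullback X.hom r) z
  rw [← h x', ← h y']
  exact localDim_const_algClosed (bcAct r a) (surjective_bcAct r a hΦ) x' y'

theorem topologicalKrullDim_connectedComponent [LocallyOfFiniteType G.hom] (x y : X.left) :
    topologicalKrullDim ↥(connectedComponent x) = topologicalKrullDim ↥(connectedComponent y) := by
  have : IsLocallyNoetherian X.left := LocallyOfFiniteType.isLocallyNoetherian X.hom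
  rw [connectedComponent_eq a hΦ, connectedComponent_eq a hΦ, ← localDim_eq a hΦ, ← localDim_eq a hΦ]
  exact localDim_const a hΦ x y

end Groth.Agent.Lib.ActSep.HomogX
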