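import Groth.Agent.Lib.ActSep.Orbit
import Groth.Prelude.Def_SGA3x
import Groth.Agent.Lib.GrpSch.BaseChange
import Groth.Agent.Lib.FinCond.Components
import Groth.Agent.Lib.FibreDim.Semicont
import Groth.Agent.Lib.VarDim.Basic
import Groth.Agent.H56.DimBaseChange
import Groth.Agent.Lib.GrpSch.Orbit

/-!
The neutral components of the fibres, seen in geometric fibres and through local dimensions.
-/

universe u

open CategoryTheory Limits MonoidalCategory CartesianMonoidalCategory MonObj AlgebraicGeometry Topology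

namespace Groth.Agent.Lib.ActSep

open Groth.Agent.Lib.GrpSch Groth.Agent.Lib.ActSep.MaxPt Groth.Agent.Lib.FibreDim.Basic
open Groth.Agent.H63.GrpIrred Groth.Agent.H63.GrpComponent

/-- The unit of the base change of a group scheme. -/
theorem η_bc_fst {S S' : Scheme.{u}} (G : Over S) [GrpObj G] (t : S' ⟶ S) :
    letI := ((Over.pullback t).mapGrp.obj ⟨G⟩).grp
    η[((Over.pullback t).obj G)].left ≫ pullback.fst G.hom t = t ≫ η[G].left := by
  show (Functor.LaxMonoidal.ε (Over.pullback t) ≫ (Over.pullback t).map η[G]).left ≫ _ = _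
  rw [Over.comp_left, Category.assoc]
  have h : ((Over.pullback t).map η[G]).left ≫ pullback.fst G.hom t = pullback.fst _ t ≫ η[G].left :=
    bc_map_proj t η[G]
  rw [h, ← Category.assoc]
  congr 1
  have hw := Over.w (Functor.LaxMonoidal.ε (Over.pullback t))
  have hc : pullback.fst (𝟙_ (Over S)).hom t ≫ (𝟙_ (Over S)).hom = pullback.snd _ t ≫ t := pullback.condition
  rw [show (𝟙_ (Over S)).hom = 𝟙 S from rfl] at hc
  erw [Category.comp_id] at hc
  rw [show pullback.fst (𝟙_ (Over S)).hom t = pullback.snd (𝟙_ (Over S)).hom t ≫ t from hc, ← Category.assoc]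
  erw [hw]
  exact Category.id_comp _

variable {S : Scheme.{u}} (G : Over S) [GrpObj G] {K : Type u} [Field K] (t : Spec (CommRingCat.of K) ⟶ S)

theorem fst_pt_one : (fst G (Over.mk t)).left (pt t (1 : Over.mk t ⟶ G)) =
    η[G].left (t (IsLocalRing.closedPoint K)) := by
  rw [pt, ← Scheme.Hom.comp_apply, ← Over.comp_left, lift_fst, Hom.one_def, Over.comp_left,
    Scheme.Hom.comp_apply]
  congr 1

/-- The neutral component of a geometric fibre as an irreducible component. -/
theorem closure_genOne_eq :
    closure {genOne G t} = irreducibleComponent (pt t (1 : Over.mk t ⟶ G)) := by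
  have hZ := irreducibleComponent_mem_irreducibleComponents (pt t (1 : Over.mk t ⟶ G))
  have hg := hZ.1.isGenericPoint_genericPoint (isClosed_of_mem_irreducibleComponents _ hZ)
  have hmax : IsMaxPt hZ.1.genericPoint := by
    intro y hy
    have hsub : irreducibleComponent (pt t (1 : Over.mk t ⟶ G)) ⊆ closure {y} := by
      rw [← hg.def]
      exact closure_minimal (Set.singleton_subset_iff.2 (specializes_iff_mem_closure.1 hy)) isClosed_closure
    have hge := hZ.2 (isIrreducible_singleton.closure) hsub
    exact (hy.antisymm (hg.specializes (hge (subset_closure rfl)))).eq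
  rw [maxPt_unique G t (isMaxPt_genOne G t) hmax (genOne_specializes G t)
    (hg.specializes mem_irreducibleComponent), hg.def]

theorem pt_one_eq_unitPt :
    letI := ((Over.pullback t).mapGrp.obj ⟨G⟩).grp
    (pt t (1 : Over.mk t ⟶ G) : ((Over.pullback t).obj G).left) = unitPt ((Over.pullback t).obj G) := by
  let : GrpObj ((Over.pullback t).obj G) := ((Over.pullback t).mapGrp.obj ⟨G⟩).grp
  have h : (lift (1 : Over.mk t ⟶ G) (𝟙 (Over.mk t))).left = η[(Over.pullback t).obj G].left := by
    apply pullback.hom_ext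
    · refine (congrArg CommaMorphism.left (lift_fst (1 : Over.mk t ⟶ G) (𝟙 (Over.mk t)))).trans ?_
      refine Eq.trans ?_ (η_bc_fst G t).symm
      rw [Hom.one_def]
      show (toUnit (Over.mk t)).left ≫ η[G].left = _
      exact congrArg (· ≫ η[G].left) ((Category.comp_id _).symm.trans (Over.w (toUnit (Over.mk t))))
    · refine (congrArg CommaMorphism.left (lift_snd (1 : Over.mk t ⟶ G) (𝟙 (Over.mk t)))).trans ?_
      exact (Over.w η[(Over.pullback t).obj G]).symm
  exact congrArg (fun φ : Spec (CommRingCat.of K) ⟶ (G ⊗ Over.mk t).left => φ (IsLocalRing.closedPoint K)) h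

theorem mem_neutralSet_iff (g : G.left) :
    g ∈ SGA3x.neutralSet G ↔
      g ∈ connectedComponentIn (G.hom ⁻¹' {G.hom g}) (η[G].left (G.hom g)) := by
  have h : ∀ p : S, g ∈ connectedComponentIn (G.hom ⁻¹' {p}) (η[G].left p) → G.hom g = p :=
    fun p hp => connectedComponentIn_subset (G.hom ⁻¹' {p}) _ hp
  refine Set.mem_iUnion.trans ⟨fun ⟨p, hp⟩ => ?_, fun hg => ⟨G.hom g, hg⟩⟩
  have e : G.hom g = p := h p hp
  subst e
  exact hp

theorem inv_mem_neutralSet {g : G.left} (hg : g ∈ SGA3x.neutralSet G) :
    ι[G].left g ∈ SGA3x.neutralSet G := by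
  rw [mem_neutralSet_iff] at hg ⊢
  have hs : ∀ x, G.hom (ι[G].left x) = G.hom x := fun x => by
    rw [← Scheme.Hom.comp_apply, Over.w]
  have he : ι[G].left (η[G].left (G.hom g)) = η[G].left (G.hom g) := by
    rw [← Scheme.Hom.comp_apply, ← Over.comp_left, GrpObj.one_inv]
  rw [hs]
  refine (isPreconnected_connectedComponentIn.image ι[G].left
    ι[G].left.continuous.continuousOn).subset_connectedComponentIn
    (x := η[G].left (G.hom g)) ⟨_, mem_connectedComponentIn ?_, he⟩ ?_ ⟨g, hg, rfl⟩
  · show G.hom (η[G].left (G.hom g)) = G.hom g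
    rw [← Scheme.Hom.comp_apply, η_left_comp_hom]; rfl
  · rintro _ ⟨x, hx, rfl⟩
    show G.hom (ι[G].left x) = G.hom g
    rw [hs]
    exact connectedComponentIn_subset (G.hom ⁻¹' {G.hom g}) _ hx

theorem neutralSet_fibre (s : S) :
    G.hom.fiberι s ⁻¹' SGA3x.neutralSet G =
      (closure {genOne G (S.fromSpecResidueField s)} : Set (G ⊗ Over.mk (S.fromSpecResidueField s)).left) := by
  let r : Spec (CommRingCat.of (S.residueField s)) ⟶ S := S.fromSpecResidueField s
  let : GrpObj ((Over.pullback r).obj G) := ((Over.pullback r).mapGrp.obj ⟨G⟩).grp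
  have hcomp : closure {genOne G r} = (connectedComponent (pt r (1 : Over.mk r ⟶ G)) :
      Set (G ⊗ Over.mk r).left) := by
    refine (closure_genOne_eq G r).trans ?_
    rw [pt_one_eq_unitPt G r]
    exact (Groth.Agent.H63.GrpConnected.connectedComponent_unit ((Over.pullback r).obj G)).symm
  have hemb : IsEmbedding (G.hom.fiberι s) := (G.hom.fiberι s).isEmbedding
  have he : G.hom.fiberι s (pt r (1 : Over.mk r ⟶ G)) = η[G].left s := by
    refine (fst_pt_one G r).trans ?_
    erw [Scheme.fromSpecResidueField_apply]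
  ext w
  have hw : G.hom (G.hom.fiberι s w) = s := by
    have : G.hom.fiberι s w ∈ Set.range (G.hom.fiberι s) := ⟨w, rfl⟩
    rwa [Scheme.Hom.range_fiberι] at this
  show _ ↔ w ∈ (closure {genOne G r} : Set (G ⊗ Over.mk r).left)
  rw [Set.mem_preimage, mem_neutralSet_iff, hw, hcomp, ← connectedComponentIn_univ]
  have himg := connectedComponentIn_eq_image (F := G.hom ⁻¹' {s}) (x := η[G].left s)
    (show G.hom (η[G].left s) = s by rw [← Scheme.Hom.comp_apply, η_left_comp_hom]; rfl)
  rw [himg]
  let φ := G.hom.fiberHomeo s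
  constructor
  · rintro ⟨⟨v, hv⟩, hvc, hvw⟩
    rw [connectedComponentIn_univ]
    have h1 := φ.symm.continuous.image_connectedComponent_subset _ ⟨_, hvc, rfl⟩
    have e1 : φ.symm ⟨v, hv⟩ = w := hemb.injective (by rw [Scheme.Hom.fiberι_fiberHomeo_symm]; exact hvw)
    rw [e1] at h1
    have hes : η[G].left s ∈ G.hom ⁻¹' {s} := by
      show G.hom (η[G].left s) = s
      rw [← Scheme.Hom.comp_apply, η_left_comp_hom]; rfl
    have e2 : φ.symm ⟨η[G].left s, hes⟩ = (pt r (1 : Over.mk r ⟶ G) : G.hom.fiber s) :=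
      hemb.injective (by rw [Scheme.Hom.fiberι_fiberHomeo_symm]; exact he.symm)
    exact e2 ▸ h1
  · intro hwc
    rw [connectedComponentIn_univ] at hwc
    refine ⟨φ w, ?_, rfl⟩
    have h1 := φ.continuous.image_connectedComponent_subset _ ⟨w, hwc, rfl⟩
    convert h1 using 2
    exact Subtype.ext he.symm

/-- In any fibre over a field the neutral set is the closure of the generic point of the neutral component. -/
theorem preimage_neutralSet :
    (fst G (Over.mk t)).left ⁻¹' SGA3x.neutralSet G = closure {genOne G t} := by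
  obtain ⟨⟨s, φ⟩, rfl⟩ := (Scheme.SpecToEquivOfField K S).symm.surjective t
  set t := (Scheme.SpecToEquivOfField K S).symm ⟨s, φ⟩
  set t₀ : Spec (CommRingCat.of K) ⟶ Spec (S.residueField s) := Spec.map φ
  let r : Spec (CommRingCat.of (S.residueField s)) ⟶ S := S.fromSpecResidueField s
  have ht : t = t₀ ≫ r := rfl
  let : GrpObj ((Over.pullback r).obj G) := ((Over.pullback r).mapGrp.obj ⟨G⟩).grp
  let q : (G ⊗ Over.mk t).left ⟶ G.hom.fiber s :=
    pullback.lift (fst G (Over.mk t)).left ((snd G (Over.mk t)).left ≫ t₀) (by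
      rw [Category.assoc]
      exact pullback.condition)
  have hq₁ : q ≫ G.hom.fiberι s = (fst G (Over.mk t)).left := pullback.lift_fst _ _ _
  have hq : IsPullback q (snd G (Over.mk t)).left (G.hom.fiberToSpecResidueField s) t₀ := by
    refine IsPullback.of_right ?_ (pullback.lift_snd _ _ _)
      (IsPullback.of_hasPullback G.hom r)
    rw [show q ≫ pullback.fst G.hom r = (fst G (Over.mk t)).left from pullback.lift_fst _ _ _]
    exact isPullback_left G (Over.mk t)
  have hpre : (fst G (Over.mk t)).left ⁻¹' SGA3x.neutralSet G = q ⁻¹' closure {genOne G r} := by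
    rw [← hq₁, Scheme.Hom.comp_base, TopCat.coe_comp, Set.preimage_comp, neutralSet_fibre]
    rfl
  have hirr : IsIrreducible (q ⁻¹' closure {genOne G r}) := by
    have h := isIrreducible_preimage ((Over.pullback r).obj G) t₀
    rw [show comp0 ((Over.pullback r).obj G) = closure {genOne G r} by
      rw [closure_genOne_eq G r, pt_one_eq_unitPt G r]; rfl] at h
    have e : q = hq.isoPullback.hom ≫ pullback.fst _ t₀ := hq.isoPullback_hom_fst.symm
    rw [e, Scheme.Hom.comp_base, TopCat.coe_comp, Set.preimage_comp]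
    show IsIrreducible (hq.isoPullback.hom.homeomorph ⁻¹' _)
    rw [← Homeomorph.image_symm]
    exact h.image _ (Homeomorph.continuous _).continuousOn
  have h1 : pt t (1 : Over.mk t ⟶ G) ∈ (fst G (Over.mk t)).left ⁻¹' SGA3x.neutralSet G := by
    rw [Set.mem_preimage, fst_pt_one, mem_neutralSet_iff,
      show G.hom (η[G].left (t (IsLocalRing.closedPoint K))) = t (IsLocalRing.closedPoint K) by
        rw [← Scheme.Hom.comp_apply, η_left_comp_hom]; rfl]
    exact mem_connectedComponentIn (show G.hom _ = _ by rw [← Scheme.Hom.comp_apply, η_left_comp_hom]; rfl)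
  refine Set.Subset.antisymm ?_ ?_
  · rw [hpre]
    obtain ⟨c, hc⟩ := QuasiSober.sober hirr (isClosed_closure.preimage q.continuous)
    rw [← hc.def]
    refine closure_minimal (Set.singleton_subset_iff.2 ?_) isClosed_closure
    obtain ⟨c', hc', hsp⟩ := exists_isMaxPt (G ⊗ Over.mk t).left c
    rw [← specializes_iff_mem_closure]
    rwa [maxPt_unique G t (isMaxPt_genOne G t) hc' (genOne_specializes G t)
      (hsp.trans (hc.specializes (hpre ▸ h1)))]
  · have hgen : genOne G t ∈ (fst G (Over.mk t)).left ⁻¹' SGA3x.neutralSet G := by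
      rw [Set.mem_preimage, mem_neutralSet_iff]
      have hs : ∀ w : (G ⊗ Over.mk t).left, G.hom ((fst G (Over.mk t)).left w) = t (IsLocalRing.closedPoint K) := fun w => by
        rw [← Scheme.Hom.comp_apply, Over.w, ← Over.w (snd G (Over.mk t)), Scheme.Hom.comp_apply]
        exact congrArg t (Subsingleton.elim (α := Spec (CommRingCat.of K)) _ _)
      rw [hs]
      refine (isIrreducible_singleton.closure.isPreirreducible.isPreconnected.image _
        (fst G (Over.mk t)).left.continuous.continuousOn).subset_connectedComponentIn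
        ⟨_, (genOne_specializes G t).mem_closure, fst_pt_one G t⟩ ?_
        ⟨_, subset_closure (Set.mem_singleton _), rfl⟩
      rintro _ ⟨w, -, rfl⟩
      exact hs w
    rw [hpre] at hgen ⊢
    exact closure_minimal (Set.singleton_subset_iff.2 hgen) (isClosed_closure.preimage q.continuous)

variable [LocallyOfFiniteType G.hom]

theorem isOpen_closure_genOne : IsOpen (closure {genOne G t}) := by
  let H := (Over.pullback t).obj G
  let : GrpObj H := ((Over.pullback t).mapGrp.obj ⟨G⟩).grp
  have : LocallyOfFiniteType H.hom := inferInstanceAs (LocallyOfFiniteType (pullback.snd G.hom t))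
  have : IsLocallyNoetherian H.left := LocallyOfFiniteType.isLocallyNoetherian H.hom
  have : LocallyConnectedSpace H.left :=
    Groth.Agent.Lib.FinCond.locallyConnectedSpace_of_locally_noetherian fun x =>
      Groth.Agent.Lib.FinCond.locally_noetherian H.left x
  rw [closure_genOne_eq, pt_one_eq_unitPt]
  show IsOpen (comp0 H)
  rw [← Groth.Agent.H63.GrpConnected.connectedComponent_unit H]
  exact isOpen_connectedComponent

theorem localDim_pt_one :
    FlatMor.localDim ↥(G ⊗ Over.mk t).left (pt t (1 : Over.mk t ⟶ G)) =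
      topologicalKrullDim ↥(closure {genOne G t}) := by
  let π : (G ⊗ Over.mk t).left ⟶ Spec (CommRingCat.of K) := (snd G (Over.mk t)).left
  have : LocallyOfFiniteType π := snd_left_of (P := @LocallyOfFiniteType) _ ‹_›
  refine le_antisymm (iInf_le_of_le ⟨⟨_, isOpen_closure_genOne G t⟩, (genOne_specializes G t).mem_closure⟩ le_rfl)
    (le_iInf fun U => ?_)
  rw [Groth.Agent.Lib.VarDim.Basic.topologicalKrullDim_isGenericPoint π (ξ := genOne G t)
    (show IsGenericPoint (genOne G t) (closure {genOne G t}) from isGenericPoint_closure)]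
  exact Groth.Agent.Lib.VarDim.Basic.pdim_le_topologicalKrullDim π U.1.2.isLocallyClosed
    ((genOne_specializes G t).mem_open U.1.2 U.2)

theorem topologicalKrullDim_eq_localDim_pt_one [IsAlgClosed K] :
    topologicalKrullDim ↥(G ⊗ Over.mk t).left =
      FlatMor.localDim ↥(G ⊗ Over.mk t).left (pt t (1 : Over.mk t ⟶ G)) := by
  refine le_antisymm (topologicalKrullDim_le_of_forall fun z => ?_) (localDim_le_topologicalKrullDim _)
  obtain ⟨ξ, hξ, hz⟩ := exists_isMaxPt (G ⊗ Over.mk t).left z
  obtain ⟨g, hg⟩ := exists_pt_specializes t ξ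
  have h1 := (genOne_specializes G t).map (mulR g).left.continuous
  rw [mulR_pt, _root_.one_mul] at h1
  let e := ((Over.forget S).mapIso (mulRIso (T := Over.mk t) g)).hom.homeomorph
  have e1 : e (genOne G t) = ξ := maxPt_unique G t (isMaxPt_mulR t g (isMaxPt_genOne G t)) hξ h1 hg
  have e2 : e '' closure {genOne G t} = closure {ξ} := by
    rw [← e1, e.image_closure]
    congr 1
    exact Set.image_singleton
  rw [localDim_pt_one]
  refine le_trans (iInf_le_of_le ⟨⟨e '' closure {genOne G t}, e.isOpenMap _ (isOpen_closure_genOne G t)⟩,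
    show z ∈ e '' closure {genOne G t} by rw [e2]; exact hz.mem_closure⟩ le_rfl) ?_
  exact (IsHomeomorph.topologicalKrullDim_eq _ (e.image (closure {genOne G t})).isHomeomorph).ge

/-- The local dimension at the unit in any fibre over a field is the dimension of the fibre. -/
theorem localDim_pt_one_eq_fibre :
    FlatMor.localDim ↥(G ⊗ Over.mk t).left (pt t (1 : Over.mk t ⟶ G)) =
      topologicalKrullDim ↥(G.hom ⁻¹' {t (IsLocalRing.closedPoint K)}) := by
  let Kb := AlgebraicClosure K
  let b : Spec (CommRingCat.of Kb) ⟶ Spec (CommRingCat.of K) := Spec.map (CommRingCat.ofHom (algebraMap K Kb))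
  let t' := b ≫ t
  let πb : (Over.mk t' : Over S) ⟶ Over.mk t := Over.homMk b rfl
  have hsq : IsPullback (G ◁ πb).left (snd G (Over.mk t')).left (snd G (Over.mk t)).left b :=
    isPullback_whiskerLeft G πb
  have : LocallyOfFiniteType (snd G (Over.mk t)).left := snd_left_of (P := @LocallyOfFiniteType) _ ‹_›
  have h1 : (G ◁ πb).left (pt t' (1 : Over.mk t' ⟶ G)) = pt t (1 : Over.mk t ⟶ G) := by
    rw [pt, ← Scheme.Hom.comp_apply, ← Over.comp_left,
      show lift (1 : Over.mk t' ⟶ G) (𝟙 _) ≫ (G ◁ πb) = πb ≫ lift (1 : Over.mk t ⟶ G) (𝟙 _) by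
        ext1 <;> simp [MonObj.comp_one], Over.comp_left, Scheme.Hom.comp_apply]
    exact congrArg (lift (1 : Over.mk t ⟶ G) (𝟙 _)).left (Subsingleton.elim (α := Spec (CommRingCat.of K)) _ _)
  rw [← h1, ← Groth.Agent.H56.DimBaseChange.localDim_baseChange b (snd G (Over.mk t)).left _ _ hsq,
    ← topologicalKrullDim_eq_localDim_pt_one]
  obtain ⟨⟨s, φ⟩, ht⟩ := (Scheme.SpecToEquivOfField K S).symm.surjective t
  subst ht
  have hs : ((Scheme.SpecToEquivOfField K S).symm ⟨s, φ⟩) (IsLocalRing.closedPoint K) = s :=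
    (Scheme.Hom.comp_apply _ _ _).trans (Scheme.fromSpecResidueField_apply _ _)
  rw [hs, ← topologicalKrullDim_fiber]
  let q : (G ⊗ Over.mk t').left ⟶ G.hom.fiber s :=
    pullback.lift (fst G (Over.mk t')).left ((snd G (Over.mk t')).left ≫ b ≫ Spec.map φ) (by
      simp only [Category.assoc]
      exact pullback.condition)
  have : LocallyOfFiniteType (X := G.hom.fiber s) (Y := Spec (CommRingCat.of (S.residueField s)))
      (G.hom.fiberToSpecResidueField s) :=
    inferInstanceAs (LocallyOfFiniteType (pullback.snd G.hom (S.fromSpecResidueField s)))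
  refine Groth.Agent.H56.DimBaseChange.topologicalKrullDim_baseChange (k := S.residueField s) (b ≫ Spec.map φ)
    (G.hom.fiberToSpecResidueField s) (snd G (Over.mk t')).left q ?_
  refine IsPullback.of_right ?_ (pullback.lift_snd _ _ _)
    (IsPullback.of_hasPullback G.hom (S.fromSpecResidueField s))
  rw [show q ≫ pullback.fst G.hom (S.fromSpecResidueField s) = (fst G (Over.mk t')).left from pullback.lift_fst _ _ _,
    Category.assoc]
  exact isPullback_left G (Over.mk t')

/-- A closed subset contains the neutral component as soon as it has full dimension at the unit. -/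
theorem genOne_mem_iff {Z : Set (G ⊗ Over.mk t).left} (hZ : IsClosed Z) :
    genOne G t ∈ Z ↔ ∃ h : pt t (1 : Over.mk t ⟶ G) ∈ Z,
      topologicalKrullDim ↥(G.hom ⁻¹' {t (IsLocalRing.closedPoint K)}) ≤ FlatMor.localDim Z ⟨_, h⟩ := by
  let π : (G ⊗ Over.mk t).left ⟶ Spec (CommRingCat.of K) := (snd G (Over.mk t)).left
  have : LocallyOfFiniteType π := snd_left_of (P := @LocallyOfFiniteType) _ ‹_›
  rw [← localDim_pt_one_eq_fibre G t]
  constructor
  · intro hg
    have hsub : closure {genOne G t} ⊆ Z := closure_minimal (Set.singleton_subset_iff.2 hg) hZ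
    have h : pt t (1 : Over.mk t ⟶ G) ∈ Z := hsub (genOne_specializes G t).mem_closure
    refine ⟨h, le_iInf fun U => ?_⟩
    obtain ⟨O, hO, hOU⟩ := isOpen_induced_iff.1 U.1.2
    let C : Set (G ⊗ Over.mk t).left := O ∩ closure {genOne G t}
    refine iInf_le_of_le ⟨⟨C, hO.inter (isOpen_closure_genOne G t)⟩, ?_, (genOne_specializes G t).mem_closure⟩ ?_
    · exact (Set.ext_iff.1 hOU ⟨_, h⟩).2 U.2
    · let i : C → (U.1 : Set Z) := fun c => ⟨⟨c.1, hsub c.2.2⟩, (Set.ext_iff.1 hOU ⟨c.1, hsub c.2.2⟩).1 c.2.1⟩
      have hi : IsInducing i :=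
        IsInducing.subtypeVal.of_comp_iff.1 (IsInducing.subtypeVal.of_comp_iff.1 IsInducing.subtypeVal)
      exact hi.topologicalKrullDim_le
  · rintro ⟨h, hle⟩
    by_contra hg
    rw [localDim_pt_one, Groth.Agent.Lib.VarDim.Basic.topologicalKrullDim_isGenericPoint π (ξ := genOne G t)
      (show IsGenericPoint (genOne G t) (closure {genOne G t}) from isGenericPoint_closure)] at hle
    let T : Set (G ⊗ Over.mk t).left := Z ∩ closure {genOne G t}
    have hT : IsLocallyClosed T := (hZ.inter isClosed_closure).isLocallyClosed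
    have hlt : ∀ y ∈ T, Groth.Agent.Lib.VarDim.Basic.pdim π y < Groth.Agent.Lib.VarDim.Basic.pdim π (genOne G t) :=
      fun y hy => Groth.Agent.Lib.VarDim.Basic.pdim_lt π (specializes_iff_mem_closure.2 hy.2)
        (fun e => hg (e ▸ hy.1))
    have hpos := hlt _ ⟨h, (genOne_specializes G t).mem_closure⟩
    have h2 : topologicalKrullDim ↥T ≤
        ((Groth.Agent.Lib.VarDim.Basic.pdim π (genOne G t) - 1 : ℕ) : WithBot ℕ∞) :=
      (Groth.Agent.Lib.VarDim.Basic.topologicalKrullDim_le_iff π hT _).2 fun y hy => by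
        exact_mod_cast Nat.le_sub_one_of_lt (hlt y hy)
    have h3 : FlatMor.localDim Z ⟨_, h⟩ ≤ topologicalKrullDim ↥T := by
      refine iInf_le_of_le ⟨⟨Subtype.val ⁻¹' closure {genOne G t},
        (isOpen_closure_genOne G t).preimage continuous_subtype_val⟩, (genOne_specializes G t).mem_closure⟩ ?_
      let i : (Subtype.val ⁻¹' closure {genOne G t} : Set Z) → T := fun c => ⟨c.1.1, c.1.2, c.2⟩
      have hi : IsInducing i :=
        IsInducing.subtypeVal.of_comp_iff.1
          (IsInducing.comp (g := Subtype.val) IsInducing.subtypeVal (f := Subtype.val) IsInducing.subtypeVal)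
      exact hi.topologicalKrullDim_le
    have h4 := (hle.trans h3).trans h2
    norm_cast at h4
    omega

end Groth.Agent.Lib.ActSep
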