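import Groth.Prelude.Def_Red
import Groth.Agent.Lib.ActSep.Neutral

/-!
The neutral set commutes with base change.
-/

universe u

open CategoryTheory Limits MonoidalCategory CartesianMonoidalCategory MonObj AlgebraicGeometry

namespace Groth.Agent.Lib.ActSep

open Groth.Agent.Lib.GrpSch Groth.Agent.Lib.ActSep.MaxPt

theorem neutralSet_bc {S S' : Scheme.{u}} (f : S' ⟶ S) (G : Over S) [GrpObj G] :
    SGA3x.neutralSet (Red.bc f G) = (pullback.fst G.hom f) ⁻¹' SGA3x.neutralSet G := by
  let G' := Red.bc f G
  ext w
  let s' := G'.hom w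
  let t' : Spec (CommRingCat.of (S'.residueField s')) ⟶ S' := S'.fromSpecResidueField s'
  let T' := Over.mk t'
  let t := t' ≫ f
  let T := Over.mk t
  let e₀ : (G' ⊗ T').left ⟶ (G ⊗ T).left :=
    pullback.lift ((fst G' T').left ≫ pullback.fst G.hom f) (snd G' T').left (by
      show ((fst G' T').left ≫ pullback.fst G.hom f) ≫ G.hom = (snd G' T').left ≫ t' ≫ f
      rw [Category.assoc, pullback.condition, ← Category.assoc, ← Category.assoc]
      congr 1
      exact pullback.condition)
  have he₁ : e₀ ≫ (fst G T).left = (fst G' T').left ≫ pullback.fst G.hom f := pullback.lift_fst _ _ _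
  have hiso : IsPullback e₀ (snd G' T').left (snd G T).left (𝟙 _) := by
    refine IsPullback.of_right ?_ ?_ (isPullback_left G T)
    · rw [he₁, Category.id_comp]
      exact (isPullback_left G' T').paste_horiz (IsPullback.of_hasPullback G.hom f)
    · exact (pullback.lift_snd _ _ _).trans (Category.comp_id _).symm
  have : IsIso e₀ := MorphismProperty.of_isPullback (P := MorphismProperty.isomorphisms Scheme.{u})
    hiso.flip (inferInstanceAs (IsIso (𝟙 _)))
  let e := e₀.homeomorph
  have hone : e (pt t' (1 : T' ⟶ G')) = pt t (1 : T ⟶ G) := by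
    have h : (lift (1 : T' ⟶ G') (𝟙 T')).left ≫ e₀ = (lift (1 : T ⟶ G) (𝟙 T)).left := by
      apply pullback.hom_ext
      · rw [Category.assoc]
        refine Eq.trans (congrArg ((lift (1 : T' ⟶ G') (𝟙 T')).left ≫ ·) he₁) ?_
        rw [← Category.assoc, ← Over.comp_left, lift_fst, Hom.one_def]
        show ((toUnit T').left ≫ η[G'].left) ≫ pullback.fst G.hom f = _
        rw [Category.assoc]
        erw [η_bc_fst G f]
        refine Eq.trans ?_ (congrArg CommaMorphism.left (lift_fst (1 : T ⟶ G) (𝟙 T))).symm
        rw [Hom.one_def]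
        show _ = (toUnit T).left ≫ η[G].left
        rw [← Category.assoc]
        congr 1
      · rw [Category.assoc]
        refine Eq.trans (congrArg ((lift (1 : T' ⟶ G') (𝟙 T')).left ≫ ·) (pullback.lift_snd _ _ _)) ?_
        exact (congrArg CommaMorphism.left (lift_snd (1 : T' ⟶ G') (𝟙 T'))).trans
          (congrArg CommaMorphism.left (lift_snd (1 : T ⟶ G) (𝟙 T))).symm
    exact congrArg (fun φ : Spec (CommRingCat.of (S'.residueField s')) ⟶ (G ⊗ T).left =>
      φ (IsLocalRing.closedPoint _)) h
  have hgen : e (genOne G' t') = genOne G t :=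
    maxPt_unique G t (isMaxPt_homeo e (isMaxPt_genOne G' t')) (isMaxPt_genOne G t)
      (hone ▸ (genOne_specializes G' t').map e.continuous) (genOne_specializes G t)
  have hC : ∀ z, z ∈ closure {genOne G' t'} ↔ e z ∈ closure {genOne G t} := fun z => by
    rw [← specializes_iff_mem_closure, ← specializes_iff_mem_closure, ← hgen]
    exact ⟨fun h => h.map e.continuous, fun h => e.isInducing.specializes_iff.1 h⟩
  obtain ⟨z, hz⟩ : w ∈ Set.range (fst G' T').left := by
    obtain ⟨v⟩ : Nonempty ↥(Spec (CommRingCat.of (S'.residueField s'))) := inferInstance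
    obtain ⟨c, hc, -⟩ := Scheme.Pullback.exists_preimage_pullback (f := G'.hom) (g := t') w v
      (Scheme.fromSpecResidueField_apply s' v).symm
    exact ⟨c, hc⟩
  have h1 : z ∈ (fst G' T').left ⁻¹' SGA3x.neutralSet G' ↔ z ∈ closure {genOne G' t'} := by
    rw [preimage_neutralSet G' t']
  have h2 : e z ∈ (fst G T).left ⁻¹' SGA3x.neutralSet G ↔ e z ∈ closure {genOne G t} := by
    rw [preimage_neutralSet G t]
  have h3 : (fst G T).left (e z) = pullback.fst G.hom f w := by
    show (fst G T).left (e₀ z) = _
    rw [← Scheme.Hom.comp_apply, he₁, Scheme.Hom.comp_apply, hz]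
  rw [Set.mem_preimage, h3] at h2
  rw [Set.mem_preimage, hz] at h1
  exact h1.trans ((hC z).trans h2.symm)

end Groth.Agent.Lib.ActSep
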