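import Groth.Agent.Lib.ActSep.NeutralCons
import Groth.Agent.Lib.ActSep.NeutralBC
import Groth.Agent.Lib.ActSep.SubgroupClosed
import Groth.Agent.Lib.ActSep.FlatTransl
import Groth.Agent.Lib.ActSep.HomogFlat
import Groth.Agent.Lib.ModelFibre.MaxPoint
import Groth.Agent.Lib.Flat55.FibreTransfer
import Groth.Agent.Lib.GrpSch.GenericIso

/-!
Homomorphisms of group schemes and unions of neutral components of the fibres.
-/

set_option autoImplicit false
set_option backward.isDefEq.respectTransparency false
set_option backward.isDefEq.respectTransparency.types false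

universe u

open CategoryTheory Limits MonoidalCategory CartesianMonoidalCategory MonObj AlgebraicGeometry Topology

namespace Groth.Agent.Lib.ActSep

open Groth.Agent.Lib.GrpSch Groth.Agent.Lib.ActSep.MaxPt

variable {S : Scheme.{u}} {G H : Over S} [GrpObj G] [GrpObj H] (u : G ⟶ H) [IsMonHom u]

theorem hom_left_η (s : S) : u.left (η[G].left s) = η[H].left s := by
  rw [← Scheme.Hom.comp_apply, ← Over.comp_left, IsMonHom.one_hom]

/-- A point of the product lying over two given points can be lifted along a homomorphism. -/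
theorem exists_lift_pair (z : ↥(H ⊗ H).left) (a b : G.left) (ha : u.left a = (fst H H).left z)
    (hb : u.left b = (snd H H).left z) : ∃ v : ↥(G ⊗ G).left,
      (fst G G).left v = a ∧ (snd G G).left v = b ∧ (u ⊗ₘ u).left v = z := by
  obtain ⟨w, hw, hwa⟩ := Scheme.exists_preimage_of_isPullback (isPullback_whiskerRight u H) z a ha.symm
  have hwb : (snd G H).left w = u.left b := by
    rw [← whiskerRight_snd u H, Over.comp_left, Scheme.Hom.comp_apply, show (u ▷ H).left w = z from hw]
    exact hb.symm
  obtain ⟨v, hv, hvb⟩ := Scheme.exists_preimage_of_isPullback (isPullback_whiskerLeft G u) w b hwb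
  refine ⟨v, ?_, hvb, ?_⟩
  · rw [← whiskerLeft_fst G u, Over.comp_left, Scheme.Hom.comp_apply, show (G ◁ u).left v = w from hv]
    exact hwa
  · rw [tensorHom_def', Over.comp_left, Scheme.Hom.comp_apply, show (G ◁ u).left v = w from hv]
    exact hw

/-- Multiplication preserves the neutral set. -/
theorem mul_mem_neutralSet {z : (G ⊗ G).left} (h1 : (fst G G).left z ∈ SGA3x.neutralSet G)
    (h2 : (snd G G).left z ∈ SGA3x.neutralSet G) : μ[G].left z ∈ SGA3x.neutralSet G := by
  let Φ : G ⊗ G ⟶ G ⊗ G := lift (fst G G) (snd G G)⁻¹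
  have hΦ : Φ ≫ divMap G = μ[G] := by
    simp [Φ, divMap, MonObj.comp_mul, GrpObj.comp_inv, ← Hom.mul_def, mul_eq_mul]
  have e1 : (fst G G).left (Φ.left z) = (fst G G).left z := by
    rw [← Scheme.Hom.comp_apply, ← Over.comp_left, lift_fst]
  have e2 : (snd G G).left (Φ.left z) = ι[G].left ((snd G G).left z) := by
    rw [← Scheme.Hom.comp_apply, ← Scheme.Hom.comp_apply, ← Over.comp_left, lift_snd, ← Over.comp_left,
      Hom.inv_def]
  have h := divMap_mem G (z := Φ.left z) (e1 ▸ h1) (e2 ▸ inv_mem_neutralSet G h2)
  rwa [← Scheme.Hom.comp_apply, ← Over.comp_left, hΦ] at h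

section Field

variable {k : Type u} [Field k] {G H : Over (Spec (CommRingCat.of k))} [GrpObj G] [GrpObj H] (u : G ⟶ H) [IsMonHom u]

theorem neutralSet_field_eq (G : Over (Spec (CommRingCat.of k))) [GrpObj G] :
    SGA3x.neutralSet G = connectedComponent (η[G].left (IsLocalRing.closedPoint k)) := by
  have : Subsingleton ↥(Spec (CommRingCat.of k)) := inferInstanceAs (Subsingleton (PrimeSpectrum k))
  ext g
  rw [mem_neutralSet_iff, Subsingleton.elim (G.hom g) (IsLocalRing.closedPoint k),
    Set.eq_univ_of_forall (s := G.hom ⁻¹' {IsLocalRing.closedPoint k}) fun x => Subsingleton.elim _ _,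
    connectedComponentIn_univ]

theorem isOpen_neutralSet_field [LocallyOfFiniteType G.hom] : IsOpen (SGA3x.neutralSet G) := by
  have : IsLocallyNoetherian G.left := LocallyOfFiniteType.isLocallyNoetherian G.hom
  have : LocallyConnectedSpace G.left :=
    Groth.Agent.Lib.FinCond.locallyConnectedSpace_of_locally_noetherian fun x =>
      Groth.Agent.Lib.FinCond.locally_noetherian G.left x
  rw [neutralSet_field_eq]
  exact isOpen_connectedComponent

theorem image_neutralSet_of_isOpenMap [LocallyOfFiniteType G.hom] (hu : IsOpenMap u.left) :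
    u.left '' SGA3x.neutralSet G = SGA3x.neutralSet H := by
  have : Subsingleton ↥(Spec (CommRingCat.of k)) := inferInstanceAs (Subsingleton (PrimeSpectrum k))
  set e := IsLocalRing.closedPoint k
  have hopen : IsOpen (u.left '' SGA3x.neutralSet G) := hu _ isOpen_neutralSet_field
  have hmem : η[H].left e ∈ u.left '' SGA3x.neutralSet G :=
    ⟨η[G].left e, η_mem_neutralSet G e, hom_left_η u e⟩
  have hclosed : IsClosed (u.left '' SGA3x.neutralSet G) := by
    refine isClosed_of_mulStable hopen.isLocallyClosed ⟨_, hmem⟩ ?_ ?_ fun K _ r => universallyOpen_fieldPoint k K r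
    · rintro z ⟨a, ha, ha'⟩ ⟨b, hb, hb'⟩
      obtain ⟨v, hva, hvb, hv⟩ := exists_lift_pair u z a b ha' hb'
      refine ⟨μ[G].left v, mul_mem_neutralSet (hva ▸ ha) (hvb ▸ hb), ?_⟩
      rw [← hv, ← Scheme.Hom.comp_apply, ← Scheme.Hom.comp_apply, ← Over.comp_left, ← Over.comp_left,
        IsMonHom.mul_hom]
    · rintro _ ⟨a, ha, rfl⟩
      refine ⟨ι[G].left a, inv_mem_neutralSet G ha, ?_⟩
      rw [← Scheme.Hom.comp_apply, ← Scheme.Hom.comp_apply, ← Over.comp_left, ← Over.comp_left, GrpObj.inv_hom u]
  rw [neutralSet_field_eq H]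
  refine Set.Subset.antisymm ?_ (IsClopen.connectedComponent_subset ⟨hclosed, hopen⟩ hmem)
  refine _root_.IsPreconnected.subset_connectedComponent ?_ hmem
  rw [neutralSet_field_eq]
  exact isPreconnected_connectedComponent.image _ u.left.continuous.continuousOn

/-- A homomorphism to a reduced group whose image contains the neutral component is flat. -/
theorem flat_of_neutralSet_subset_range [LocallyOfFiniteType G.hom] [IsReduced H.left]
    (h : SGA3x.neutralSet H ⊆ Set.range u.left) : Flat u.left := by
  have : Subsingleton ↥(Spec (CommRingCat.of k)) := inferInstanceAs (Subsingleton (PrimeSpectrum k))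
  obtain ⟨ξ, hξ, hspec⟩ := exists_isMaxPt H.left (η[H].left (IsLocalRing.closedPoint k))
  obtain ⟨g, hg⟩ := h ((mem_neutralSet_iff_of_specializes H hspec (Subsingleton.elim _ _)).2 (η_mem_neutralSet H _))
  have : Flat G.hom := Groth.Agent.Lib.GrpSch.flat_of_isField (R := CommRingCat.of k) (Field.toIsField k) G.hom
  refine flat_of_flat_at_point u (fun T g => exists_iso_hom u T g) g ?_
  have hF : IsField (H.left.presheaf.stalk (u.left g)) := by
    rw [hg]; exact ModelFibre.MaxPoint.isField_stalk hξ
  let : Field (H.left.presheaf.stalk (u.left g)) := hF.toField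
  let := (u.left.stalkMap g).hom.toAlgebra
  show Module.Flat (H.left.presheaf.stalk (u.left g)) (G.left.presheaf.stalk g)
  infer_instance

end Field

section Fibres

theorem map_fst_apply (r : S) (z : ↥((Over.pullback (S.fromSpecResidueField r)).obj G).left) :
    (H.hom.fiberι r) (((Over.pullback (S.fromSpecResidueField r)).map u).left z) =
      u.left ((G.hom.fiberι r) z) :=
  congrArg (fun φ : _ ⟶ H.left => φ z) (isPullback_map u (S.fromSpecResidueField r)).w.symm

/-- Images of neutral sets can be computed on the fibres. -/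
theorem image_neutralSet_of_fibres [LocallyOfFiniteType G.hom]
    (hu : ∀ s : S, IsOpenMap ((Over.pullback (S.fromSpecResidueField s)).map u).left) :
    u.left '' SGA3x.neutralSet G = SGA3x.neutralSet H := by
  have key : ∀ s : S, ((Over.pullback (S.fromSpecResidueField s)).map u).left ''
      (G.hom.fiberι s ⁻¹' SGA3x.neutralSet G) = H.hom.fiberι s ⁻¹' SGA3x.neutralSet H := by
    intro s
    let r := S.fromSpecResidueField s
    have : LocallyOfFiniteType (Red.bc r G).hom :=
      MorphismProperty.pullback_snd (P := @LocallyOfFiniteType) _ _ ‹_›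
    have := image_neutralSet_of_isOpenMap (k := S.residueField s) (G := Red.bc r G) (H := Red.bc r H)
      ((Over.pullback r).map u) (hu s)
    rwa [neutralSet_bc, neutralSet_bc] at this
  ext h
  constructor
  · rintro ⟨g, hg, rfl⟩
    obtain ⟨s, z, rfl⟩ : ∃ (s : S) (z : ↥(G.hom.fiber s)), G.hom.fiberι s z = g :=
      ⟨G.hom g, G.hom.asFiber g, G.hom.fiberι_asFiber g⟩
    rw [← map_fst_apply]
    exact (key _).le ⟨z, hg, rfl⟩
  · intro hh
    obtain ⟨s, w, rfl⟩ : ∃ (s : S) (w : ↥(H.hom.fiber s)), H.hom.fiberι s w = h :=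
      ⟨H.hom h, H.hom.asFiber h, H.hom.fiberι_asFiber h⟩
    obtain ⟨z, hz, e⟩ := (key _).ge hh
    exact ⟨_, hz, by rw [← map_fst_apply, e]⟩

/-- The maps of fibres of a flat homomorphism locally of finite presentation are open. -/
theorem isOpenMap_map [Flat u.left] [LocallyOfFinitePresentation u.left] (s : S) :
    IsOpenMap ((Over.pullback (S.fromSpecResidueField s)).map u).left := by
  have h := isPullback_map u (S.fromSpecResidueField s)
  have : Flat ((Over.pullback (S.fromSpecResidueField s)).map u).left :=
    MorphismProperty.of_isPullback h ‹Flat u.left›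
  have : LocallyOfFinitePresentation ((Over.pullback (S.fromSpecResidueField s)).map u).left :=
    MorphismProperty.of_isPullback h ‹LocallyOfFinitePresentation u.left›
  exact ((Over.pullback (S.fromSpecResidueField s)).map u).left.isOpenMap

/-- Flatness from flatness of the maps of fibres. -/
theorem flat_of_map [LocallyOfFinitePresentation G.hom] [LocallyOfFiniteType H.hom] [Flat G.hom]
    (hf : ∀ s : S, Flat ((Over.pullback (S.fromSpecResidueField s)).map u).left) : Flat u.left := by
  refine Flat55.FibreTransfer.flat u.left H.hom (Over.w u) fun s => ?_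
  show Flat (pullback.snd u.left (pullback.fst H.hom (S.fromSpecResidueField s)))
  rw [← (isPullback_map u (S.fromSpecResidueField s)).isoPullback_inv_snd]
  have := hf s
  infer_instance

end Fibres

end Groth.Agent.Lib.ActSep
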