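import Groth.Agent.Lib.ActSep.HomogX
import Groth.Agent.Lib.ActSep.NeutralHom

/-!
Saturation of opens by the neutral component of a group acting on a homogeneous space.
-/

set_option autoImplicit false
set_option backward.isDefEq.respectTransparency false
set_option backward.isDefEq.respectTransparency.types false

universe u

open CategoryTheory Limits MonoidalCategory CartesianMonoidalCategory MonObj AlgebraicGeometry Topology

namespace Groth.Agent.Lib.ActSep.HomogX

open Groth.Agent.Lib.GrpSch Groth.Agent.Lib.ActSep.MaxPt Groth.Agent.H63.GrpIrred Groth.Agent.H63.GrpComponent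
open Groth.Agent.H63.GrpConnected (compObj compHom compIncl range_compIncl compactSpace_compScheme inv_mem mul_mem)

variable {k : Type u} [Field k] {G X : Over (Spec (CommRingCat.of k))} [GrpObj G] (a : AlgGrp.Action G X)
  (hΦ : Surjective (lift a.act (snd G X)).left)

/-- The translates of a set by the neutral component. -/
def satX (W : Set X.left) : Set X.left :=
  a.act.left '' {q : (G ⊗ X).left | (fst G X).left q ∈ comp0 G ∧ (snd G X).left q ∈ W}

theorem flip_mem {q : (G ⊗ X).left} (hq : (fst G X).left q ∈ comp0 G) :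
    (fst G X).left ((flipPair a).left q) ∈ comp0 G ∧ (snd G X).left ((flipPair a).left q) = a.act.left q ∧
      a.act.left ((flipPair a).left q) = (snd G X).left q := by
  refine ⟨?_, ?_, ?_⟩
  · rw [← Scheme.Hom.comp_apply, ← Over.comp_left, flipPair, lift_fst, Hom.inv_def, Over.comp_left,
      Scheme.Hom.comp_apply]
    exact inv_mem G hq
  · rw [← Scheme.Hom.comp_apply, ← Over.comp_left, flipPair_snd]
  · rw [← Scheme.Hom.comp_apply, ← Over.comp_left, flipPair_act]

include hΦ

theorem satX_eq {W : Set X.left} (hW : IsOpen W) : satX a W = {y | genX y ∈ W} := by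
  ext y
  constructor
  · rintro ⟨q, ⟨hq, hqW⟩, rfl⟩
    show genX _ ∈ W
    rw [genX_act a hΦ hq]
    exact (genX_specializes _).mem_open hW hqW
  · intro hy
    obtain ⟨q, hq, rfl, e⟩ := exists_act_eq_genX a hΦ y
    obtain ⟨h1, h2, h3⟩ := flip_mem a hq
    exact ⟨_, ⟨h1, by rw [h2, e]; exact hy⟩, h3⟩

theorem subset_satX {W : Set X.left} (hW : IsOpen W) : W ⊆ satX a W := fun y hy => by
  rw [satX_eq a hΦ hW]
  exact (genX_specializes y).mem_open hW hy

omit hΦ

/-- The shear automorphism of the product of the neutral component and the space. -/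
noncomputable def compShear : compObj G ⊗ X ≅ compObj G ⊗ X where
  hom := lift (fst _ X) (lift (fst _ X ≫ compHom G) (snd _ X) ≫ a.act)
  inv := lift (fst _ X) (lift (fst _ X ≫ compHom G)⁻¹ (snd _ X) ≫ a.act)
  hom_inv_id := CartesianMonoidalCategory.hom_ext _ _ (by simp)
    (by simp [comp_lift_assoc, GrpObj.comp_inv, ← act_mul])
  inv_hom_id := CartesianMonoidalCategory.hom_ext _ _ (by simp)
    (by simp [comp_lift_assoc, GrpObj.comp_inv, ← act_mul])

theorem compShear_snd : (compShear a).hom ≫ snd _ X = (compHom G ▷ X) ≫ a.act := by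
  rw [compShear, lift_snd]
  congr 1

theorem satX_eq_image (W : Set X.left) :
    satX a W = ((compHom G ▷ X) ≫ a.act).left '' ((snd (compObj G) X).left ⁻¹' W) := by
  ext y
  constructor
  · rintro ⟨q, ⟨hq, hqW⟩, rfl⟩
    rw [← range_compIncl G] at hq
    obtain ⟨c, hc⟩ := hq
    obtain ⟨v, hv, -⟩ := Scheme.exists_preimage_of_isPullback (isPullback_whiskerRight (compHom G) X) q c hc.symm
    refine ⟨v, ?_, ?_⟩
    · show (snd (compObj G) X).left v ∈ W
      rw [← whiskerRight_snd (compHom G) X, Over.comp_left, Scheme.Hom.comp_apply,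
        show (compHom G ▷ X).left v = q from hv]
      exact hqW
    · rw [Over.comp_left, Scheme.Hom.comp_apply, show (compHom G ▷ X).left v = q from hv]
  · rintro ⟨v, hv, rfl⟩
    refine ⟨(compHom G ▷ X).left v, ⟨?_, ?_⟩, ?_⟩
    · rw [← Scheme.Hom.comp_apply, ← Over.comp_left, whiskerRight_fst, Over.comp_left, Scheme.Hom.comp_apply,
        ← range_compIncl G]
      exact ⟨_, rfl⟩
    · show (snd G X).left _ ∈ W
      rw [← Scheme.Hom.comp_apply, ← Over.comp_left, whiskerRight_snd]
      exact hv
    · rw [Over.comp_left, Scheme.Hom.comp_apply]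

theorem universallyOpen_compAct : UniversallyOpen ((compHom G ▷ X) ≫ a.act).left := by
  rw [← compShear_snd, Over.comp_left]
  have : IsIso (compShear a).hom.left := inferInstanceAs (IsIso ((Over.forget _).mapIso (compShear a)).hom)
  have : UniversallyOpen (snd (compObj G) X).left := snd_left_of X inferInstance
  infer_instance

theorem quasiCompact_compAct : QuasiCompact ((compHom G ▷ X) ≫ a.act).left ∧
    QuasiCompact (snd (compObj G) X).left := by
  have := compactSpace_compScheme G
  have : QuasiCompact (compObj G).hom :=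
    (HasAffineProperty.iff_of_isAffine (P := @QuasiCompact)).2 ‹CompactSpace ↥(compObj G).left›
  have h : QuasiCompact (snd (compObj G) X).left := snd_left_of (P := @QuasiCompact) X ‹_›
  refine ⟨?_, h⟩
  rw [← compShear_snd, Over.comp_left]
  have : IsIso (compShear a).hom.left := inferInstanceAs (IsIso ((Over.forget _).mapIso (compShear a)).hom)
  infer_instance

theorem isOpen_satX {W : Set X.left} (hW : IsOpen W) : IsOpen (satX a W) := by
  rw [satX_eq_image]
  have := universallyOpen_compAct a
  exact ((compHom G ▷ X) ≫ a.act).left.isOpenMap _ (hW.preimage (Scheme.Hom.continuous _))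

theorem isCompact_satX {W : X.left.Opens} (hc : IsCompact (W : Set X.left)) : IsCompact (satX a (W : Set X.left)) := by
  rw [satX_eq_image]
  obtain ⟨-, _⟩ := quasiCompact_compAct a
  exact ((snd (compObj G) X).left.isCompact_preimage hc).image (Scheme.Hom.continuous _)

theorem isCompact_satX_inter {W : X.left.Opens} (hW : IsRetrocompact (W : Set X.left)) {A : X.left.Opens}
    (hA : IsAffineOpen A) : IsCompact (satX a (W : Set X.left) ∩ (A : Set X.left)) := by
  obtain ⟨_, _⟩ := quasiCompact_compAct a
  let ψ := ((compHom G ▷ X) ≫ a.act).left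
  let σ := (snd (compObj G) X).left
  rw [satX_eq_image, ← Set.image_inter_preimage]
  refine IsCompact.image ?_ (Scheme.Hom.continuous _)
  have hP : IsCompact (ψ ⁻¹' (A : Set X.left)) := ψ.isCompact_preimage hA.isCompact
  have hcov : ∀ v ∈ ψ ⁻¹' (A : Set X.left), ∃ V : (compObj G ⊗ X).left.Opens, v ∈ V ∧
      (V : Set _) ⊆ ψ ⁻¹' (A : Set X.left) ∧ IsCompact (σ ⁻¹' (W : Set X.left) ∩ (V : Set _)) := by
    intro v hv
    obtain ⟨B, hB, hvB, -⟩ := exists_isAffineOpen_mem_and_subset (U := ⊤) (x := σ v) trivial
    obtain ⟨V, hV, hvV, hVsub⟩ := exists_isAffineOpen_mem_and_subset (x := v) (U := σ ⁻¹ᵁ B ⊓ ψ ⁻¹ᵁ A) ⟨hvB, hv⟩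
    refine ⟨V, hvV, fun z hz => (hVsub hz).2, ?_⟩
    have : QuasiCompact (V.ι ≫ (snd (compObj G) X).left ≫ X.hom) := by
      have : IsAffine (V : Scheme.{u}) := hV
      infer_instance
    let f : (V : Scheme.{u}) ⟶ (B : Scheme.{u}) := IsOpenImmersion.lift B.ι (V.ι ≫ σ) (by
      rintro _ ⟨z, rfl⟩; rw [Scheme.Opens.range_ι]; exact (hVsub z.2).1)
    have hf : f ≫ B.ι = V.ι ≫ σ := IsOpenImmersion.lift_fac _ _ _
    have : IsAffine (V : Scheme.{u}) := hV
    have : IsAffine (B : Scheme.{u}) := hB
    have hWB : IsCompact (B.ι ⁻¹' (W : Set X.left)) := by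
      rw [B.ι.isOpenEmbedding.isInducing.isCompact_iff, Set.image_preimage_eq_inter_range, Scheme.Opens.range_ι]
      exact hW hB.isCompact B.2
    have e : σ ⁻¹' (W : Set X.left) ∩ (V : Set _) = V.ι '' ((f ≫ B.ι) ⁻¹' (W : Set X.left)) := by
      rw [hf, Scheme.Hom.comp_base, TopCat.coe_comp, Set.preimage_comp, Set.image_preimage_eq_inter_range,
        Scheme.Opens.range_ι]
    rw [e, Scheme.Hom.comp_base, TopCat.coe_comp, Set.preimage_comp]
    exact (f.isCompact_preimage (U := B.ι ⁻¹ᵁ W) hWB).image V.ι.continuous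
  choose! V hvV hVA hVc using hcov
  obtain ⟨t, ht, hsub⟩ := hP.elim_nhds_subcover (fun v => (V v : Set _)) fun v hv => (V v).2.mem_nhds (hvV v hv)
  have e : (snd (compObj G) X).left ⁻¹' (W : Set X.left) ∩ ψ ⁻¹' (A : Set X.left) =
      ⋃ v ∈ t, σ ⁻¹' (W : Set X.left) ∩ (V v : Set _) := by
    refine Set.Subset.antisymm ?_ (Set.iUnion₂_subset fun v hv z hz => ⟨hz.1, hVA v (ht v hv) hz.2⟩)
    rintro z ⟨h1, h2⟩
    obtain ⟨v, hv, hzv⟩ := Set.mem_iUnion₂.1 (hsub h2)
    exact Set.mem_iUnion₂.2 ⟨v, hv, h1, hzv⟩
  exact e ▸ t.finite_toSet.isCompact_biUnion fun v hv => hVc v (ht v hv)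

include hΦ

theorem isClosed_satX {W : X.left.Opens} (hW : IsRetrocompact (W : Set X.left)) :
    IsClosed (satX a (W : Set X.left)) := by
  refine isClosed_of_closure_subset fun z hz => ?_
  obtain ⟨A, hA, hzA, -⟩ := exists_isAffineOpen_mem_and_subset (U := ⊤) (x := z) trivial
  have : IsAffine (A : Scheme.{u}) := hA
  have hcl : IsClosed (A.ι ⁻¹' satX a (W : Set X.left)) := by
    refine isClosed_of_isCompact_of_specializing ((isOpen_satX a W.2).preimage A.ι.continuous) ?_ ?_
    · rw [A.ι.isOpenEmbedding.isInducing.isCompact_iff, Set.image_preimage_eq_inter_range, Scheme.Opens.range_ι]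
      exact isCompact_satX_inter a hW hA
    · intro x y hxy hx
      rw [Set.mem_preimage, satX_eq a hΦ W.isOpen] at hx ⊢
      show genX _ ∈ (W : Set X.left)
      rwa [← genX_eq_of_specializes a hΦ (hxy.map A.ι.continuous)]
  have : (⟨z, hzA⟩ : (A : Scheme.{u})) ∈ closure (A.ι ⁻¹' satX a (W : Set X.left)) :=
    A.ι.isOpenEmbedding.isOpenMap.preimage_closure_subset_closure_preimage hz
  rwa [hcl.closure_eq] at this

theorem satX_eq_closure {W : X.left.Opens} (hW : IsRetrocompact (W : Set X.left)) :
    satX a (W : Set X.left) = closure (W : Set X.left) := by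
  refine Set.Subset.antisymm (fun y hy => ?_) (closure_minimal (subset_satX a hΦ W.2) (isClosed_satX a hΦ hW))
  rw [satX_eq a hΦ W.isOpen] at hy
  exact closure_mono (Set.singleton_subset_iff.2 (show genX y ∈ (W : Set X.left) from hy)) (genX_specializes y).mem_closure

theorem connectedComponent_eq [QuasiSeparatedSpace X.left] (x : X.left) :
    connectedComponent x = closure {genX x} := by
  refine Set.Subset.antisymm (fun y hy => ?_) ?_
  · rw [closure_genX_eq a hΦ x]
    by_contra hne
    have hz : genX y ∉ closure {genX x} := fun h => hne (by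
      rw [closure_genX_eq a hΦ x] at h
      show genX y = genX x
      rw [← (h : genX (genX y) = genX x), genX_eq a hΦ (isMaxPt_genX y) specializes_rfl])
    obtain ⟨U, hU, hyU, hsub⟩ := exists_isAffineOpen_mem_and_subset (x := genX y)
      (U := ⟨(closure {genX x})ᶜ, isClosed_closure.isOpen_compl⟩) hz
    have hret : IsRetrocompact (U : Set X.left) := fun V hV hVo =>
      QuasiSeparatedSpace.inter_isCompact _ _ U.2 hU.isCompact hVo hV
    have hclop : IsClopen (satX a (U : Set X.left)) := ⟨isClosed_satX a hΦ hret, isOpen_satX a U.2⟩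
    have hx : x ∈ satX a (U : Set X.left) := by
      have h1 : y ∈ satX a (U : Set X.left) := by rw [satX_eq a hΦ U.isOpen]; exact hyU
      have : connectedComponent y ⊆ satX a (U : Set X.left) := hclop.connectedComponent_subset h1
      exact this (_root_.connectedComponent_eq hy ▸ mem_connectedComponent)
    rw [satX_eq a hΦ U.isOpen] at hx
    exact hsub hx (subset_closure (Set.mem_singleton _))
  · exact isIrreducible_singleton.closure.isConnected.isPreconnected.subset_connectedComponent
      (genX_specializes x).mem_closure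

theorem compactSpace_of_irreducible [IrreducibleSpace X.left] : CompactSpace X.left := by
  obtain ⟨x⟩ := (inferInstance : Nonempty X.left)
  obtain ⟨U, hU, hxU, -⟩ := exists_isAffineOpen_mem_and_subset (U := ⊤) (x := x) trivial
  refine ⟨?_⟩
  convert isCompact_satX a (W := U) hU.isCompact
  refine (Set.eq_univ_of_forall fun y => ?_).symm
  rw [satX_eq a hΦ U.isOpen]
  have h : irreducibleComponents X.left = {Set.univ} := irreducibleComponents_eq_singleton
  have e : ∀ z : X.left, closure {genX z} = Set.univ := fun z => by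
    simpa [h] using closure_genX_mem a hΦ z
  have h1 := genX_specializes x
  have h2 : genX y ⤳ genX x := specializes_iff_mem_closure.2 (e y ▸ Set.mem_univ _)
  show genX y ∈ (U : Set X.left)
  rw [isMaxPt_genX x _ h2]
  exact h1.mem_open U.2 hxU

end Groth.Agent.Lib.ActSep.HomogX
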