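import Groth.Agent.Lib.ActSep.Orbit
import Groth.Agent.Lib.ActSep.Neutral
import Groth.Agent.Lib.ActSep.BigField
import Groth.Agent.Lib.GrpSch.GenericIso

/-!
Homogeneous spaces of group schemes over a field, without finiteness hypotheses.
-/

set_option autoImplicit false
set_option backward.isDefEq.respectTransparency false
set_option backward.isDefEq.respectTransparency.types false

universe u

open CategoryTheory Limits MonoidalCategory CartesianMonoidalCategory MonObj AlgebraicGeometry Topology

namespace Groth.Agent.Lib.ActSep.HomogX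

open Groth.Agent.Lib.GrpSch Groth.Agent.Lib.ActSep.MaxPt Groth.Agent.H63.GrpIrred Groth.Agent.H63.GrpComponent
open Groth.Agent.H63.PullbackClosure

variable {k : Type u} [Field k] {G X : Over (Spec (CommRingCat.of k))} [GrpObj G] (a : AlgGrp.Action G X)

theorem subsingleton_field (k : Type u) [Field k] : Subsingleton ↥(Spec (CommRingCat.of k)) :=
  inferInstanceAs (Subsingleton (PrimeSpectrum k))

variable (hΦ : Surjective (lift a.act (snd G X)).left)
include hΦ

set_option maxHeartbeats 1000000 in
-- a long construction with base changes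
/-- Every point is moved to a maximal point by the neutral component. -/
theorem exists_generic_translate (y : X.left) :
    ∃ q : (G ⊗ X).left, (fst G X).left q ∈ comp0 G ∧ (snd G X).left q = y ∧ IsMaxPt (a.act.left q) := by
  let S₀ := Spec (CommRingCat.of k)
  have : Subsingleton ↥S₀ := subsingleton_field k
  let Ω := AlgebraicClosure (X.left.residueField y)
  let rΩ : Spec (CommRingCat.of Ω) ⟶ X.left :=
    Spec.map (CommRingCat.ofHom (algebraMap (X.left.residueField y) Ω)) ≫ X.left.fromSpecResidueField y
  let t₀ : Spec (CommRingCat.of Ω) ⟶ S₀ := rΩ ≫ X.hom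
  let T₀ : Over S₀ := Over.mk t₀
  have hφ : ∀ p : (G ⊗ T₀).left, ∃ φ : CommRingCat.of Ω ⟶ (G ⊗ T₀).left.residueField p,
      Spec.map φ = (G ⊗ T₀).left.fromSpecResidueField p ≫ (snd G T₀).left := fun p => Spec.map_surjective _
  choose φ hφ using hφ
  let : ∀ p, Algebra Ω ((G ⊗ T₀).left.residueField p) := fun p => (φ p).hom.toAlgebra
  obtain ⟨K, _, _, _, hK⟩ := BigField.exists_field Ω (G ⊗ T₀).left fun p => (G ⊗ T₀).left.residueField p
  let π : Spec (CommRingCat.of K) ⟶ Spec (CommRingCat.of Ω) := Spec.map (CommRingCat.ofHom (algebraMap Ω K))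
  let t : Spec (CommRingCat.of K) ⟶ S₀ := π ≫ t₀
  let T : Over S₀ := Over.mk t
  let πO : T ⟶ T₀ := Over.homMk π rfl
  let x : T ⟶ X := Over.homMk (π ≫ rΩ) (Category.assoc _ _ _)
  let pK := IsLocalRing.closedPoint K
  have : Subsingleton ↥T.left := subsingleton_field K
  -- a maximal point of the space and a maximal point of the group above it
  obtain ⟨η', hη', -⟩ := exists_isMaxPt (X ⊗ T).left ((lift x (𝟙 T)).left pK)
  have := surjective_orb a hΦ x
  obtain ⟨w, hw⟩ := (orb a x).left.surjective η'
  obtain ⟨ξ, hξ, hξw⟩ := exists_isMaxPt (G ⊗ T).left w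
  have hξη : (orb a x).left ξ = η' := hη' _ (hw ▸ hξw.map (orb a x).left.continuous)
  -- a rational point in its component
  let p := (G ◁ πO).left ξ
  obtain ⟨e⟩ := hK p
  let g₀ : Spec (CommRingCat.of K) ⟶ (G ⊗ T₀).left :=
    Spec.map (CommRingCat.ofHom e.toRingHom) ≫ (G ⊗ T₀).left.fromSpecResidueField p
  have hg₀ : g₀ ≫ (snd G T₀).left = π := by
    show (_ ≫ _) ≫ _ = _
    rw [Category.assoc, ← hφ p, ← Spec.map_comp]
    congr 1
    ext c
    exact e.commutes c
  let g : T ⟶ G := Over.homMk (g₀ ≫ (fst G T₀).left) (by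
    show (g₀ ≫ _) ≫ G.hom = π ≫ t₀
    rw [Category.assoc, Over.w (fst G T₀), ← Over.w (snd G T₀), ← Category.assoc, hg₀]
    rfl)
  have hgp : (G ◁ πO).left (pt t g) = p := by
    have h1 : (lift g (𝟙 T) ≫ (G ◁ πO)).left = g₀ := by
      apply pullback.hom_ext
      · show (lift g (𝟙 T) ≫ (G ◁ πO)).left ≫ (fst G T₀).left = g₀ ≫ (fst G T₀).left
        rw [← Over.comp_left, Category.assoc, whiskerLeft_fst, lift_fst]
        rfl
      · show (lift g (𝟙 T) ≫ (G ◁ πO)).left ≫ (snd G T₀).left = g₀ ≫ (snd G T₀).left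
        rw [← Over.comp_left, Category.assoc, whiskerLeft_snd, lift_snd_assoc, Category.id_comp, hg₀]
        rfl
    rw [pt, ← Scheme.Hom.comp_apply, ← Over.comp_left, h1]
    exact (Scheme.Hom.comp_apply _ _ _).trans ((G ⊗ T₀).left.fromSpecResidueField_apply p _)
  have sq : IsPullback (G ◁ πO).left (snd G T).left (snd G T₀).left π := by
    refine IsPullback.of_right ?_ ?_ (IsPullback.of_hasPullback G.hom t₀)
    · show IsPullback ((G ◁ πO).left ≫ (fst G T₀).left) _ _ _
      rw [← Over.comp_left, whiskerLeft_fst]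
      exact IsPullback.of_hasPullback G.hom t
    · show _ = (snd G T).left ≫ πO.left
      rw [← Over.comp_left, ← Over.comp_left, whiskerLeft_snd]
  have hspec : ξ ⤳ pt t g := by
    have : GeometricallyIrreducible ((G ⊗ T₀).left.fromSpecResidueField p ≫ (snd G T₀).left) :=
      geometricallyIrreducible_of_isSepClosed ((G ⊗ T₀).left.residueField p) _
    have : AlgebraicGeometry.IsIntegral T₀.left := inferInstanceAs (AlgebraicGeometry.IsIntegral (Spec (CommRingCat.of Ω)))
    have : Subsingleton ↥T₀.left := subsingleton_field Ω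
    obtain ⟨z, -, -, hz⟩ := exists_generic_over_pair (snd G T₀).left π p pK
    have hpair : ∀ v, (G ◁ πO).left v = p → z ⤳ sq.isoPullback.hom v := fun v hv =>
      hz _ (by rw [← Scheme.Hom.comp_apply, sq.isoPullback_hom_fst, hv]) (Subsingleton.elim (α := PrimeSpectrum K) _ _)
    have hback : ∀ v, (G ◁ πO).left v = p → sq.isoPullback.inv z ⤳ v := fun v hv => by
      have := (hpair v hv).map sq.isoPullback.inv.continuous
      rwa [← Scheme.Hom.comp_apply, Iso.hom_inv_id] at this
    rw [← hξ _ (hback ξ rfl)]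
    exact hback _ hgp
  have hξgen : (mulL g).left (genOne G t) = ξ := by
    refine maxPt_unique G t (isMaxPt_mulL t g (isMaxPt_genOne G t)) hξ ?_ hspec
    have := (genOne_specializes G t).map (mulL g).left.continuous
    rwa [mulL_pt, _root_.mul_one] at this
  have hmax : IsMaxPt ((orb a x).left (genOne G t)) := by
    intro z hz
    let φ := ((Over.forget S₀).mapIso (actLIso a g)).hom.homeomorph
    refine φ.injective (?_ : (actL a g).left z = (actL a g).left _)
    have e1 : (actL a g).left ((orb a x).left (genOne G t)) = η' := by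
      rw [← hξη, ← hξgen, ← Scheme.Hom.comp_apply, ← Scheme.Hom.comp_apply, ← Over.comp_left, ← Over.comp_left,
        mulL_orb]
    rw [e1]
    exact hη' _ (e1 ▸ hz.map (actL a g).left.continuous)
  refine ⟨(lift (fst G T) (snd G T ≫ x)).left (genOne G t), ?_, ?_, ?_⟩
  · rw [← Scheme.Hom.comp_apply, ← Over.comp_left, lift_fst]
    refine specializes_unit_mem G ?_
    have := (genOne_specializes G t).map (fst G T).left.continuous
    rwa [fst_pt_one G t, Subsingleton.elim (t (IsLocalRing.closedPoint K)) (IsLocalRing.closedPoint k)] at this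
  · rw [← Scheme.Hom.comp_apply, ← Over.comp_left, lift_snd, Over.comp_left, Scheme.Hom.comp_apply]
    show rΩ (π _) = y
    exact (Scheme.Hom.comp_apply _ _ _).trans (Scheme.fromSpecResidueField_apply _ _)
  · intro z hz
    have hz' : z ⤳ (fst X T).left ((orb a x).left (genOne G t)) := by
      rw [← Scheme.Hom.comp_apply, ← Over.comp_left, orb, lift_fst, Over.comp_left, Scheme.Hom.comp_apply]
      exact hz
    have : Flat t := flat_of_isField (R := CommRingCat.of k) (Field.toIsField k) t
    have : Flat (fst X T).left := MorphismProperty.pullback_fst (P := @Flat) _ _ ‹_›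
    obtain ⟨z', hz'1, rfl⟩ := Flat.generalizingMap (fst X T).left hz'
    rw [hmax z' hz'1, ← Scheme.Hom.comp_apply, ← Over.comp_left, orb, lift_fst, Over.comp_left,
      Scheme.Hom.comp_apply]

omit hΦ

/-- The action of the neutral component moves points inside an irreducible set. -/
theorem exists_common_gen {q : (G ⊗ X).left} (hq : (fst G X).left q ∈ comp0 G) :
    ∃ z : X.left, z ⤳ a.act.left q ∧ z ⤳ (snd G X).left q := by
  have : Subsingleton ↥(Spec (CommRingCat.of k)) := subsingleton_field k
  have := geometricallyIrreducible_genPt G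
  obtain ⟨π, -, -, hπ⟩ := exists_generic_over_pair G.hom X.hom (genPt G (unitPt G)) ((snd G X).left q)
  have key : ∀ q' : (G ⊗ X).left, (fst G X).left q' ∈ comp0 G → (snd G X).left q' = (snd G X).left q →
      a.act.left π ⤳ a.act.left q' := by
    intro q' h1 h2
    rw [comp0, irreducibleComponent_eq] at h1
    refine Specializes.map ?_ a.act.left.continuous
    rw [specializes_iff_mem_closure]
    refine closure_minimal ?_ isClosed_closure (mem_closure_fst G.hom X.hom q' _ h1)
    rintro w ⟨hw1, hw2⟩
    exact specializes_iff_mem_closure.1 (hπ w hw1 ((show _ = _ from hw2).trans h2))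
  let q₀ := (lift (1 : X ⟶ G) (𝟙 X)).left ((snd G X).left q)
  have h01 : (fst G X).left q₀ = unitPt G := by
    rw [← Scheme.Hom.comp_apply, ← Over.comp_left, lift_fst, Hom.one_def, Over.comp_left, Scheme.Hom.comp_apply]
    exact congrArg η[G].left (Subsingleton.elim (α := PrimeSpectrum k) _ _)
  have h02 : (snd G X).left q₀ = (snd G X).left q := by
    rw [← Scheme.Hom.comp_apply, ← Over.comp_left, lift_snd]; rfl
  have h03 : a.act.left q₀ = (snd G X).left q := by
    rw [← Scheme.Hom.comp_apply, ← Over.comp_left, Hom.one_def, act_η a (𝟙 X)]; rfl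
  exact ⟨a.act.left π, key q hq rfl, h03 ▸ key q₀ (h01 ▸ unitPt_mem G) h02⟩

/-- Maximal points are fixed by the neutral component. -/
theorem specializes_act_of_isMaxPt {q : (G ⊗ X).left} (hq : (fst G X).left q ∈ comp0 G) {ζ : X.left}
    (hζ : IsMaxPt ζ) (h : ζ ⤳ (snd G X).left q) : ζ ⤳ a.act.left q := by
  have : Flat G.hom := flat_of_isField (R := CommRingCat.of k) (Field.toIsField k) G.hom
  have : Flat (snd G X).left := snd_left_of X ‹Flat G.hom›
  obtain ⟨q', hq', rfl⟩ := Flat.generalizingMap (snd G X).left h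
  have hq'0 : (fst G X).left q' ∈ comp0 G := by
    rw [comp0, mem_component_iff] at hq ⊢
    rw [← hq]
    exact genPt_eq_of_specializes G (hq'.map (fst G X).left.continuous)
  obtain ⟨z, hz1, hz2⟩ := exists_common_gen a hq'0
  rw [← hζ z hz2]
  exact hz1.trans (hq'.map a.act.left.continuous)

include hΦ

theorem maxPt_unique {η₁ η₂ y : X.left} (h₁ : IsMaxPt η₁) (h₂ : IsMaxPt η₂) (hy₁ : η₁ ⤳ y) (hy₂ : η₂ ⤳ y) :
    η₁ = η₂ := by
  obtain ⟨q, hq, rfl, hmax⟩ := exists_generic_translate a hΦ y
  rw [hmax _ (specializes_act_of_isMaxPt a hq h₁ hy₁), hmax _ (specializes_act_of_isMaxPt a hq h₂ hy₂)]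

omit hΦ in
/-- The generic point of the component through a point. -/
noncomputable def genX (y : X.left) : X.left := (exists_isMaxPt X.left y).choose

omit hΦ in
theorem isMaxPt_genX (y : X.left) : IsMaxPt (genX y) := (exists_isMaxPt X.left y).choose_spec.1

omit hΦ in
theorem genX_specializes (y : X.left) : genX y ⤳ y := (exists_isMaxPt X.left y).choose_spec.2

theorem genX_eq {ζ y : X.left} (hζ : IsMaxPt ζ) (h : ζ ⤳ y) : genX y = ζ :=
  maxPt_unique a hΦ (isMaxPt_genX y) hζ (genX_specializes y) h

theorem genX_eq_of_specializes {y y' : X.left} (h : y' ⤳ y) : genX y' = genX y :=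
  (genX_eq a hΦ (isMaxPt_genX y') ((genX_specializes y').trans h)).symm

theorem genX_act {q : (G ⊗ X).left} (hq : (fst G X).left q ∈ comp0 G) :
    genX (a.act.left q) = genX ((snd G X).left q) :=
  genX_eq a hΦ (isMaxPt_genX _) (specializes_act_of_isMaxPt a hq (isMaxPt_genX _) (genX_specializes _))

theorem exists_act_eq_genX (y : X.left) :
    ∃ q : (G ⊗ X).left, (fst G X).left q ∈ comp0 G ∧ (snd G X).left q = y ∧ a.act.left q = genX y := by
  obtain ⟨q, hq, hy, hmax⟩ := exists_generic_translate a hΦ y
  refine ⟨q, hq, hy, ?_⟩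
  rw [← hy, ← genX_act a hΦ hq, genX_eq a hΦ hmax specializes_rfl]

theorem closure_genX_eq (y : X.left) : closure {genX y} = {z | genX z = genX y} := by
  ext z
  rw [← specializes_iff_mem_closure]
  exact ⟨fun h => genX_eq a hΦ (isMaxPt_genX y) h, fun (h : genX z = genX y) => h ▸ genX_specializes z⟩

theorem closure_genX_mem (y : X.left) : closure {genX y} ∈ irreducibleComponents X.left := by
  refine ⟨isIrreducible_singleton.closure, fun Z hZ hsub => ?_⟩
  obtain ⟨ζ, hζ⟩ := QuasiSober.sober hZ.closure isClosed_closure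
  have h := hζ.specializes (subset_closure (hsub (subset_closure (Set.mem_singleton _))))
  refine fun z hz => specializes_iff_mem_closure.1 ?_
  rw [← isMaxPt_genX y _ h]
  exact hζ.specializes (subset_closure hz)

theorem eq_closure_genX {C : Set X.left} (hC : C ∈ irreducibleComponents X.left) {y : X.left} (hy : y ∈ C) :
    C = closure {genX y} := by
  obtain ⟨ζ, hζ⟩ := QuasiSober.sober hC.1 (isClosed_of_mem_irreducibleComponents C hC)
  have hmax : IsMaxPt ζ := fun z hz => by
    have h1 : C ⊆ closure {z} := hζ.def.symm.le.trans (specializes_iff_closure_subset.1 hz)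
    exact ((hζ.specializes (hC.2 isIrreducible_singleton.closure h1 (subset_closure rfl))).antisymm hz).eq.symm
  rw [genX_eq a hΦ hmax (hζ.specializes hy), hζ.def]

theorem existsUnique_component (y : X.left) : ∃! C, C ∈ irreducibleComponents X.left ∧ y ∈ C :=
  ⟨closure {genX y}, ⟨closure_genX_mem a hΦ y, (genX_specializes y).mem_closure⟩,
    fun _ hC => eq_closure_genX a hΦ hC.1 hC.2⟩

end Groth.Agent.Lib.ActSep.HomogX
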