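import Groth.Agent.Lib.GrpSch.Basic
import Mathlib.AlgebraicGeometry.Morphisms.SchemeTheoreticallyDominant

/-!
The scheme theoretic image of a quasi-compact homomorphism of groups over a field is a subgroup.
-/

set_option autoImplicit false

universe u

open CategoryTheory Limits MonoidalCategory CartesianMonoidalCategory MonObj AlgebraicGeometry

namespace Groth.Agent.Lib.ActSep

theorem isSchDominant_toImage {X Y : Scheme.{u}} (f : X ⟶ Y) [QuasiCompact f] :
    IsSchemeTheoreticallyDominant f.toImage := by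
  refine ⟨Scheme.IdealSheafData.ext_of_iSup_eq_top
    (fun U : Y.affineOpens => ⟨f.imageι ⁻¹ᵁ U.1, U.2.preimage f.imageι⟩) ?_ fun U => ?_⟩
  · rw [← Scheme.Hom.preimage_iSup, iSup_affineOpens_eq_top, Scheme.Hom.preimage_top]
  · simp only [Scheme.Hom.ker_apply, Scheme.IdealSheafData.ideal_bot, Pi.bot_apply]
    exact (RingHom.injective_iff_ker_eq_bot _).1 (f.toImage_app_injective U)

variable {S : Scheme.{u}}

/-- A closed subscheme stable under the operations of a group scheme is a subgroup. -/
theorem exists_grpObj_of_mono {G H' : Over S} [GrpObj G] (i : H' ⟶ G) [Mono i] (mul : H' ⊗ H' ⟶ H')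
    (one : 𝟙_ (Over S) ⟶ H') (inv : H' ⟶ H') (hmul : mul ≫ i = (i ⊗ₘ i) ≫ μ[G]) (hone : one ≫ i = η[G])
    (hinv : inv ≫ i = i ≫ GrpObj.inv) : ∃ _ : GrpObj H', IsMonHom i := by
  have key : ∀ {T : Over S} (c : T ⟶ H' ⊗ H'),
      c ≫ mul ≫ i = (c ≫ fst H' H' ≫ i) * (c ≫ snd H' H' ≫ i) := fun c => by
    rw [hmul, ← Category.assoc, Hom.mul_def]
    congr 1
    refine CartesianMonoidalCategory.hom_ext _ _ ?_ ?_ <;> simp
  have hone' : ∀ {T : Over S} (c : T ⟶ 𝟙_ (Over S)), c ≫ η[G] = 1 := fun c => by
    rw [Hom.one_def, toUnit_unique c (toUnit _)]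
  let g : GrpObj H' :=
    { one := one
      mul := mul
      one_mul := by
        rw [← cancel_mono i, Category.assoc, key, whiskerRight_fst_assoc, whiskerRight_snd_assoc, hone, hone', _root_.one_mul]
        rfl
      mul_one := by
        rw [← cancel_mono i, Category.assoc, key, whiskerLeft_fst_assoc, whiskerLeft_snd_assoc, hone, hone', _root_.mul_one]
        rfl
      mul_assoc := by
        rw [← cancel_mono i, Category.assoc, key, Category.assoc, Category.assoc, key, whiskerRight_fst_assoc,
          whiskerRight_snd_assoc, whiskerLeft_fst_assoc, whiskerLeft_snd_assoc, key, key, MonObj.comp_mul, MonObj.comp_mul,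
          _root_.mul_assoc]
        simp
      inv := inv
      left_inv := by
        rw [← cancel_mono i, Category.assoc, Category.assoc, key, lift_fst_assoc, lift_snd_assoc, Category.id_comp, hinv, hone]
        rw [hone', show i ≫ GrpObj.inv = i⁻¹ from rfl]
        exact inv_mul_cancel i
      right_inv := by
        rw [← cancel_mono i, Category.assoc, Category.assoc, key, lift_fst_assoc, lift_snd_assoc, Category.id_comp, hinv, hone]
        rw [hone', show i ≫ GrpObj.inv = i⁻¹ from rfl]
        exact mul_inv_cancel i }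
  exact ⟨g, { one_hom := hone, mul_hom := hmul }⟩

theorem isSchDominant_tensorHom {k : Type u} [Field k] {X X' Y Y' : Over (Spec (CommRingCat.of k))} (f : X ⟶ X')
    (g : Y ⟶ Y') [IsSchemeTheoreticallyDominant f.left] [QuasiCompact f.left]
    [IsSchemeTheoreticallyDominant g.left] [QuasiCompact g.left] :
    IsSchemeTheoreticallyDominant (f ⊗ₘ g).left := by
  rw [tensorHom_def, Over.comp_left]
  have : Flat (fst X' Y).left := GrpSch.fst_left_of (P := @Flat) X' inferInstance
  have : Flat (snd X' Y').left := GrpSch.snd_left_of (P := @Flat) Y' inferInstance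
  have := IsSchemeTheoreticallyDominant.of_isPullback (GrpSch.isPullback_whiskerRight f Y).flip
  have := IsSchemeTheoreticallyDominant.of_isPullback (GrpSch.isPullback_whiskerLeft X' g).flip
  infer_instance

theorem exists_image_subgroup {k : Type u} [Field k] {H G : Over (Spec (CommRingCat.of k))} [GrpObj H] [GrpObj G]
    (f : H ⟶ G) [IsMonHom f] [QuasiCompact f.left] :
    ∃ (H' : Over (Spec (CommRingCat.of k))) (_ : GrpObj H') (i : H' ⟶ G) (f' : H ⟶ H'),
      IsMonHom i ∧ IsMonHom f' ∧ f' ≫ i = f ∧ IsClosedImmersion i.left ∧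
      IsSchemeTheoreticallyDominant f'.left ∧ QuasiCompact f'.left ∧ Set.range i.left = closure (Set.range f.left) := by
  let H' : Over (Spec (CommRingCat.of k)) := Over.mk (f.left.imageι ≫ G.hom)
  let i : H' ⟶ G := Over.homMk f.left.imageι rfl
  let f' : H ⟶ H' := Over.homMk f.left.toImage (by
    show f.left.toImage ≫ f.left.imageι ≫ G.hom = H.hom
    rw [Scheme.Hom.toImage_imageι_assoc, Over.w])
  have hf : f' ≫ i = f := Over.OverMorphism.ext f.left.toImage_imageι
  have : IsClosedImmersion i.left := inferInstanceAs (IsClosedImmersion f.left.imageι)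
  have : Mono i := (Over.forget _).mono_of_mono_map (show Mono ((Over.forget _).map i) from
    inferInstanceAs (Mono f.left.imageι))
  have : QuasiCompact f'.left := inferInstanceAs (QuasiCompact f.left.toImage)
  have : IsSchemeTheoreticallyDominant f'.left := isSchDominant_toImage f.left
  have hlift : ∀ {W W' : Over (Spec (CommRingCat.of k))} (p : W ⟶ W') (q : W' ⟶ G) (r : W ⟶ H),
      IsSchemeTheoreticallyDominant p.left → p ≫ q = r ≫ f → ∃ m : W' ⟶ H', m ≫ i = q := by
    intro W W' p q r hp hpq
    have hk : i.left.ker ≤ q.left.ker := by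
      have h1 : (p ≫ q).left.ker = q.left.ker := by
        rw [Over.comp_left, Scheme.Hom.ker_comp, hp.ker_eq_bot, Scheme.IdealSheafData.map_bot]
      rw [← h1, hpq, ← hf, ← Category.assoc, Over.comp_left]
      exact Scheme.Hom.le_ker_comp _ _
    refine ⟨Over.homMk (IsClosedImmersion.lift i.left q.left hk) ?_, Over.OverMorphism.ext (IsClosedImmersion.lift_fac _ _ _)⟩
    rw [show H'.hom = i.left ≫ G.hom from rfl, IsClosedImmersion.lift_fac_assoc, Over.w]
  obtain ⟨mul, hmul⟩ := hlift (f' ⊗ₘ f') ((i ⊗ₘ i) ≫ μ[G]) μ[H] (isSchDominant_tensorHom f' f') (by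
    rw [tensorHom_comp_tensorHom_assoc, hf, IsMonHom.mul_hom])
  obtain ⟨inv, hinv⟩ := hlift f' (i ≫ GrpObj.inv) (GrpObj.inv) inferInstance (by
    rw [← Category.assoc, hf]
    exact (GrpObj.inv_hom f).symm)
  obtain ⟨_, hi⟩ := exists_grpObj_of_mono i mul (η[H] ≫ f') inv hmul (by rw [Category.assoc, hf, IsMonHom.one_hom]) hinv
  refine ⟨H', ‹_›, i, f', hi, ?_, hf, inferInstance, inferInstance, inferInstance, ?_⟩
  · refine { one_hom := ?_, mul_hom := ?_ }
    · rw [← cancel_mono i, Category.assoc, hf, IsMonHom.one_hom, IsMonHom.one_hom]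
    · rw [← cancel_mono i, Category.assoc, hf, IsMonHom.mul_hom, Category.assoc, IsMonHom.mul_hom,
        tensorHom_comp_tensorHom_assoc, hf]
  · show Set.range f.left.imageι = _
    rw [Scheme.IdealSheafData.range_subschemeι, Scheme.Hom.support_ker]

end Groth.Agent.Lib.ActSep
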