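import Groth.Agent.Lib.GrpSch.BaseChange

/-!
The kernel pair of a homomorphism of group schemes is a base change of its kernel.
-/

set_option autoImplicit false

universe u

open CategoryTheory Limits MonoidalCategory CartesianMonoidalCategory MonObj AlgebraicGeometry

namespace Groth.Agent.Lib.ActSep

theorem snd_kernelPair_of_ker {S : Scheme.{u}} {G H : Over S} [GrpObj G] [GrpObj H] (f : G ⟶ H) [IsMonHom f]
    {P : MorphismProperty Scheme.{u}} [P.IsStableUnderBaseChange] [P.RespectsIso]
    (h : P (pullback.snd f.left η[H].left)) : P (pullback.snd f.left f.left) := by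
  let K : Over S := Over.mk (pullback.snd f.left η[H].left : _ ⟶ S)
  have hη : η[H].left ≫ H.hom = 𝟙 S := Over.w η[H]
  let i₀ : K ⟶ G := Over.homMk (pullback.fst f.left η[H].left : K.left ⟶ G.left) (by
    show pullback.fst f.left η[H].left ≫ G.hom = pullback.snd f.left η[H].left
    rw [← Over.w f, ← Category.assoc, pullback.condition, Category.assoc, hη]
    exact Category.comp_id _)
  have : IsSplitMono η[H].left := ⟨⟨{ retraction := H.hom, id := hη }⟩⟩
  have : Mono i₀.left := inferInstanceAs (Mono (pullback.fst f.left η[H].left))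
  have : Mono i₀ := (Over.forget S).mono_of_mono_map (show Mono ((Over.forget S).map i₀) from this)
  have hi₀ : i₀ ≫ f = toUnit K ≫ η[H] := by
    ext1
    exact pullback.condition
  have hlift : ∀ {T : Over S} (n : T ⟶ G), n ≫ f = 1 → ∃ m : T ⟶ K, m ≫ i₀ = n := by
    intro T n hn
    have hn' : n.left ≫ f.left = T.hom ≫ η[H].left := by
      rw [← Over.comp_left, hn]; rfl
    exact ⟨Over.homMk (pullback.lift n.left T.hom hn') (pullback.lift_snd _ _ _), Over.OverMorphism.ext (pullback.lift_fst _ _ _)⟩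
  let m₀ : G ⊗ K ⟶ G := (snd G K ≫ i₀) * fst G K
  have hμ : m₀ ≫ f = fst G K ≫ f := by
    show ((snd G K ≫ i₀) * fst G K) ≫ f = _
    rw [MonObj.mul_comp, Category.assoc, hi₀, ← Category.assoc, toUnit_unique (snd G K ≫ toUnit K) (toUnit _)]
    exact one_mul _
  have hc : ∀ s : PullbackCone f f, (s.fst * s.snd⁻¹) ≫ f = 1 := fun s => by
    rw [MonObj.mul_comp, GrpObj.inv_comp, ← s.condition, mul_inv_cancel]
  have hpb : IsPullback m₀ (fst G K) f f := by
    refine ⟨⟨hμ⟩, ⟨PullbackCone.IsLimit.mk _ (fun s => lift s.snd (hlift _ (hc s)).choose) ?_ ?_ ?_⟩⟩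
    · intro s
      show _ ≫ ((snd G K ≫ i₀) * fst G K) = _
      rw [MonObj.comp_mul, lift_fst, lift_snd_assoc, (hlift _ (hc s)).choose_spec, inv_mul_cancel_right]
    · intro s
      exact lift_fst _ _
    · intro s m hm₁ hm₂
      refine CartesianMonoidalCategory.hom_ext _ _ (by rw [hm₂, lift_fst]) ?_
      rw [lift_snd, ← cancel_mono i₀, (hlift _ (hc s)).choose_spec, ← hm₁, ← hm₂]
      show _ = (m ≫ ((snd G K ≫ i₀) * fst G K)) * (m ≫ fst G K)⁻¹
      rw [MonObj.comp_mul, mul_inv_cancel_right, Category.assoc]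
  have hmap : IsPullback m₀.left (fst G K).left f.left f.left := hpb.map (Over.forget S)
  rw [← hmap.isoPullback_inv_snd]
  exact (P.cancel_left_of_respectsIso _ _).2 (MorphismProperty.pullback_fst G.hom K.hom h)

end Groth.Agent.Lib.ActSep
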