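import Mathlib

/-!
A scheme over a field whose square is locally of finite type over a factor near the diagonal is locally of
finite type.
-/

set_option autoImplicit false
set_option backward.isDefEq.respectTransparency false
set_option backward.isDefEq.respectTransparency.types false

universe u

open CategoryTheory Limits AlgebraicGeometry TensorProduct

namespace Groth.Agent.Lib.ActSep.LftDiag

theorem exists_subalgebra {k C : Type u} [Field k] [CommRing C] [Algebra k C] (f : C ⊗[k] C)
    (hfin : ((algebraMap (C ⊗[k] C) (Localization.Away f)).comp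
      Algebra.TensorProduct.includeLeftRingHom).FiniteType) :
    ∃ C' : Subalgebra k C, C'.FG ∧ Algebra.TensorProduct.lmul' k f ∈ C' ∧
      ∀ c : C, ∃ N : ℕ, (Algebra.TensorProduct.lmul' k f) ^ N * c ∈ C' := by
  classical
  let φ : C →+* Localization.Away f :=
    (algebraMap (C ⊗[k] C) (Localization.Away f)).comp Algebra.TensorProduct.includeLeftRingHom
  let : Algebra C (Localization.Away f) := φ.toAlgebra
  have : Algebra.FiniteType C (Localization.Away f) := hfin
  obtain ⟨t, ht⟩ := Algebra.FiniteType.out (R := C) (A := Localization.Away f)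
  choose num pw hnum using fun y : Localization.Away f => IsLocalization.Away.surj f y
  obtain ⟨S, hS⟩ : ∃ S : Finset (C × C), ∀ z ∈ insert f (t.image pw), ∃ T ⊆ S, z = ∑ p ∈ T, p.1 ⊗ₜ[k] p.2 := by
    choose T hT using fun z : C ⊗[k] C => TensorProduct.exists_finset z
    exact ⟨(insert f (t.image pw)).biUnion T, fun z hz => ⟨T z, Finset.subset_biUnion_of_mem T hz, hT z⟩⟩
  let C' : Subalgebra k C := Algebra.adjoin k ↑(S.image Prod.fst ∪ S.image Prod.snd)
  have hmem : ∀ p ∈ S, p.1 ∈ C' ∧ p.2 ∈ C' := fun p hp =>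
    ⟨Algebra.subset_adjoin (Finset.mem_union_left _ (Finset.mem_image_of_mem _ hp)),
      Algebra.subset_adjoin (Finset.mem_union_right _ (Finset.mem_image_of_mem _ hp))⟩
  let j := Algebra.TensorProduct.map C'.val C'.val
  let R := Algebra.TensorProduct.map (AlgHom.id k C) C'.val
  have hj : ∀ z ∈ insert f (t.image pw), z ∈ j.range := fun z hz => by
    obtain ⟨T, hT, rfl⟩ := hS z hz
    refine sum_mem fun p hp => ⟨⟨p.1, (hmem p (hT hp)).1⟩ ⊗ₜ ⟨p.2, (hmem p (hT hp)).2⟩, by simp [j]⟩
  have hjR : ∀ z ∈ j.range, z ∈ R.range := fun z hz => by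
    obtain ⟨y, rfl⟩ := hz
    induction y using TensorProduct.induction_on with
    | zero => simp
    | tmul a b => exact ⟨(a : C) ⊗ₜ b, by simp [j, R]⟩
    | add a b ha hb => exact ((map_add j a b).symm ▸ add_mem ha hb)
  have hfR : f ∈ R.range := hjR f (hj f (Finset.mem_insert_self _ _))
  -- every element is a fraction with numerator in the image of `R`
  have key : ∀ y : Localization.Away f, ∃ (z : C ⊗[k] C) (n : ℕ), z ∈ R.range ∧
      y * algebraMap _ _ f ^ n = algebraMap _ _ z := by
    intro y
    have hy : y ∈ Algebra.adjoin C (t : Set (Localization.Away f)) := ht ▸ Algebra.mem_top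
    induction hy using Algebra.adjoin_induction with
    | mem y hy => exact ⟨pw y, num y, hjR _ (hj _ (Finset.mem_insert_of_mem (Finset.mem_image_of_mem _ hy))), hnum y⟩
    | algebraMap c => exact ⟨c ⊗ₜ 1, 0, ⟨c ⊗ₜ 1, by simp [R]⟩, by simp [RingHom.algebraMap_toAlgebra, φ]⟩
    | add a b _ _ ha hb =>
      obtain ⟨za, na, hza, ea⟩ := ha
      obtain ⟨zb, nb, hzb, eb⟩ := hb
      refine ⟨za * f ^ nb + zb * f ^ na, na + nb, add_mem (mul_mem hza (pow_mem hfR _)) (mul_mem hzb (pow_mem hfR _)), ?_⟩
      rw [map_add, map_mul, map_mul, map_pow, map_pow, ← ea, ← eb]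
      ring
    | mul a b _ _ ha hb =>
      obtain ⟨za, na, hza, ea⟩ := ha
      obtain ⟨zb, nb, hzb, eb⟩ := hb
      refine ⟨za * zb, na + nb, mul_mem hza hzb, ?_⟩
      rw [map_mul, ← ea, ← eb]
      ring
  refine ⟨C', Subalgebra.fg_adjoin_finset _, ?_, fun c => ?_⟩
  · obtain ⟨T, hT, rfl⟩ := hS f (Finset.mem_insert_self _ _)
    rw [map_sum]
    exact sum_mem fun p hp => by
      rw [Algebra.TensorProduct.lmul'_apply_tmul]
      exact mul_mem (hmem p (hT hp)).1 (hmem p (hT hp)).2
  obtain ⟨z, n, hz, e⟩ := key (algebraMap (C ⊗[k] C) (Localization.Away f) (1 ⊗ₜ[k] c))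
  rw [← map_pow, ← map_mul, IsLocalization.eq_iff_exists (Submonoid.powers f)] at e
  obtain ⟨⟨_, m, rfl⟩, e⟩ := e
  refine ⟨m + n, ?_⟩
  obtain ⟨z₀, hz₀⟩ := mul_mem (pow_mem hfR m) hz
  obtain ⟨F, hF⟩ := pow_mem (hj f (Finset.mem_insert_self _ _)) (m + n)
  let y : C' ⊗[k] C := Algebra.TensorProduct.map (AlgHom.id k C') C'.val F * (1 ⊗ₜ c)
  have hy : Algebra.TensorProduct.map C'.val (AlgHom.id k C) y = f ^ (m + n) * (1 ⊗ₜ c) := by
    have hF' : j F = f ^ (m + n) := hF
    rw [map_mul, ← AlgHom.comp_apply, ← Algebra.TensorProduct.map_comp, Algebra.TensorProduct.map_tmul,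
      map_one, AlgHom.id_apply, AlgHom.comp_id, AlgHom.id_comp]
    rw [← hF']
  let q : C →ₗ[k] C ⧸ Subalgebra.toSubmodule C' := (Subalgebra.toSubmodule C').mkQ
  have hinj : Function.Injective (C'.val.toLinearMap.rTensor (C ⧸ Subalgebra.toSubmodule C')) :=
    Module.Flat.rTensor_preserves_injective_linearMap _ Subtype.val_injective
  have h0 : q.lTensor C' y = 0 := by
    apply hinj
    rw [map_zero, ← LinearMap.comp_apply, LinearMap.rTensor_comp_lTensor, ← LinearMap.lTensor_comp_rTensor,
      LinearMap.comp_apply]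
    have : C'.val.toLinearMap.rTensor C y = f ^ (m + n) * (1 ⊗ₜ c) := hy
    rw [this]
    have e' : f ^ (m + n) * (1 ⊗ₜ c) = R z₀ := by
      rw [show R z₀ = f ^ m * z from hz₀, ← e]
      ring
    rw [e']
    generalize z₀ = z₁
    induction z₁ using TensorProduct.induction_on with
    | zero => simp
    | tmul a b =>
      have : q (b : C) = 0 := (Submodule.Quotient.mk_eq_zero _).2 b.2
      simp [R, this]
    | add a b ha hb => rw [map_add, map_add, ha, hb, add_zero]
  have hex := lTensor_exact C' (LinearMap.exact_subtype_mkQ (Subalgebra.toSubmodule C'))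
    (Submodule.mkQ_surjective _)
  obtain ⟨w, hw⟩ := (hex y).1 h0
  have hmul : ∀ v : C' ⊗[k] C, Algebra.TensorProduct.lmul' k (Algebra.TensorProduct.map C'.val (AlgHom.id k C) v) =
      TensorProduct.lift ((LinearMap.mul k C).comp C'.val.toLinearMap) v := fun v => by
    induction v using TensorProduct.induction_on with
    | zero => simp
    | tmul a b => simp
    | add a b ha hb => rw [map_add, map_add, map_add, ha, hb]
  have hres : Algebra.TensorProduct.lmul' k (f ^ (m + n) * (1 ⊗ₜ c)) ∈ C' := by
    rw [← hy, hmul, ← hw]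
    clear hw
    induction w using TensorProduct.induction_on with
    | zero => simp
    | tmul a b => simpa using mul_mem a.2 b.2
    | add a b ha hb => rw [map_add, map_add]; exact add_mem ha hb
  simpa using hres

theorem finiteType_away {k C : Type u} [Field k] [CommRing C] [Algebra k C] (f : C ⊗[k] C)
    (hfin : ((algebraMap (C ⊗[k] C) (Localization.Away f)).comp
      Algebra.TensorProduct.includeLeftRingHom).FiniteType) :
    Algebra.FiniteType k (Localization.Away (Algebra.TensorProduct.lmul' k f)) := by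
  obtain ⟨C', hC', hg, h⟩ := exists_subalgebra f hfin
  set g := Algebra.TensorProduct.lmul' k f
  obtain ⟨s, hs⟩ := hC'
  classical
  let ι := IsScalarTower.toAlgHom k C (Localization.Away g)
  refine ⟨⟨insert (IsLocalization.Away.invSelf (S := Localization.Away g) g) (s.image ι), ?_⟩⟩
  refine eq_top_iff.2 fun y _ => ?_
  set A := Algebra.adjoin k ((insert (IsLocalization.Away.invSelf (S := Localization.Away g) g) (s.image ι) :
    Finset (Localization.Away g)) : Set (Localization.Away g))
  have hA : ∀ c ∈ C', ι c ∈ A := fun c hc => by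
    have : ι c ∈ C'.map ι := ⟨c, hc, rfl⟩
    rw [← hs, AlgHom.map_adjoin] at this
    refine Algebra.adjoin_mono ?_ this
    rw [Finset.coe_insert, Finset.coe_image]
    exact Set.subset_insert _ _
  have hinv : IsLocalization.Away.invSelf (S := Localization.Away g) g ∈ A :=
    Algebra.subset_adjoin (Finset.mem_insert_self _ _)
  have hgu : algebraMap C (Localization.Away g) g * IsLocalization.Away.invSelf (S := Localization.Away g) g = 1 :=
    IsLocalization.Away.mul_invSelf g
  obtain ⟨n, c, e⟩ := IsLocalization.Away.surj g y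
  obtain ⟨N, hN⟩ := h c
  have : y = ι (g ^ N * c) * IsLocalization.Away.invSelf (S := Localization.Away g) g ^ (N + n) := by
    show y = algebraMap C (Localization.Away g) (g ^ N * c) * _
    rw [map_mul, map_pow, ← e, show algebraMap C (Localization.Away g) g ^ N * (y * algebraMap C _ g ^ n) =
      y * algebraMap C _ g ^ (N + n) by ring, mul_assoc, ← mul_pow, hgu, one_pow, mul_one]
  rw [this]
  exact mul_mem (hA _ hN) (pow_mem hinv _)

end Groth.Agent.Lib.ActSep.LftDiag

namespace Groth.Agent.Lib.ActSep.LftDiag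

/-- If every point of the diagonal of `X` has an open neighbourhood in the square of `X` which is locally of
finite type over a factor, then `X` is locally of finite type. -/
theorem locallyOfFiniteType_of_diag {k : Type u} [Field k] {X : Scheme.{u}} (π : X ⟶ Spec (CommRingCat.of k))
    (h : ∀ x : X, ∃ Ω : (pullback π π).Opens, pullback.diagonal π x ∈ Ω ∧
      LocallyOfFiniteType (Ω.ι ≫ pullback.fst π π)) : LocallyOfFiniteType π := by
  have main : ∀ x : X, ∃ U : X.Opens, x ∈ U ∧ LocallyOfFiniteType (U.ι ≫ π) := by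
    intro x
    obtain ⟨Ω, hxΩ, hΩ⟩ := h x
    obtain ⟨R, j, hj, ⟨p, rfl⟩, -⟩ := Scheme.exists_affine_mem_range_and_range_subset (x := x) (U := ⊤) trivial
    obtain ⟨φ, hφ⟩ := Spec.map_surjective (j ≫ π)
    let : Algebra k R := φ.hom.toAlgebra
    have hφ' : Spec.map (CommRingCat.ofHom (algebraMap k R)) = j ≫ π := hφ
    let a := Spec.map (CommRingCat.ofHom (algebraMap k R))
    let m : Spec (CommRingCat.of (R ⊗[k] R)) ⟶ pullback π π :=
      (pullbackSpecIso k R R).inv ≫ pullback.map a a π π j j (𝟙 _)
        (by rw [Category.comp_id]; exact hφ') (by rw [Category.comp_id]; exact hφ')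
    have : IsOpenImmersion (pullback.map a a π π j j (𝟙 _)
        (by rw [Category.comp_id]; exact hφ') (by rw [Category.comp_id]; exact hφ')) :=
      inferInstanceAs (IsOpenImmersion (pullback.map _ _ _ _ _ _ _ _ _))
    have : IsOpenImmersion m := inferInstanceAs (IsOpenImmersion (_ ≫ _))
    let δ : Spec R ⟶ Spec (CommRingCat.of (R ⊗[k] R)) :=
      Spec.map (CommRingCat.ofHom (Algebra.TensorProduct.lmul' k (S := R)).toRingHom)
    have hm1 : m ≫ pullback.fst π π =
        Spec.map (CommRingCat.ofHom (Algebra.TensorProduct.includeLeftRingHom : (R : Type u) →+* R ⊗[k] R)) ≫ j := by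
      simp [m, a, pullback.map]
    have hm2 : m ≫ pullback.snd π π =
        Spec.map (CommRingCat.ofHom
          (Algebra.TensorProduct.includeRight (R := k) (A := R) (B := R)).toRingHom) ≫ j := by
      simp [m, a, pullback.map]
    have hδ : δ ≫ m = j ≫ pullback.diagonal π := by
      apply pullback.hom_ext
      · rw [Category.assoc δ m, Category.assoc j (pullback.diagonal π), hm1, pullback.diagonal_fst, Category.comp_id, ← Category.assoc,
          ← Spec.map_comp]
        refine (congrArg (· ≫ j) ?_).trans (Category.id_comp j)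
        rw [← Spec.map_id]; congr 1; ext r; simp; rfl
      · rw [Category.assoc δ m, Category.assoc j (pullback.diagonal π), hm2, pullback.diagonal_snd, Category.comp_id, ← Category.assoc,
          ← Spec.map_comp]
        refine (congrArg (· ≫ j) ?_).trans (Category.id_comp j)
        rw [← Spec.map_id]; congr 1; ext r; simp; rfl
    have hp : δ p ∈ m ⁻¹ᵁ Ω := by
      show m (δ p) ∈ Ω
      rwa [← Scheme.Hom.comp_apply, hδ, Scheme.Hom.comp_apply]
    obtain ⟨_, ⟨_, ⟨f, rfl⟩, rfl⟩, hpf, hfΩ⟩ :=
      PrimeSpectrum.isBasis_basic_opens.exists_subset_of_mem_open hp (m ⁻¹ᵁ Ω).2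
    let w : Spec (CommRingCat.of (Localization.Away f)) ⟶ Spec (CommRingCat.of (R ⊗[k] R)) :=
      Spec.map (CommRingCat.ofHom (algebraMap (R ⊗[k] R) (Localization.Away f)))
    have : IsOpenImmersion w := IsOpenImmersion.of_isLocalization f
    have hw : Set.range (w ≫ m) ⊆ Set.range Ω.ι := by
      rintro _ ⟨z, rfl⟩
      rw [Scheme.Opens.range_ι]
      have hz : w z ∈ (PrimeSpectrum.basicOpen f : Set (PrimeSpectrum (R ⊗[k] R))) := by
        rw [← PrimeSpectrum.localization_away_comap_range (Localization.Away f) f]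
        exact ⟨z, rfl⟩
      exact hfΩ hz
    have hlift := IsOpenImmersion.lift_fac Ω.ι (w ≫ m) hw
    have h1 : LocallyOfFiniteType (Spec.map (CommRingCat.ofHom
        (Algebra.TensorProduct.includeLeftRingHom : (R : Type u) →+* R ⊗[k] R) ≫
          CommRingCat.ofHom (algebraMap (R ⊗[k] R) (Localization.Away f))) ≫ j) := by
      rw [Spec.map_comp, Category.assoc, ← hm1, ← Category.assoc, ← hlift, Category.assoc]
      have : IsOpenImmersion (IsOpenImmersion.lift Ω.ι (w ≫ m) hw) := by
        have : IsOpenImmersion (IsOpenImmersion.lift Ω.ι (w ≫ m) hw ≫ Ω.ι) := by rw [hlift]; infer_instance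
        exact IsOpenImmersion.of_comp _ Ω.ι
      infer_instance
    have h2 := @locallyOfFiniteType_of_comp _ _ _ _ j h1
    rw [HasRingHomProperty.Spec_iff (P := @LocallyOfFiniteType)] at h2
    have hfin := finiteType_away (k := k) (C := R) f h2
    let g := Algebra.TensorProduct.lmul' k (S := R) f
    let v : Spec (CommRingCat.of (Localization.Away g)) ⟶ Spec R :=
      Spec.map (CommRingCat.ofHom (algebraMap R (Localization.Away g)))
    have : IsOpenImmersion v := IsOpenImmersion.of_isLocalization g
    refine ⟨(v ≫ j).opensRange, ?_, ?_⟩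
    · have hpg : p ∈ Set.range v := by
        rw [show Set.range v = (PrimeSpectrum.basicOpen g : Set (PrimeSpectrum R)) from
          PrimeSpectrum.localization_away_comap_range (Localization.Away g) g]
        exact fun hmem => hpf hmem
      obtain ⟨q, rfl⟩ := hpg
      exact ⟨q, rfl⟩
    · rw [← (v ≫ j).isoOpensRange_inv_comp, Category.assoc, Category.assoc, ← hφ', ← Spec.map_comp]
      have : LocallyOfFiniteType (Spec.map (CommRingCat.ofHom (algebraMap k R) ≫
          CommRingCat.ofHom (algebraMap R (Localization.Away g)))) := by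
        rw [HasRingHomProperty.Spec_iff (P := @LocallyOfFiniteType), CommRingCat.hom_comp, CommRingCat.hom_ofHom,
          CommRingCat.hom_ofHom, ← IsScalarTower.algebraMap_eq, RingHom.finiteType_algebraMap]
        exact hfin
      infer_instance
  choose U hU hUP using main
  exact (IsZariskiLocalAtSource.iff_of_iSup_eq_top (P := @LocallyOfFiniteType) U
    (top_le_iff.1 fun x _ => TopologicalSpace.Opens.mem_iSup.2 ⟨x, hU x⟩)).2 hUP

end Groth.Agent.Lib.ActSep.LftDiag
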