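import Groth.Agent.Lib.ActSep.LftDiag
import Groth.Agent.Lib.ActSep.Fibre
import Groth.Agent.Lib.ActSep.Homog
import Groth.Agent.S2305
import Groth.Prelude.Def_Red

/-!
A group scheme over an artinian local ring with a nonempty open of finite type is locally of finite type.
-/

set_option autoImplicit false
set_option backward.isDefEq.respectTransparency false
set_option backward.isDefEq.respectTransparency.types false

universe u

open CategoryTheory Limits MonoidalCategory CartesianMonoidalCategory MonObj AlgebraicGeometry Topology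

namespace Groth.Agent.Lib.ActSep

open Groth.Agent.Lib.GrpSch

/-- An open containing a rational point which is locally of finite type makes the group locally of finite type. -/
theorem locallyOfFiniteType_of_rational {K : Type u} [Field K] (G : Over (Spec (CommRingCat.of K))) [GrpObj G]
    (W : G.left.Opens) [LocallyOfFiniteType (W.ι ≫ G.hom)] (w : 𝟙_ (Over (Spec (CommRingCat.of K))) ⟶ G)
    (hw : ∀ p, w.left p ∈ W) : LocallyOfFiniteType G.hom := by
  let w' : G ⊗ G ⟶ G := toUnit _ ≫ w
  let Φ : G ⊗ G ≅ G ⊗ G :=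
    { hom := lift (fst G G) (w' * ((fst G G)⁻¹ * snd G G))
      inv := lift (fst G G) (fst G G * (w'⁻¹ * snd G G))
      hom_inv_id := CartesianMonoidalCategory.hom_ext _ _
        (by simp) (by simp [w', MonObj.comp_mul, GrpObj.comp_inv, _root_.mul_assoc])
      inv_hom_id := CartesianMonoidalCategory.hom_ext _ _
        (by simp) (by simp [w', MonObj.comp_mul, GrpObj.comp_inv, _root_.mul_assoc]) }
  have : IsIso Φ.hom.left := inferInstanceAs (IsIso ((Over.forget _).mapIso Φ).hom)
  let P : (G ⊗ G).left.Opens := (snd G G).left ⁻¹ᵁ W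
  have hP : LocallyOfFiniteType (P.ι ≫ (fst G G).left) :=
    MorphismProperty.of_isPullback
      ((isPullback_morphismRestrict (snd G G).left W).paste_vert (IsPullback.of_hasPullback G.hom G.hom).flip)
      ‹LocallyOfFiniteType (W.ι ≫ G.hom)›
  refine LftDiag.locallyOfFiniteType_of_diag G.hom fun x => ⟨Φ.hom.left ⁻¹ᵁ P, ?_, ?_⟩
  · show (snd G G).left (Φ.hom.left (pullback.diagonal G.hom x)) ∈ W
    have e : pullback.diagonal G.hom = (lift (𝟙 G) (𝟙 G)).left := by
      apply pullback.hom_ext
      · rw [pullback.diagonal_fst]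
        exact (congrArg CommaMorphism.left (lift_fst (𝟙 G) (𝟙 G))).symm.trans rfl
      · rw [pullback.diagonal_snd]
        exact (congrArg CommaMorphism.left (lift_snd (𝟙 G) (𝟙 G))).symm.trans rfl
    rw [e]
    show ((lift (𝟙 G) (𝟙 G)).left ≫ Φ.hom.left ≫ (snd G G).left) x ∈ W
    rw [← Over.comp_left, ← Over.comp_left,
      show lift (𝟙 G) (𝟙 G) ≫ Φ.hom ≫ snd G G = toUnit G ≫ w by simp [Φ, w', MonObj.comp_mul, GrpObj.comp_inv],
      Over.comp_left, Scheme.Hom.comp_apply]
    exact hw _
  · show LocallyOfFiniteType ((Φ.hom.left ⁻¹ᵁ P).ι ≫ (fst G G).left)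
    have e : Φ.hom ≫ fst G G = fst G G := lift_fst _ _
    rw [← e, Over.comp_left, ← morphismRestrict_ι_assoc]
    exact (MorphismProperty.cancel_left_of_respectsIso _ _ _).2 hP

/-- Over a field. -/
theorem locallyOfFiniteType_of_open_field {k : Type u} [Field k] (G : Over (Spec (CommRingCat.of k))) [GrpObj G]
    (W : G.left.Opens) (hW : (W : Set G.left).Nonempty) [LocallyOfFiniteType (W.ι ≫ G.hom)] :
    LocallyOfFiniteType G.hom := by
  let K := AlgebraicClosure k
  let r : Spec (CommRingCat.of K) ⟶ Spec (CommRingCat.of k) := Spec.map (CommRingCat.ofHom (algebraMap k K))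
  let G' := Red.bc r G
  let W' : G'.left.Opens := pullback.fst G.hom r ⁻¹ᵁ W
  have : LocallyOfFiniteType (W'.ι ≫ G'.hom) :=
    MorphismProperty.of_isPullback
      ((isPullback_morphismRestrict (pullback.fst G.hom r) W).paste_vert (IsPullback.of_hasPullback G.hom r))
      ‹LocallyOfFiniteType (W.ι ≫ G.hom)›
  obtain ⟨w, hw⟩ := hW
  have : Surjective r := ⟨fun x => ⟨IsLocalRing.closedPoint K, Subsingleton.elim (α := PrimeSpectrum k) _ _⟩⟩
  obtain ⟨z, rfl⟩ := (pullback.fst G.hom r).surjective w
  let π : (W' : Scheme.{u}) ⟶ Spec (CommRingCat.of K) := W'.ι ≫ G'.hom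
  have : JacobsonSpace (W' : Scheme.{u}) := LocallyOfFiniteType.jacobsonSpace π
  obtain ⟨c, -, hc⟩ := nonempty_inter_closedPoints (X := (W' : Scheme.{u})) ⟨⟨z, hw⟩, Set.mem_univ _⟩
    isClosed_univ.isLocallyClosed
  let q : 𝟙_ (Over (Spec (CommRingCat.of K))) ⟶ G' := Over.homMk (pointOfClosedPoint π c hc ≫ W'.ι) (by
    rw [Category.assoc]; exact pointOfClosedPoint_comp π c hc)
  have : LocallyOfFiniteType G'.hom := locallyOfFiniteType_of_rational G' W' q fun p => by
    show W'.ι (pointOfClosedPoint π c hc p) ∈ W'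
    exact (pointOfClosedPoint π c hc p).2
  refine MorphismProperty.of_pullback_snd_of_descendsAlong (P := @LocallyOfFiniteType)
    (Q := @Surjective ⊓ @Flat ⊓ @QuasiCompact) (f := G.hom) (g := r) ⟨⟨‹_›, ?_⟩, inferInstance⟩ ‹_›
  show Flat (Spec.map _)
  rw [HasRingHomProperty.Spec_iff (P := @Flat)]
  exact RingHom.flat_algebraMap_iff.2 inferInstance

/-- Over an artinian local ring. -/
theorem locallyOfFiniteType_of_open {A : Type u} [CommRing A] [IsArtinianRing A] [IsLocalRing A]
    (G : Over (Spec (CommRingCat.of A))) [GrpObj G] (W : G.left.Opens) (hW : (W : Set G.left).Nonempty)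
    [LocallyOfFiniteType (W.ι ≫ G.hom)] : LocallyOfFiniteType G.hom := by
  let k := IsLocalRing.ResidueField A
  let i : Spec (CommRingCat.of k) ⟶ Spec (CommRingCat.of A) := Spec.map (CommRingCat.ofHom (IsLocalRing.residue A))
  have : IsClosedImmersion i := IsClosedImmersion.spec_of_surjective _ IsLocalRing.residue_surjective
  have : Surjective i := ⟨fun x => ⟨IsLocalRing.closedPoint k, Subsingleton.elim (α := PrimeSpectrum A) _ _⟩⟩
  let G₀ := Red.bc i G
  let W₀ : G₀.left.Opens := pullback.fst G.hom i ⁻¹ᵁ W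
  have : LocallyOfFiniteType (W₀.ι ≫ G₀.hom) :=
    MorphismProperty.of_isPullback
      ((isPullback_morphismRestrict (pullback.fst G.hom i) W).paste_vert (IsPullback.of_hasPullback G.hom i))
      ‹LocallyOfFiniteType (W.ι ≫ G.hom)›
  obtain ⟨w, hw⟩ := hW
  obtain ⟨z, rfl⟩ := (pullback.fst G.hom i).surjective w
  have : LocallyOfFiniteType (pullback.snd G.hom i) := locallyOfFiniteType_of_open_field G₀ W₀ ⟨z, hw⟩
  exact Groth.Agent.S2305.result G.hom i

end Groth.Agent.Lib.ActSep
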