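import Mathlib.AlgebraicGeometry.Morphisms.Flat
import Mathlib.AlgebraicGeometry.Morphisms.Descent
import Mathlib.AlgebraicGeometry.Morphisms.QuasiCompact
import Mathlib.AlgebraicGeometry.Morphisms.QuasiSeparated

/-!
The largest open of the target over which a descending property holds commutes with flat open base change.
-/

universe u

open CategoryTheory Limits AlgebraicGeometry TopologicalSpace Opposite

namespace Groth.Agent.Lib.ActSep

variable (P : MorphismProperty Scheme.{u}) [P.IsStableUnderBaseChange] [IsZariskiLocalAtTarget P]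

theorem property_restrict_of_base_change_restrict [P.DescendsAlong (@Flat ⊓ @Surjective ⊓ @QuasiCompact)]
    {X Y Y' X' : Scheme.{u}} {f : X ⟶ Y} {g : Y' ⟶ Y} {eX : X' ⟶ X} {f' : X' ⟶ Y'}
    (sq : IsPullback eX f' f g) [Flat g] (W₁ : Y'.Opens) (hW₁ : P (f' ∣_ W₁))
    (V : Y.Opens) (hV : IsAffineOpen V) (hVW : (V : Set Y) ⊆ g '' (W₁ : Set Y')) (hg : IsOpenMap g) :
    P (f ∣_ V) := by
  -- a quasi-compact open of `W₁` mapping onto `V`
  have hcov : (V : Set Y) ⊆ ⋃ O : {O : Y'.Opens // IsAffineOpen O ∧ O ≤ W₁ ⊓ g ⁻¹ᵁ V}, g '' (O.1 : Set Y') := by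
    intro v hv
    obtain ⟨w, hw, rfl⟩ := hVW hv
    obtain ⟨O, hO, hwO, hOW⟩ := exists_isAffineOpen_mem_and_subset (X := Y') (x := w) (U := W₁ ⊓ g ⁻¹ᵁ V) ⟨hw, hv⟩
    exact Set.mem_iUnion.2 ⟨⟨O, hO, hOW⟩, w, hwO, rfl⟩
  obtain ⟨F, hF⟩ := hV.isCompact.elim_finite_subcover
    (fun O : {O : Y'.Opens // IsAffineOpen O ∧ O ≤ W₁ ⊓ g ⁻¹ᵁ V} => g '' (O.1 : Set Y'))
    (fun O => hg _ O.1.2) hcov
  let O : Y'.Opens := ⨆ o ∈ F, o.1
  have hOW : O ≤ W₁ ⊓ g ⁻¹ᵁ V := iSup₂_le fun o _ => o.2.2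
  have hOc : IsCompact (O : Set Y') := by
    have : (O : Set Y') = ⋃ o ∈ F, (o.1 : Set Y') := by simp [O]
    rw [this]
    exact F.finite_toSet.isCompact_biUnion fun o _ => o.2.1.isCompact
  let h : (O : Scheme.{u}) ⟶ V := IsOpenImmersion.lift V.ι (O.ι ≫ g) (by
    rintro _ ⟨z, rfl⟩
    rw [Scheme.Opens.range_ι]
    exact (hOW z.2).2)
  have hh : h ≫ V.ι = O.ι ≫ g := IsOpenImmersion.lift_fac _ _ _
  have hflat : Flat h := by
    have : Flat (h ≫ V.ι) := by rw [hh]; infer_instance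
    exact MorphismProperty.of_postcomp (W := @Flat) h V.ι V.instIsOpenImmersionι this
  have hsurj : Surjective h := ⟨fun v => by
    obtain ⟨o, ho, w, hw, hwv⟩ := Set.mem_iUnion₂.1 (hF v.2)
    have hwO : w ∈ O := Opens.mem_iSup.2 ⟨o, Opens.mem_iSup.2 ⟨ho, hw⟩⟩
    refine ⟨(⟨w, hwO⟩ : (O : Scheme.{u})), V.ι.isOpenEmbedding.injective ?_⟩
    rw [← Scheme.Hom.comp_apply, hh, Scheme.Hom.comp_apply]
    exact hwv⟩
  have hqc : QuasiCompact h := by
    have : IsAffine (V : Scheme.{u}) := hV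
    have : CompactSpace ↥(O : Scheme.{u}) := isCompact_iff_compactSpace.1 hOc
    exact (HasAffineProperty.iff_of_isAffine (P := @QuasiCompact)).2 inferInstance
  refine MorphismProperty.of_pullback_fst_of_descendsAlong (P := P) (Q := @Flat ⊓ @Surjective ⊓ @QuasiCompact)
    (f := h) (g := f ∣_ V) ⟨⟨hflat, hsurj⟩, hqc⟩ ?_
  -- the base change along `O` factors through `W₁`
  let j : (O : Scheme.{u}) ⟶ W₁ := Y'.homOfLE (hOW.trans inf_le_left)
  have big : IsPullback (pullback.snd h (f ∣_ V) ≫ (f ⁻¹ᵁ V).ι) (pullback.fst h (f ∣_ V)) f (O.ι ≫ g) := by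
    rw [← hh]
    exact (IsPullback.of_hasPullback h (f ∣_ V)).flip.paste_horiz (isPullback_morphismRestrict f V).flip
  let l := sq.lift (pullback.snd h (f ∣_ V) ≫ (f ⁻¹ᵁ V).ι) (pullback.fst h (f ∣_ V) ≫ O.ι)
    (by rw [big.w, Category.assoc])
  have mid : IsPullback l (pullback.fst h (f ∣_ V)) f' O.ι :=
    IsPullback.of_right (by rw [sq.lift_fst]; exact big) (sq.lift_snd _ _ _) sq
  have hW : IsPullback (pullback.fst (f' ∣_ W₁) j ≫ (f' ⁻¹ᵁ W₁).ι) (pullback.snd (f' ∣_ W₁) j) f' O.ι := by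
    rw [← Y'.homOfLE_ι (hOW.trans inf_le_left)]
    exact (IsPullback.of_hasPullback (f' ∣_ W₁) j).paste_horiz (isPullback_morphismRestrict f' W₁).flip
  rw [← mid.isoIsPullback_hom_snd _ _ hW]
  exact (MorphismProperty.cancel_left_of_respectsIso P _ _).2 (MorphismProperty.pullback_snd _ _ hW₁)

/-- The largest open over which `P` holds commutes with flat open base change. -/
theorem maxTarget_baseChange [P.DescendsAlong (@Flat ⊓ @Surjective ⊓ @QuasiCompact)]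
    {X Y Y' X' : Scheme.{u}} {f : X ⟶ Y} {g : Y' ⟶ Y} {eX : X' ⟶ X} {f' : X' ⟶ Y'}
    (sq : IsPullback eX f' f g) [Flat g] (hg : IsOpenMap g)
    (W : Y.Opens) (hW : P (f ∣_ W)) (hmax : ∀ W₀ : Y.Opens, P (f ∣_ W₀) → W₀ ≤ W)
    (W₁ : Y'.Opens) (hW₁ : P (f' ∣_ W₁)) (hmax₁ : ∀ W₀ : Y'.Opens, P (f' ∣_ W₀) → W₀ ≤ W₁) :
    W₁ = g ⁻¹ᵁ W := by
  refine le_antisymm (fun w hw => ?_) (hmax₁ _ ?_)
  · obtain ⟨V, hV, hwV, hVW⟩ := exists_isAffineOpen_mem_and_subset (X := Y) (x := g w)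
      (U := ⟨g '' (W₁ : Set Y'), hg _ W₁.2⟩) ⟨w, hw, rfl⟩
    exact hmax V (property_restrict_of_base_change_restrict P sq W₁ hW₁ V hV hVW hg) hwV
  · have big : IsPullback ((f' ⁻¹ᵁ (g ⁻¹ᵁ W)).ι ≫ eX) (f' ∣_ (g ⁻¹ᵁ W)) f ((g ⁻¹ᵁ W).ι ≫ g) :=
      (isPullback_morphismRestrict f' (g ⁻¹ᵁ W)).flip.paste_horiz sq
    rw [← morphismRestrict_ι g W] at big
    let l := (isPullback_morphismRestrict f W).flip.lift ((f' ⁻¹ᵁ (g ⁻¹ᵁ W)).ι ≫ eX)
      (f' ∣_ (g ⁻¹ᵁ W) ≫ g ∣_ W) (by rw [big.w, Category.assoc])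
    have : IsPullback l (f' ∣_ (g ⁻¹ᵁ W)) (f ∣_ W) (g ∣_ W) :=
      IsPullback.of_right (by rw [IsPullback.lift_fst]; exact big) (IsPullback.lift_snd _ _ _ _)
        (isPullback_morphismRestrict f W).flip
    exact MorphismProperty.of_isPullback this hW

end Groth.Agent.Lib.ActSep
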