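import Groth.Agent.Lib.ActSep.Neutral

/-!
Every point of the neutral component is a quotient of two points of any open containing the unit section.
-/

universe u

open CategoryTheory Limits MonoidalCategory CartesianMonoidalCategory MonObj AlgebraicGeometry

namespace Groth.Agent.Lib.ActSep

open Groth.Agent.Lib.GrpSch

variable {S : Scheme.{u}} (G : Over S) [GrpObj G]

theorem exists_div_of_mem_neutralSet (O : G.left.Opens) {g : G.left}
    (hlft : LocallyOfFiniteType (G.hom.fiberToSpecResidueField (G.hom g)))
    (hO : η[G].left (G.hom g) ∈ O) (hg : g ∈ SGA3x.neutralSet G) :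
    ∃ (T : Over S) (a b : T ⟶ G) (p : T.left), a.left p ∈ O ∧ b.left p ∈ O ∧ (a * b⁻¹).left p = g := by
  let K := AlgebraicClosure (G.left.residueField g)
  let r : Spec (CommRingCat.of K) ⟶ G.left :=
    Spec.map (CommRingCat.ofHom (algebraMap (G.left.residueField g) K)) ≫ G.left.fromSpecResidueField g
  have hr : ∀ v, r v = g := fun v =>
    (Scheme.Hom.comp_apply _ _ _).trans (Scheme.fromSpecResidueField_apply _ _)
  let t := r ≫ G.hom
  let T := Over.mk t
  let h : T ⟶ G := Over.homMk r rfl
  let p := IsLocalRing.closedPoint K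
  have htp : t p = G.hom g := by rw [Scheme.Hom.comp_apply, hr]
  have : LocallyOfFiniteType (snd G T).left := by
    obtain ⟨⟨s, φ⟩, hφ⟩ := (Scheme.SpecToEquivOfField K S).symm.surjective t
    have hs : s = G.hom g := by
      rw [← htp, ← hφ]
      exact ((Scheme.Hom.comp_apply _ _ _).trans (Scheme.fromSpecResidueField_apply _ _)).symm
    subst hs
    have ht : t = Spec.map φ ≫ S.fromSpecResidueField _ := hφ.symm
    let q : (G ⊗ T).left ⟶ G.hom.fiber (G.hom g) :=
      pullback.lift (fst G T).left ((snd G T).left ≫ Spec.map φ) (by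
        rw [Category.assoc, ← ht]
        exact pullback.condition)
    have hq : IsPullback q (snd G T).left (G.hom.fiberToSpecResidueField (G.hom g)) (Spec.map φ) := by
      refine IsPullback.of_right ?_ (pullback.lift_snd _ _ _)
        (IsPullback.of_hasPullback G.hom (S.fromSpecResidueField (G.hom g)))
      rw [show q ≫ pullback.fst G.hom (S.fromSpecResidueField (G.hom g)) = (fst G T).left from
        pullback.lift_fst _ _ _, ← ht]
      exact isPullback_left G T
    exact MorphismProperty.of_isPullback (P := @LocallyOfFiniteType) hq hlft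
  have : JacobsonSpace (G ⊗ T).left := LocallyOfFiniteType.jacobsonSpace (Y := Spec (CommRingCat.of K)) (snd G T).left
  let O' : Set (G ⊗ T).left := (fst G T).left ⁻¹' O
  have hO' : IsOpen O' := O.2.preimage (fst G T).left.continuous
  have h1 : genOne G t ∈ O' := by
    refine (genOne_specializes G t).mem_open hO' ?_
    show (fst G T).left (pt t (1 : T ⟶ G)) ∈ O
    rw [fst_pt_one, htp]; exact hO
  have hh : genOne G t ⤳ pt t h := by
    rw [specializes_iff_mem_closure, ← preimage_neutralSet]
    show (fst G T).left ((lift h (𝟙 T)).left p) ∈ SGA3x.neutralSet G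
    rw [← Scheme.Hom.comp_apply, ← Over.comp_left, lift_fst]
    show r p ∈ _
    rw [hr]; exact hg
  have hfix : IsOpen ((mulL h).left ⁻¹' O') := hO'.preimage (mulL h).left.continuous
  -- `genOne` is moved to a generalisation of `h`, hence fixed
  have h2 : genOne G t ∈ (mulL h).left ⁻¹' O' := by
    have e := (genOne_specializes G t).map (mulL h).left.continuous
    rw [mulL_pt, _root_.mul_one] at e
    show (mulL h).left (genOne G t) ∈ O'
    rw [maxPt_unique G t (isMaxPt_mulL t h (isMaxPt_genOne G t)) (isMaxPt_genOne G t) e hh]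
    exact h1
  obtain ⟨c, ⟨hc1, hc2⟩, hccl⟩ := nonempty_inter_closedPoints (Z := O' ∩ (mulL h).left ⁻¹' O')
    ⟨_, h1, h2⟩ (hO'.inter hfix).isLocallyClosed
  let π : (G ⊗ T).left ⟶ Spec (CommRingCat.of K) := (snd G T).left
  have : LocallyOfFiniteType π := ‹LocallyOfFiniteType (snd G T).left›
  let q : T ⟶ G ⊗ T := Over.homMk (pointOfClosedPoint π c hccl) (by
    rw [← Over.w (snd G T), ← Category.assoc]
    exact (congrArg (· ≫ t) (pointOfClosedPoint_comp π c hccl)).trans (Category.id_comp t))
  have hq : q = lift (q ≫ fst G T) (𝟙 _) := by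
    refine CartesianMonoidalCategory.hom_ext _ _ (by simp) (Over.OverMorphism.ext ?_)
    rw [lift_snd, Over.comp_left]
    exact pointOfClosedPoint_comp π c hccl
  have hcq : pt t (q ≫ fst G T) = c := by
    rw [pt, ← hq]; exact pointOfClosedPoint_apply π c hccl _
  rw [← hcq] at hc1 hc2
  rw [Set.mem_preimage, mulL_pt] at hc2
  refine ⟨T, h * (q ≫ fst G T), q ≫ fst G T, p, ?_, ?_, ?_⟩
  · have : (lift (h * (q ≫ fst G T)) (𝟙 T) ≫ fst G T).left p ∈ O := hc2
    rwa [lift_fst] at this
  · have : (lift (q ≫ fst G T) (𝟙 T) ≫ fst G T).left p ∈ O := hc1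
    rwa [lift_fst] at this
  · rw [mul_inv_cancel_right]
    exact hr p

end Groth.Agent.Lib.ActSep
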