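import Groth.Agent.Lib.ActSep.Exists
import Groth.Agent.H63.GrpConnected
import Mathlib.RingTheory.Spectrum.Prime.ConstructibleSet

/-!
Orbits of the neutral component in the geometric fibres of a homogeneous space.
-/

universe u

open CategoryTheory Limits MonoidalCategory CartesianMonoidalCategory MonObj AlgebraicGeometry

namespace Groth.Agent.Lib.ActSep

open Groth.Agent.Lib.GrpSch Groth.Agent.Lib.ActSep.MaxPt

/-- A compact open set of a quasi-separated scheme which is stable under specialisation is closed. -/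
theorem isClosed_of_isCompact_of_specializing {Y : Scheme.{u}} [QuasiSeparatedSpace Y] {C : Set Y}
    (hC : IsOpen C) (hCc : IsCompact C) (hs : StableUnderSpecialization C) : IsClosed C := by
  refine isClosed_of_closure_subset fun z hz => ?_
  obtain ⟨A, hA, hzA, -⟩ := exists_isAffineOpen_mem_and_subset (U := ⊤) (x := z) trivial
  let f := hA.fromSpec
  have hcomp : IsCompact (f ⁻¹' C) := by
    rw [f.isOpenEmbedding.isInducing.isCompact_iff, Set.image_preimage_eq_inter_range]
    erw [hA.range_fromSpec]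
    exact QuasiSeparatedSpace.inter_isCompact _ _ hC hCc A.2 hA.isCompact
  have hcl : IsClosed (f ⁻¹' C) :=
    PrimeSpectrum.isClosed_of_stableUnderSpecialization_of_isConstructible
      (fun x y h hx => hs (h.map f.continuous) hx) (hcomp.isConstructible (hC.preimage f.continuous))
  obtain ⟨w, rfl⟩ : z ∈ Set.range f := by rw [hA.range_fromSpec]; exact hzA
  have : w ∈ closure (f ⁻¹' C) :=
    f.isOpenEmbedding.isOpenMap.preimage_closure_subset_closure_preimage hz
  rwa [hcl.closure_eq] at this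

variable {S : Scheme.{u}} {G X : Over S} [GrpObj G] {K : Type u} [Field K]
  (t : Spec (CommRingCat.of K) ⟶ S)

/-- The point of `G ⊗ Spec K` defined by a `K`-point of `G`. -/
noncomputable def pt (g : Over.mk t ⟶ G) : (G ⊗ Over.mk t).left :=
  (lift g (𝟙 (Over.mk t))).left (IsLocalRing.closedPoint K)

/-- Right translation of `G ⊗ T` by a point. -/
noncomputable def mulR {T : Over S} (h : T ⟶ G) : G ⊗ T ⟶ G ⊗ T :=
  lift (fst G T * (snd G T ≫ h)) (snd G T)

/-- Right translation as an isomorphism. -/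
noncomputable def mulRIso {T : Over S} (h : T ⟶ G) : G ⊗ T ≅ G ⊗ T where
  hom := mulR h
  inv := mulR h⁻¹
  hom_inv_id := by ext1 <;> simp [mulR, GrpObj.comp_inv, MonObj.comp_mul, _root_.mul_assoc]
  inv_hom_id := by ext1 <;> simp [mulR, GrpObj.comp_inv, MonObj.comp_mul, _root_.mul_assoc]

theorem mulL_pt (g h : Over.mk t ⟶ G) : (mulL h).left (pt t g) = pt t (h * g) := by
  rw [pt, pt, ← Scheme.Hom.comp_apply, ← Over.comp_left]
  simp [mulL, MonObj.comp_mul]

theorem mulR_pt (g h : Over.mk t ⟶ G) : (mulR h).left (pt t g) = pt t (g * h) := by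
  rw [pt, pt, ← Scheme.Hom.comp_apply, ← Over.comp_left]
  simp [mulR, MonObj.comp_mul]

theorem isMaxPt_mulL (h : Over.mk t ⟶ G) {ξ : (G ⊗ Over.mk t).left} (hξ : IsMaxPt ξ) :
    IsMaxPt ((mulL h).left ξ) :=
  isMaxPt_homeo ((Over.forget S).mapIso (mulLIso h)).hom.homeomorph hξ

theorem isMaxPt_mulR (h : Over.mk t ⟶ G) {ξ : (G ⊗ Over.mk t).left} (hξ : IsMaxPt ξ) :
    IsMaxPt ((mulR h).left ξ) :=
  isMaxPt_homeo ((Over.forget S).mapIso (mulRIso h)).hom.homeomorph hξ

section

variable (G)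

/-- In a group scheme over a field every point has at most one maximal generalisation. -/
theorem maxPt_unique {ξ ξ' c : (G ⊗ Over.mk t).left} (h : IsMaxPt ξ) (h' : IsMaxPt ξ')
    (hc : ξ ⤳ c) (hc' : ξ' ⤳ c) : ξ = ξ' := by
  let H : Over (Spec (CommRingCat.of K)) := (Over.pullback t).obj G
  let : GrpObj H := ((Over.pullback t).mapGrp.obj ⟨G⟩).grp
  obtain ⟨z, h1, h2⟩ := Groth.Agent.H63.GrpIrred.common_gen H (x := (c : H.left))
    (y₁ := ξ) (y₂ := ξ') hc hc'
  exact (h z h1).symm.trans (h' z h2)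

/-- The generic point of the neutral component. -/
noncomputable def genOne : (G ⊗ Over.mk t).left :=
  (exists_isMaxPt (G ⊗ Over.mk t).left (pt t (1 : Over.mk t ⟶ G))).choose

theorem isMaxPt_genOne : IsMaxPt (genOne G t) :=
  (exists_isMaxPt (G ⊗ Over.mk t).left (pt t (1 : Over.mk t ⟶ G))).choose_spec.1

theorem genOne_specializes : genOne G t ⤳ pt t (1 : Over.mk t ⟶ G) :=
  (exists_isMaxPt (G ⊗ Over.mk t).left (pt t (1 : Over.mk t ⟶ G))).choose_spec.2

variable {G}

theorem genOne_specializes_div {ξ : (G ⊗ Over.mk t).left} (hξ : IsMaxPt ξ) {g h : Over.mk t ⟶ G}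
    (hg : ξ ⤳ pt t g) (hh : ξ ⤳ pt t h) : genOne G t ⤳ pt t (h * g⁻¹) := by
  have h1 := hg.map (mulR g⁻¹).left.continuous
  have h2 := hh.map (mulR g⁻¹).left.continuous
  rw [mulR_pt, mul_inv_cancel] at h1
  rw [mulR_pt] at h2
  rwa [maxPt_unique G t (isMaxPt_genOne G t) (isMaxPt_mulR t g⁻¹ hξ) (genOne_specializes G t) h1]

variable [IsAlgClosed K] [LocallyOfFiniteType G.hom]

theorem exists_pt {c : (G ⊗ Over.mk t).left} (hc : c ∈ closedPoints (G ⊗ Over.mk t).left) :
    ∃ g : Over.mk t ⟶ G, pt t g = c := by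
  let T := Over.mk t
  let π : (G ⊗ T).left ⟶ Spec (CommRingCat.of K) := (snd G T).left
  have : LocallyOfFiniteType π := snd_left_of (P := @LocallyOfFiniteType) T ‹_›
  let q : T ⟶ G ⊗ T := Over.homMk (pointOfClosedPoint π c hc) (by
    rw [← Over.w (snd G T), ← Category.assoc]
    exact (congrArg (· ≫ t) (pointOfClosedPoint_comp π c hc)).trans (Category.id_comp t))
  refine ⟨q ≫ fst G T, ?_⟩
  have : q = lift (q ≫ fst G T) (𝟙 _) := by
    refine CartesianMonoidalCategory.hom_ext _ _ (by simp) (Over.OverMorphism.ext ?_)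
    rw [lift_snd, Over.comp_left]
    exact pointOfClosedPoint_comp π c hc
  rw [pt, ← this]
  exact pointOfClosedPoint_apply π c hc _

theorem exists_pt_mem {Z : Set (G ⊗ Over.mk t).left} (hne : Z.Nonempty) (hZ : IsLocallyClosed Z) :
    ∃ g : Over.mk t ⟶ G, pt t g ∈ Z := by
  let π : (G ⊗ Over.mk t).left ⟶ Spec (CommRingCat.of K) := (snd G (Over.mk t)).left
  have : LocallyOfFiniteType π := snd_left_of (P := @LocallyOfFiniteType) _ ‹_›
  have : JacobsonSpace (G ⊗ Over.mk t).left := LocallyOfFiniteType.jacobsonSpace π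
  obtain ⟨c, hc, hcl⟩ := nonempty_inter_closedPoints hne hZ
  obtain ⟨g, rfl⟩ := exists_pt t hcl
  exact ⟨g, hc⟩

theorem exists_pt_specializes (c : (G ⊗ Over.mk t).left) : ∃ g : Over.mk t ⟶ G, c ⤳ pt t g := by
  obtain ⟨g, hg⟩ := exists_pt_mem t ⟨c, subset_closure (Set.mem_singleton c)⟩ isClosed_closure.isLocallyClosed
  exact ⟨g, specializes_iff_mem_closure.2 hg⟩

/-- The closure of the generic point of the neutral component lies in a compact clopen set. -/
theorem exists_clopen_genOne : ∃ A : Set (G ⊗ Over.mk t).left, IsClopen A ∧ IsCompact A ∧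
    closure {genOne G t} ⊆ A := by
  let H : Over (Spec (CommRingCat.of K)) := (Over.pullback t).obj G
  let : GrpObj H := ((Over.pullback t).mapGrp.obj ⟨G⟩).grp
  obtain ⟨A, hA, hAc, he⟩ := Groth.Agent.H63.GrpConnected.exists_isClopen_isCompact H
  have : LocallyOfFiniteType H.hom := inferInstanceAs (LocallyOfFiniteType (pullback.snd G.hom t))
  have : IsClosedImmersion η[H].left :=
    isClosedImmersion_of_comp_eq_id (Y := Spec (CommRingCat.of K)) H.hom η[H].left (η_left_comp_hom H)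
  have hcl : IsClosed ({Groth.Agent.H63.GrpIrred.unitPt H} : Set H.left) := by
    have := η[H].left.isClosedEmbedding.isClosed_range
    rwa [show Set.range η[H].left = {Groth.Agent.H63.GrpIrred.unitPt H} from Set.ext fun y =>
      ⟨fun ⟨w, hw⟩ => hw ▸ congrArg η[H].left (Subsingleton.elim (α := Spec (CommRingCat.of K)) w _),
        fun h => ⟨_, h.symm⟩⟩] at this
  obtain ⟨g, hg⟩ := exists_pt (G := G) t (c := (Groth.Agent.H63.GrpIrred.unitPt H : H.left)) hcl
  let e := ((Over.forget S).mapIso (mulRIso (T := Over.mk t) g)).hom.homeomorph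
  refine ⟨e ⁻¹' A, hA.preimage e.continuous, e.isCompact_preimage.2 hAc,
    closure_minimal ?_ (hA.isClosed.preimage e.continuous)⟩
  refine Set.singleton_subset_iff.2 ((genOne_specializes G t).mem_open (hA.isOpen.preimage e.continuous) ?_)
  show (mulR g).left (pt t (1 : Over.mk t ⟶ G)) ∈ A
  rw [mulR_pt, _root_.one_mul, hg]
  exact he

/-- Translations by the neutral component fix every maximal point. -/
theorem mulL_fix {h : Over.mk t ⟶ G} (hh : genOne G t ⤳ pt t h) {ξ : (G ⊗ Over.mk t).left}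
    (hξ : IsMaxPt ξ) : (mulL h).left ξ = ξ := by
  obtain ⟨g, hg⟩ := exists_pt_specializes t ξ
  have h1 := (genOne_specializes G t).map (mulR g).left.continuous
  have h2 := hh.map (mulR g).left.continuous
  rw [mulR_pt, _root_.one_mul] at h1
  rw [mulR_pt] at h2
  have e : (mulR g).left (genOne G t) = ξ :=
    maxPt_unique G t (isMaxPt_mulR t g (isMaxPt_genOne G t)) hξ h1 hg
  have h3 := hg.map (mulL h).left.continuous
  rw [mulL_pt] at h3
  exact maxPt_unique G t (isMaxPt_mulL t h hξ) hξ h3 (e ▸ h2)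

theorem genOne_specializes_inv {h : Over.mk t ⟶ G} (hh : genOne G t ⤳ pt t h) :
    genOne G t ⤳ pt t h⁻¹ := by
  have := genOne_specializes_div t (isMaxPt_genOne G t) hh (genOne_specializes G t)
  rwa [_root_.one_mul] at this

variable (a : AlgGrp.Action G X) (hΦ : Surjective (lift a.act (snd G X)).left) (x : Over.mk t ⟶ X)
include hΦ x

theorem orb_pt_mulL (g h : Over.mk t ⟶ G) :
    (orb a x).left (pt t (h * g)) = (actL a h).left ((orb a x).left (pt t g)) := by
  rw [← mulL_pt, ← Scheme.Hom.comp_apply, ← Over.comp_left, mulL_orb, Over.comp_left,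
    Scheme.Hom.comp_apply]

theorem exists_max_lift {η' : (X ⊗ Over.mk t).left} (h : IsMaxPt η') :
    ∃ ξ, IsMaxPt ξ ∧ (orb a x).left ξ = η' := by
  have := surjective_orb a hΦ x
  obtain ⟨z, hz⟩ := (orb a x).left.surjective η'
  obtain ⟨ξ, hξ, hsp⟩ := exists_isMaxPt (G ⊗ Over.mk t).left z
  have h1 := hsp.map (orb a x).left.continuous
  rw [hz] at h1
  exact ⟨ξ, hξ, h _ h1⟩

theorem actL_fix {h : Over.mk t ⟶ G} (hh : genOne G t ⤳ pt t h) {η' : (X ⊗ Over.mk t).left}
    (hη : IsMaxPt η') : (actL a h).left η' = η' := by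
  obtain ⟨ξ, hξ, rfl⟩ := exists_max_lift t a hΦ x hη
  rw [← Scheme.Hom.comp_apply, ← Over.comp_left, ← mulL_orb, Over.comp_left, Scheme.Hom.comp_apply,
    mulL_fix t hh hξ]

/-- In a homogeneous space every point has a unique maximal generalisation. -/
theorem maxPt_unique_X {η₁ η₂ z : (X ⊗ Over.mk t).left} (h₁ : IsMaxPt η₁) (h₂ : IsMaxPt η₂)
    (hz₁ : η₁ ⤳ z) (hz₂ : η₂ ⤳ z) : η₁ = η₂ := by
  have := surjective_orb a hΦ x
  obtain ⟨c, rfl⟩ := (orb a x).left.surjective z
  obtain ⟨ξ, hξ, hc⟩ := exists_isMaxPt (G ⊗ Over.mk t).left c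
  have key : ∀ η' : (X ⊗ Over.mk t).left, IsMaxPt η' → η' ⤳ (orb a x).left c →
      η' = (orb a x).left ξ := by
    intro η' hη hsp
    have h0 : ξ ∈ (orb a x).left ⁻¹' closure {η'} := by
      by_contra hne
      have hopen : IsOpen ((orb a x).left ⁻¹' closure {η'})ᶜ :=
        (isClosed_closure.preimage (orb a x).left.continuous).isOpen_compl
      obtain ⟨h₁', hh₁⟩ := exists_pt_mem t (Z := ((orb a x).left ⁻¹' closure {η'})ᶜ ∩ closure {ξ}) ⟨ξ, hne, subset_closure (Set.mem_singleton ξ)⟩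
        (hopen.isLocallyClosed.inter isClosed_closure.isLocallyClosed)
      obtain ⟨g₀, hg₀⟩ := exists_pt_specializes t c
      apply hh₁.1
      have hd := genOne_specializes_div t hξ (hc.trans hg₀) (specializes_iff_mem_closure.2 hh₁.2)
      show (orb a x).left (pt t h₁') ∈ closure {η'}
      rw [show h₁' = h₁' * g₀⁻¹ * g₀ by group, orb_pt_mulL t a hΦ x, ← specializes_iff_mem_closure]
      have h5 := (hsp.trans (hg₀.map (orb a x).left.continuous)).map (actL a (h₁' * g₀⁻¹)).left.continuous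
      rwa [actL_fix t a hΦ x hd hη] at h5
    exact ((isMaxPt_orb a t hΦ x hξ) η' (specializes_iff_mem_closure.2 h0))
  rw [key η₁ h₁ hz₁, key η₂ h₂ hz₂]

/-- The points whose maximal generalisations lie in `W`. -/
def satW (W : Set (X ⊗ Over.mk t).left) : Set (X ⊗ Over.mk t).left :=
  {z | ∀ η', IsMaxPt η' → η' ⤳ z → η' ∈ W}

omit hΦ x in
theorem mem_satW_of_translate (hΦ : Surjective (lift a.act (snd G X)).left) (x : Over.mk t ⟶ X)
    {W : Set (X ⊗ Over.mk t).left} (hW : IsOpen W) {h : Over.mk t ⟶ G}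
    (hh : genOne G t ⤳ pt t h) {z : (X ⊗ Over.mk t).left} (hz : (actL a h).left z ∈ W) :
    z ∈ satW t W := by
  intro η' hη hsp
  have := (hsp.map (actL a h).left.continuous).mem_open hW hz
  rwa [actL_fix t a hΦ x hh hη] at this

theorem exists_translate_of_mem_satW {W : Set (X ⊗ Over.mk t).left} (hW : IsOpen W)
    {z : (X ⊗ Over.mk t).left} (hz : z ∈ satW t W) :
    ∃ h : Over.mk t ⟶ G, genOne G t ⤳ pt t h ∧ (actL a h).left z ∈ W := by
  have := surjective_orb a hΦ x
  obtain ⟨c, rfl⟩ := (orb a x).left.surjective z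
  obtain ⟨ξ, hξ, hc⟩ := exists_isMaxPt (G ⊗ Over.mk t).left c
  have h0 := hz _ (isMaxPt_orb a t hΦ x hξ) (hc.map (orb a x).left.continuous)
  obtain ⟨h₁, hh₁⟩ := exists_pt_mem t (Z := (orb a x).left ⁻¹' W ∩ closure {ξ}) ⟨ξ, h0, subset_closure (Set.mem_singleton ξ)⟩
    ((hW.preimage (orb a x).left.continuous).isLocallyClosed.inter isClosed_closure.isLocallyClosed)
  obtain ⟨g₀, hg₀⟩ := exists_pt_specializes t c
  refine ⟨h₁ * g₀⁻¹, genOne_specializes_div t hξ (hc.trans hg₀) (specializes_iff_mem_closure.2 hh₁.2), ?_⟩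
  refine ((hg₀.map (orb a x).left.continuous).map (actL a (h₁ * g₀⁻¹)).left.continuous).mem_open hW ?_
  rw [← orb_pt_mulL t a hΦ x, inv_mul_cancel_right]
  exact hh₁.1

theorem isOpen_satW {W : Set (X ⊗ Over.mk t).left} (hW : IsOpen W) : IsOpen (satW t W) := by
  refine isOpen_iff_forall_mem_open.2 fun z hz => ?_
  obtain ⟨h, hh, hz'⟩ := exists_translate_of_mem_satW t a hΦ x hW hz
  exact ⟨(actL a h).left ⁻¹' W, fun z' hz' => mem_satW_of_translate t a hΦ x hW hh hz',
    hW.preimage (actL a h).left.continuous, hz'⟩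

theorem stableUnderSpecialization_satW (W : Set (X ⊗ Over.mk t).left) :
    StableUnderSpecialization (satW t W) := by
  intro y z hyz hy η' hη hsp
  obtain ⟨η₁, h₁, hy₁⟩ := exists_isMaxPt (X ⊗ Over.mk t).left y
  rw [maxPt_unique_X t a hΦ x hη h₁ hsp (hy₁.trans hyz)]
  exact hy η₁ h₁ hy₁

/-- The saturation of a compact open is compact. -/
theorem isCompact_satW (W : (X ⊗ Over.mk t).left.Opens) (hWc : IsCompact (W : Set (X ⊗ Over.mk t).left)) :
    IsCompact (satW t (W : Set (X ⊗ Over.mk t).left)) := by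
  let T := Over.mk t
  have : IsAffine T.left := inferInstanceAs (IsAffine (Spec (CommRingCat.of K)))
  have : IsIntegral T.left := inferInstanceAs (IsIntegral (Spec (CommRingCat.of K)))
  have : Subsingleton T.left := inferInstanceAs (Subsingleton ↥(Spec (CommRingCat.of K)))
  let Wo : Over S := Over.mk (W.ι ≫ (X ⊗ T).hom)
  let j : Wo ⟶ X ⊗ T := Over.homMk W.ι rfl
  let fw : Wo ⟶ T := j ≫ snd X T
  have : CompactSpace ↥(W : Scheme.{u}) := isCompact_iff_compactSpace.1 hWc
  have hqc : QuasiCompact fw.left := (HasAffineProperty.iff_of_isAffine (P := @QuasiCompact)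
    (f := (fw.left : (W : Scheme.{u}) ⟶ Spec (CommRingCat.of K)))).2 ‹_›
  have : QuasiCompact (G ◁ fw).left := whiskerLeft_left_of (P := @QuasiCompact) G fw hqc
  obtain ⟨A, hA, hAc, hCA⟩ := exists_clopen_genOne (G := G) t
  let P : Set (G ⊗ Wo).left := (G ◁ fw).left ⁻¹' closure {genOne G t}
  have hPc : IsCompact P := by
    refine IsCompact.of_isClosed_subset (s := (G ◁ fw).left ⁻¹' A) ?_
      (isClosed_closure.preimage (G ◁ fw).left.continuous) (Set.preimage_mono hCA)
    exact (G ◁ fw).left.isCompact_preimage (U := ⟨A, hA.isOpen⟩) hAc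
  let act' : G ⊗ (X ⊗ T) ⟶ X ⊗ T :=
    lift (lift (fst _ _) (snd _ _ ≫ fst X T) ≫ a.act) (snd _ _ ≫ snd X T)
  suffices h : satW t (W : Set (X ⊗ Over.mk t).left) = ((G ◁ j) ≫ act').left '' P by
    rw [h]
    exact hPc.image ((G ◁ j) ≫ act').left.continuous
  refine Set.Subset.antisymm (fun z hz => ?_) ?_
  · obtain ⟨h, hh, hzW⟩ := exists_translate_of_mem_satW t a hΦ x W.2 hz
    let s : Wo ⟶ G ⊗ Wo := lift (fw ≫ h⁻¹) (𝟙 Wo)
    refine ⟨s.left ⟨(actL a h).left z, hzW⟩, ?_, ?_⟩
    · show (G ◁ fw).left (s.left _) ∈ closure {genOne G t}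
      rw [← Scheme.Hom.comp_apply, ← Over.comp_left,
        show s ≫ (G ◁ fw) = fw ≫ lift h⁻¹ (𝟙 T) by ext1 <;> simp [s],
        Over.comp_left, Scheme.Hom.comp_apply, Subsingleton.elim (α := Spec (CommRingCat.of K))
          (fw.left _) (IsLocalRing.closedPoint K)]
      exact specializes_iff_mem_closure.1 (genOne_specializes_inv t hh)
    · rw [← Scheme.Hom.comp_apply, ← Over.comp_left,
        show s ≫ (G ◁ j) ≫ act' = j ≫ (actLIso a h).inv by
          ext1 <;> simp [s, act', fw, actLIso, actL, comp_lift_assoc, T],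
        Over.comp_left, Scheme.Hom.comp_apply]
      show (actLIso a h).inv.left ((actLIso a h).hom.left z) = z
      rw [← Scheme.Hom.comp_apply, ← Over.comp_left, Iso.hom_inv_id]
      rfl
  rintro _ ⟨q, hq, rfl⟩
  intro η' hη hsp
  let ρ₀ := (G ⊗ Wo).left.fromSpecResidueField q
  let L : Over S := Over.mk (ρ₀ ≫ (G ⊗ Wo).hom)
  let ρ : L ⟶ G ⊗ Wo := Over.homMk ρ₀ rfl
  let w : L ⟶ Wo := ρ ≫ snd G Wo
  obtain ⟨v⟩ : Nonempty ↥(Spec ((G ⊗ Wo).left.residueField q)) := inferInstance
  have : Subsingleton ↥L.left := inferInstanceAs (Subsingleton ↥(Spec ((G ⊗ Wo).left.residueField q)))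
  let r : (G ⊗ L).left := (lift (ρ ≫ fst G Wo) (𝟙 L)).left v
  have hr : (G ◁ w).left r = q := by
    rw [← Scheme.Hom.comp_apply, ← Over.comp_left,
      show lift (ρ ≫ fst G Wo) (𝟙 L) ≫ (G ◁ w) = ρ by ext1 <;> simp [w]]
    exact Scheme.fromSpecResidueField_apply q v
  let η₁ := (exists_isMaxPt (X ⊗ T).left (j.left (w.left v))).choose
  obtain ⟨hη₁, hsp₁⟩ := (exists_isMaxPt (X ⊗ T).left (j.left (w.left v))).choose_spec
  let l : L ⟶ T := w ≫ fw
  have hl : UniversallyOpen l.left :=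
    inferInstance
  have : UniversallyOpen (G ◁ l).left := whiskerLeft_left_of (P := @UniversallyOpen) G l hl
  let A' : G ⊗ L ⟶ X ⊗ T := (G ◁ w) ≫ (G ◁ j) ≫ act'
  have hD : A'.left r ∈ closure {η₁} := by
    by_contra hne
    obtain ⟨c', ⟨r', hr', rfl⟩, hc'⟩ : ((G ◁ l).left '' (A'.left ⁻¹' closure {η₁})ᶜ ∩ closure {genOne G t}).Nonempty := by
      refine ⟨(G ◁ l).left r, ⟨r, hne, rfl⟩, ?_⟩
      rw [show G ◁ l = (G ◁ w) ≫ (G ◁ fw) from MonoidalCategory.whiskerLeft_comp _ _ _, Over.comp_left,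
        Scheme.Hom.comp_apply, hr]
      exact hq
    have hopen : IsOpen ((G ◁ l).left '' (A'.left ⁻¹' closure {η₁})ᶜ) :=
      (G ◁ l).left.isOpenMap _ (isClosed_closure.preimage A'.left.continuous).isOpen_compl
    obtain ⟨h, ⟨r₁, hr₁, hr₁h⟩, hhcl⟩ := exists_pt_mem t (Z := (G ◁ l).left '' (A'.left ⁻¹' closure {η₁})ᶜ ∩ closure {genOne G t}) ⟨_, ⟨r', hr', rfl⟩, hc'⟩
      (hopen.isLocallyClosed.inter isClosed_closure.isLocallyClosed)
    apply hr₁
    let p₀ := (G ⊗ L).left.fromSpecResidueField r₁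
    let R : Over S := Over.mk (p₀ ≫ (G ⊗ L).hom)
    let p : R ⟶ G ⊗ L := Over.homMk p₀ rfl
    obtain ⟨v'⟩ : Nonempty ↥(Spec ((G ⊗ L).left.residueField r₁)) := inferInstance
    have hp : p.left v' = r₁ := Scheme.fromSpecResidueField_apply r₁ v'
    let σh : T ⟶ G ⊗ T := lift h (𝟙 T)
    have : IsClosedImmersion σh.left := by
      have : LocallyOfFiniteType (snd G T).left := snd_left_of (P := @LocallyOfFiniteType) T ‹_›
      exact isClosedImmersion_of_comp_eq_id (Y := Spec (CommRingCat.of K)) (snd G T).left σh.left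
        (congrArg CommaMorphism.left (lift_snd h (𝟙 T)))
    have : AlgebraicGeometry.IsReduced R.left := inferInstanceAs (AlgebraicGeometry.IsReduced (Spec ((G ⊗ L).left.residueField r₁)))
    obtain ⟨z₀, hz₀⟩ := Criterion.exists_lift_of_isImmersion ((p ≫ (G ◁ l)).left) σh.left (by
      rintro _ ⟨u, rfl⟩
      refine ⟨IsLocalRing.closedPoint K, ?_⟩
      rw [Subsingleton.elim (α := Spec ((G ⊗ L).left.residueField r₁)) u v', Over.comp_left,
        Scheme.Hom.comp_apply, hp, hr₁h]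
      rfl)
    have hz : (Over.homMk z₀ (by
        rw [← Over.w σh, ← Category.assoc, hz₀]; exact Over.w (p ≫ (G ◁ l))) : R ⟶ T) ≫ σh = p ≫ (G ◁ l) :=
      Over.OverMorphism.ext hz₀
    have hz1 := congrArg (· ≫ fst G T) hz
    have hz2 := congrArg (· ≫ snd G T) hz
    simp only [σh, Category.assoc, lift_fst, lift_snd, Category.comp_id, whiskerLeft_fst, whiskerLeft_snd] at hz1 hz2
    have e : p ≫ A' = p ≫ snd G L ≫ w ≫ j ≫ actL a h := by
      rw [hz2] at hz1
      simp only [A', act', l, fw, actL, Category.assoc] at hz1 ⊢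
      ext1 <;> simp [comp_lift_assoc, ← hz1]
    show A'.left r₁ ∈ closure {η₁}
    rw [← hp, ← Scheme.Hom.comp_apply, ← Over.comp_left, e, Over.comp_left, Over.comp_left, Over.comp_left,
      Over.comp_left, Scheme.Hom.comp_apply, Scheme.Hom.comp_apply, Scheme.Hom.comp_apply,
      Scheme.Hom.comp_apply, Subsingleton.elim (α := L.left) ((snd G L).left _) v, ← specializes_iff_mem_closure]
    have := hsp₁.map (actL a h).left.continuous
    rwa [actL_fix t a hΦ x (specializes_iff_mem_closure.2 hhcl) hη₁] at this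
  have e : A'.left r = ((G ◁ j) ≫ act').left q := by
    rw [show A' = (G ◁ w) ≫ ((G ◁ j) ≫ act') from rfl, Over.comp_left, Scheme.Hom.comp_apply, hr]
  rw [e, ← specializes_iff_mem_closure] at hD
  rw [maxPt_unique_X t a hΦ x hη hη₁ hsp hD]
  exact hsp₁.mem_open W.2 (w.left v).2

end

end Groth.Agent.Lib.ActSep
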