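import Groth.Prelude.Def_EGA43
import Groth.Agent.H46.Lift
import Groth.Agent.H46.UnibranchCrit
import Groth.Agent.H46.UnibranchDim1
import Groth.Agent.H46.AffineFib
import Groth.Agent.Lib.Excellent.GenericNormal
import Mathlib.AlgebraicGeometry.AffineSpace
import Groth.Agent.Lib.Flat55.FibreTransfer
import Mathlib.RingTheory.Valuation.ValuationRing
import Mathlib.RingTheory.Bezout
import Mathlib.Algebra.GCDMonoid.IntegrallyClosed
import Mathlib.RingTheory.Valuation.Integral

/-!
Quasi-finite morphisms to affine space and universal openness (EGA IV 14.5, case of a valuation ring).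
-/

universe u

open CategoryTheory Limits AlgebraicGeometry Topology
open Groth.Agent.H46 Groth.Agent.H46.FibreTrdeg Groth.Agent.Lib.Cyc

set_option autoImplicit false
set_option backward.isDefEq.respectTransparency false
set_option backward.isDefEq.respectTransparency.types false

namespace Groth.Agent.Lib.ActSep

/-- Lifting of specializations inside one fibre along a base change. -/
theorem exists_lift_specializes_fibre {P X T Y : Scheme.{u}} {g' : P ⟶ X} {f' : P ⟶ T} {f : X ⟶ Y}
    {g : T ⟶ Y} (sq₀ : IsPullback g' f' f g) (p : P) (ζ : X) (hs : ζ ⤳ g' p) (hf : f ζ = f (g' p)) :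
    ∃ p', p' ⤳ p ∧ g' p' = ζ ∧ f' p' = f' p := by
  let t := f' p
  have ht : f (g' p) = g t := by rw [← Scheme.Hom.comp_apply, sq₀.w]; rfl
  let y := g t
  let s := Spec.map (g.residueFieldMap t)
  have hw : (pullback.fst (f.fiberToSpecResidueField y) s ≫ f.fiberι y) ≫ f =
      (pullback.snd (f.fiberToSpecResidueField y) s ≫ T.fromSpecResidueField t) ≫ g := by
    have c₁ : f.fiberι y ≫ f = f.fiberToSpecResidueField y ≫ Y.fromSpecResidueField y :=
      pullback.condition
    rw [Category.assoc, Category.assoc, c₁,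
      ← g.SpecMap_residueFieldMap_fromSpecResidueField t, pullback.condition_assoc]
  let l : pullback (f.fiberToSpecResidueField y) s ⟶ P := sq₀.lift _ _ hw
  have sq : IsPullback l (pullback.snd (f.fiberToSpecResidueField y) s) f'
      (T.fromSpecResidueField t) := by
    refine IsPullback.of_right ?_ (sq₀.lift_snd _ _ _) sq₀
    have h₁ : IsPullback (f.fiberι y) (f.fiberToSpecResidueField y) f (Y.fromSpecResidueField y) :=
      IsPullback.of_hasPullback f _
    rw [sq₀.lift_fst, ← g.SpecMap_residueFieldMap_fromSpecResidueField t]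
    exact (IsPullback.of_hasPullback _ _).paste_horiz h₁
  obtain ⟨v, hv⟩ : t ∈ Set.range (T.fromSpecResidueField t) := by
    rw [Scheme.range_fromSpecResidueField]; rfl
  obtain ⟨q, hq₁, hq₂⟩ :=
    Scheme.Pullback.exists_preimage_pullback (f := f') (g := T.fromSpecResidueField t) p v hv.symm
  let p₂ := sq.isoPullback.inv q
  have hp₁ : l p₂ = p := by
    rw [← Scheme.Hom.comp_apply, sq.isoPullback_inv_fst]; exact hq₁
  have hp₂ : f.fiberι y (pullback.fst (f.fiberToSpecResidueField y) s p₂) = g' p := by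
    rw [← Scheme.Hom.comp_apply, ← sq₀.lift_fst _ _ hw, Scheme.Hom.comp_apply, hp₁]
  obtain ⟨z, hz⟩ : ζ ∈ Set.range (f.fiberι y) := by
    rw [Scheme.Hom.range_fiberι]; exact hf.trans ht
  obtain ⟨p'', hp'', hpz⟩ := Flat.generalizingMap (pullback.fst (f.fiberToSpecResidueField y) s)
    (show z ⤳ pullback.fst (f.fiberToSpecResidueField y) s p₂ by
      rw [← (f.fiberι y).isEmbedding.isInducing.specializes_iff, hz, hp₂]; exact hs)
  refine ⟨l p'', ?_, ?_, ?_⟩
  · rw [← hp₁]; exact hp''.map l.continuous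
  · rw [← hz, ← hpz, ← Scheme.Hom.comp_apply, sq₀.lift_fst]; rfl
  · show f' (l p'') = t
    rw [← Scheme.Hom.comp_apply, sq₀.lift_snd, Scheme.Hom.comp_apply]
    exact (Scheme.range_fromSpecResidueField t).le ⟨_, rfl⟩

section poly

variable {V : Type u} [CommRing V] [IsDomain V] [ValuationRing V] {ι : Type u}

/-- Over a valuation ring a prime of a polynomial ring meeting the base in zero and contained in the
generic prime of the special fibre is zero. -/
theorem eq_bot_of_comap_eq_bot (P : Ideal (MvPolynomial ι V)) [P.IsPrime]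
    (hP : P.comap MvPolynomial.C = ⊥)
    (hle : P ≤ (IsLocalRing.maximalIdeal V).map MvPolynomial.C) : P = ⊥ := by
  classical
  rw [eq_bot_iff]
  intro p hp
  by_contra h0
  change p ≠ 0 at h0
  have key : ∀ s : Finset (ι →₀ ℕ), s.Nonempty → ∃ d ∈ s, ∀ e ∈ s, p.coeff d ∣ p.coeff e := by
    intro s hs
    induction hs using Finset.Nonempty.cons_induction with
    | singleton a => exact ⟨a, by simp, by simp⟩
    | cons a t ha ht ih =>
      obtain ⟨d, hd, h⟩ := ih
      rcases ValuationRing.dvd_total (p.coeff a) (p.coeff d) with h' | h'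
      · exact ⟨a, by simp, fun e he => by
          rcases Finset.mem_cons.mp he with rfl | he
          exacts [dvd_rfl, h'.trans (h e he)]⟩
      · exact ⟨d, by simp [hd], fun e he => by
          rcases Finset.mem_cons.mp he with rfl | he
          exacts [h', h e he]⟩
  obtain ⟨d, hd, hdiv⟩ := key p.support (MvPolynomial.support_nonempty.mpr h0)
  obtain ⟨p₁, h₁⟩ := (MvPolynomial.C_dvd_iff_dvd_coeff (p.coeff d) p).mpr fun e => by
    by_cases he : e ∈ p.support
    · exact hdiv e he
    · rw [MvPolynomial.notMem_support_iff.mp he]; exact dvd_zero _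
  have hc : p.coeff d ≠ 0 := MvPolynomial.mem_support_iff.mp hd
  have hp₁ : p₁ ∈ P := by
    refine (Ideal.IsPrime.mem_or_mem ‹P.IsPrime› (h₁ ▸ hp)).resolve_left fun h => hc ?_
    have : p.coeff d ∈ P.comap MvPolynomial.C := h
    rw [hP] at this
    exact this
  have hone : p₁.coeff d = 1 := by
    have := congrArg (fun q => q.coeff d) h₁
    simp only [MvPolynomial.coeff_C_mul] at this
    exact mul_left_cancel₀ hc (by rw [← this, mul_one])
  have := MvPolynomial.mem_map_C_iff.mp (hle hp₁) d
  rw [hone] at this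
  exact (IsLocalRing.maximalIdeal.isMaximal V).ne_top ((Ideal.eq_top_iff_one _).mpr this)

end poly

section space

variable {V : Type u} [CommRing V] [IsDomain V] [ValuationRing V] {ι : Type u} [Finite ι]

/-- A point of affine space over a valuation ring lying over the generic point and specializing to
the generic point of the special fibre is the generic point. -/
theorem specializes_of_generic (a b : 𝔸(ι; Spec (CommRingCat.of V))) (hba : b ⤳ a)
    (ha : (𝔸(ι; Spec (CommRingCat.of V)) ↘ Spec (CommRingCat.of V)) a = IsLocalRing.closedPoint V)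
    (hmax : IsMaxFib (𝔸(ι; Spec (CommRingCat.of V)) ↘ Spec (CommRingCat.of V)) a)
    (hb : (𝔸(ι; Spec (CommRingCat.of V)) ↘ Spec (CommRingCat.of V)) b =
      genericPoint (Spec (CommRingCat.of V))) (c : 𝔸(ι; Spec (CommRingCat.of V))) : b ⤳ c := by
  let e := AffineSpace.SpecIso ι (CommRingCat.of V)
  have he : ∀ d, (𝔸(ι; Spec (CommRingCat.of V)) ↘ Spec (CommRingCat.of V)) d =
      PrimeSpectrum.comap (MvPolynomial.C : V →+* MvPolynomial ι V) (e.hom d) := fun d => by
    rw [← Iso.hom_inv_id_assoc e (𝔸(ι; Spec (CommRingCat.of V)) ↘ Spec (CommRingCat.of V)),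
      AffineSpace.SpecIso_inv_over]
    rfl
  let A : PrimeSpectrum (MvPolynomial ι V) := e.hom a
  let B : PrimeSpectrum (MvPolynomial ι V) := e.hom b
  let m := IsLocalRing.maximalIdeal V
  have hmC : (m.map (MvPolynomial.C : V →+* MvPolynomial ι V)).IsPrime := by
    rw [← Ideal.mk_ker (I := m), ← MvPolynomial.ker_map]
    exact RingHom.ker_isPrime _
  let A₀ : PrimeSpectrum (MvPolynomial ι V) := ⟨_, hmC⟩
  have hAm : A.asIdeal.comap MvPolynomial.C = m :=
    congrArg PrimeSpectrum.asIdeal ((he a).symm.trans ha)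
  have hA₀le : A₀.asIdeal ≤ A.asIdeal := Ideal.map_le_iff_le_comap.mpr hAm.ge
  have hA : A₀ = A := by
    have hs : e.inv A₀ ⤳ a := by
      have h := ((PrimeSpectrum.le_iff_specializes A₀ A).1 hA₀le).map e.inv.continuous
      rwa [show e.inv A = a by rw [← Scheme.Hom.comp_apply, e.hom_inv_id]; rfl] at h
    have h0 : e.hom (e.inv A₀) = A₀ := by rw [← Scheme.Hom.comp_apply, e.inv_hom_id]; rfl
    have heq : e.inv A₀ = a := by
      refine hmax _ ?_ hs
      rw [ha, he, h0]
      refine PrimeSpectrum.ext (le_antisymm ?_ ?_)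
      · exact (Ideal.comap_mono hA₀le).trans hAm.le
      · exact Ideal.le_comap_map
    rw [← h0, heq]
  have hBbot : B.asIdeal.comap MvPolynomial.C = ⊥ := by
    have := congrArg PrimeSpectrum.asIdeal ((he b).symm.trans hb)
    rw [genericPoint_eq_bot_of_affine] at this
    exact this
  have hBA : B.asIdeal ≤ A₀.asIdeal := by
    rw [hA]; exact (PrimeSpectrum.le_iff_specializes B A).2 (hba.map e.hom.continuous)
  have hB := eq_bot_of_comap_eq_bot B.asIdeal hBbot hBA
  have h := ((PrimeSpectrum.le_iff_specializes B (e.hom c)).1 (hB.le.trans bot_le)).map e.inv.continuous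
  rwa [show e.inv B = b by rw [← Scheme.Hom.comp_apply, e.hom_inv_id]; rfl,
    show e.inv (e.hom c) = c by rw [← Scheme.Hom.comp_apply, e.hom_inv_id]; rfl] at h

theorem isGeomUnibranch_stalk (a : 𝔸(ι; Spec (CommRingCat.of V))) :
    CAlg2.IsGeomUnibranch ((𝔸(ι; Spec (CommRingCat.of V))).presheaf.stalk a) := by
  let R := MvPolynomial ι V
  have : IsIntegrallyClosed R :=
    Groth.Agent.Lib.Excellent.GenericNormal.isIntegrallyClosed_mvPolynomial
  let e := AffineSpace.SpecIso ι (CommRingCat.of V)
  let A : PrimeSpectrum R := e.hom a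
  let O := (Spec (CommRingCat.of R)).presheaf.stalk (e.hom a)
  letI : Algebra R O := StructureSheaf.stalkAlgebra R A
  haveI : IsLocalization.AtPrime O A.asIdeal := StructureSheaf.IsLocalization.to_stalk R A
  haveI : IsDomain O :=
    IsLocalization.isDomain_of_le_nonZeroDivisors O A.asIdeal.primeCompl_le_nonZeroDivisors
  haveI : IsIntegrallyClosed O :=
    isIntegrallyClosed_of_isLocalization O A.asIdeal.primeCompl A.asIdeal.primeCompl_le_nonZeroDivisors
  let eq := (asIso (e.hom.stalkMap a)).commRingCatIsoToRingEquiv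
  haveI : IsDomain ((𝔸(ι; Spec (CommRingCat.of V))).presheaf.stalk a) := eq.symm.toMulEquiv.isDomain O
  haveI : IsIntegrallyClosed ((𝔸(ι; Spec (CommRingCat.of V))).presheaf.stalk a) :=
    IsIntegrallyClosed.of_equiv eq
  exact UnibranchDim1.isGeomUnibranch_of_isIntegrallyClosed _

end space

variable {X S : Scheme.{u}}

theorem isMaxFib_of_trd_eq {n : ℕ} (a : 𝔸(ULift.{u} (Fin n); S))
    (h : trd (𝔸(ULift.{u} (Fin n); S) ↘ S) a = n) : IsMaxFib (𝔸(ULift.{u} (Fin n); S) ↘ S) a := by
  intro a' ha' hs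
  refine eq_of_trd_le _ hs ha' ?_
  rw [h]
  simpa using AffineFib.trd_le_card (ULift.{u} (Fin n)) S a'

/-- A quasi-finite morphism to affine space is universally open at the specializations of a maximal
point of the fibre of dimension `n` at which the structure morphism is universally open. -/
theorem isUnivOpenAt_of_quasiFinite_affineSpace (n : ℕ) (u : X ⟶ 𝔸(ULift.{u} (Fin n); S))
    [LocallyQuasiFinite u] (f : X ⟶ S) [LocallyOfFinitePresentation f]
    (hu : u ≫ (𝔸(ULift.{u} (Fin n); S) ↘ S) = f) {x z : X} (hzx : z ⤳ x) (hfz : f z = f x)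
    (hmaxz : IsMaxFib f z) (htrd : trd f z = n) (hopen : EGA43.IsUnivOpenAt f z) :
    EGA43.IsUnivOpenAt u x := by
  subst hu
  let q := 𝔸(ULift.{u} (Fin n); S) ↘ S
  have : LocallyOfFiniteType u := locallyOfFiniteType_of_comp u q
  have : LocallyOfFinitePresentation u := Groth.Agent.Lib.Flat55.FibreTransfer.locallyOfFinitePresentation_of_comp (f := u) (g := q) ‹_› inferInstance
  have hqz : trd q (u z) = n := by
    have := AffineFib.trd_comp' u q z
    rw [htrd, AffineFib.trd_eq_zero_of_locallyQuasiFinite u z, add_zero] at this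
    exact this.symm
  refine Lift.isUnivOpenAt_of_valuationRing u x fun V _ _ _ g p hg hp₁ hp₂ => ?_
  let φ := g ≫ q
  let ι := ULift.{u} (Fin n)
  let m := AffineSpace.map ι φ
  let q' := 𝔸(ι; Spec (CommRingCat.of V)) ↘ Spec (CommRingCat.of V)
  have hm : IsPullback m q' q φ := AffineSpace.isPullback_map φ
  let σ := hm.lift g (𝟙 _) (by rw [Category.id_comp])
  have sqA : IsPullback (pullback.fst u m) (pullback.snd u m) u m := IsPullback.of_hasPullback u m
  let u' := pullback.snd u m
  let g₁ := pullback.fst u m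
  let f' := u' ≫ q'
  have sqB : IsPullback g₁ f' (u ≫ q) φ := sqA.paste_vert hm
  let ρ : pullback u g ⟶ pullback u m := sqA.lift (pullback.fst u g) (pullback.snd u g ≫ σ)
    (by rw [Category.assoc, hm.lift_fst, pullback.condition])
  have sqC : IsPullback ρ (pullback.snd u g) u' σ := by
    refine IsPullback.of_right ?_ (sqA.lift_snd _ _ _) sqA
    rw [sqA.lift_fst, hm.lift_fst]
    exact IsPullback.of_hasPullback u g
  let p₁ := ρ p
  have hg₁ : g₁ p₁ = x := by rw [← Scheme.Hom.comp_apply, sqA.lift_fst]; exact hp₁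
  have hf'p : f' p₁ = IsLocalRing.closedPoint V := by
    rw [Scheme.Hom.comp_apply, ← Scheme.Hom.comp_apply ρ, sqA.lift_snd, ← Scheme.Hom.comp_apply,
      Category.assoc, hm.lift_snd, Category.comp_id]
    exact hp₂
  -- a maximal point `z₂` of the closed fibre over `z`
  obtain ⟨z₁, hz₁p, hz₁z, hz₁f⟩ :=
    exists_lift_specializes_fibre sqB p₁ z (by rw [hg₁]; exact hzx) (by rw [hg₁]; exact hfz)
  obtain ⟨z₂, hz₂f, hz₂s, hz₂max⟩ := exists_isMaxFib_specializes f' z₁
  have hgz₂ : g₁ z₂ = z := by
    refine hmaxz _ ?_ (hz₁z ▸ hz₂s.map g₁.continuous)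
    rw [← Scheme.Hom.comp_apply, sqB.w, Scheme.Hom.comp_apply, hz₂f, ← Scheme.Hom.comp_apply,
      ← sqB.w, Scheme.Hom.comp_apply, hz₁z]
  have hmax : IsMaxFib q' (u' z₂) := by
    intro a ha hs
    have h1 : m a = u z := by
      refine isMaxFib_of_trd_eq (u z) hqz _ ?_ ?_
      · rw [← hgz₂, ← Scheme.Hom.comp_apply m, hm.w, Scheme.Hom.comp_apply, ha,
          ← Scheme.Hom.comp_apply q' φ, ← hm.w, Scheme.Hom.comp_apply, ← Scheme.Hom.comp_apply u',
          ← sqA.w]
        rfl
      · have := hs.map m.continuous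
        rwa [← Scheme.Hom.comp_apply u', ← sqA.w, Scheme.Hom.comp_apply, hgz₂] at this
    obtain ⟨z₃, hz₃, hz₃u, -⟩ := exists_lift_specializes_fibre sqA.flip z₂ a hs
      (by rw [h1, ← hgz₂, ← Scheme.Hom.comp_apply, sqA.w]; rfl)
    have : z₃ = z₂ := hz₂max z₃ (by rw [Scheme.Hom.comp_apply, hz₃u, ha]; rfl) hz₃
    rw [← hz₃u, this]
  -- a point `w` of the generic fibre specializing to `z₂`
  have hη : genericPoint (Spec (CommRingCat.of V)) ⤳ f' z₂ := genericPoint_specializes _
  obtain ⟨w, hwz, hwη⟩ := Lift.exists_generization f' z₂ _ hη fun O hO =>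
    Lift.generizations_of_isOpenAt (OpenAt.isOpenAt_of_isPullback hopen sqB z₂ hgz₂) O hO _ hη
  have hwp : w ⤳ p₁ := hwz.trans (hz₂s.trans hz₁p)
  have hb := specializes_of_generic (u' z₂) (u' w) (hwz.map u'.continuous)
    (by show f' z₂ = _; rw [hz₂f, hz₁f, hf'p]) hmax (by exact hwη)
  have hcl : closure ({u' w} : Set ↥(𝔸(ι; Spec (CommRingCat.of V)))) = Set.univ :=
    Set.eq_univ_of_forall fun c => (hb c).mem_closure
  have hu' : EGA43.IsUnivOpenAt u' p₁ := by
    refine UnibranchCrit.isUnivOpenAt_of_le u' hwp (hcl ▸ Filter.univ_mem) (isGeomUnibranch_stalk _)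
      (le_trans ?_ (Nat.cast_le.mpr (Nat.zero_le (trd u' w))))
    exact (fibreDimAt_le_iff u' p₁ 0).2 fun ξ _ _ => (AffineFib.trd_eq_zero_of_locallyQuasiFinite u' ξ).le
  have hp' : EGA43.IsOpenAt (pullback.snd u g).base p := OpenAt.isOpenAt_of_isPullback hu' sqC p rfl
  have hη' : genericPoint (Spec (CommRingCat.of V)) ⤳ pullback.snd u g p := genericPoint_specializes _
  exact Lift.exists_generization (pullback.snd u g) p _ hη' fun O hO =>
    Lift.generizations_of_isOpenAt hp' O hO _ hη'

end Groth.Agent.Lib.ActSep
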