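import Groth.Prelude.Def_MoreMor
import Groth.Agent.S1349
import Groth.Agent.S3029
import Mathlib.AlgebraicGeometry.AlgClosed.Basic

/-!
Finite flat quasi-sections through closed points of flat group schemes over artinian local rings,
and finite free local algebras making given geometric points rational.
-/

universe u

open CategoryTheory Limits MonoidalCategory CartesianMonoidalCategory MonObj AlgebraicGeometry

set_option autoImplicit false
set_option backward.isDefEq.respectTransparency false
set_option backward.isDefEq.respectTransparency.types false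

namespace Groth.Agent.Lib.ActSep

variable {A : Type u} [CommRing A] [IsArtinianRing A] [IsLocalRing A]

theorem eq_maximalIdeal_of_isPrime (p : PrimeSpectrum A) :
    p.asIdeal = IsLocalRing.maximalIdeal A := IsLocalRing.eq_maximalIdeal inferInstance

theorem subsingleton_spec : Subsingleton (Spec (CommRingCat.of A)) :=
  ⟨fun p q => PrimeSpectrum.ext ((eq_maximalIdeal_of_isPrime p).trans (eq_maximalIdeal_of_isPrime q).symm)⟩

theorem isCMAt_grp (G : Over (Spec (CommRingCat.of A))) [GrpObj G] [Flat G.hom]
    [LocallyOfFiniteType G.hom] (x : G.left) : MoreMor.IsCMAt G.hom x := by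
  refine ⟨Flat.stalkMap G.hom x, ?_⟩
  let r := (Spec (CommRingCat.of A)).fromSpecResidueField (G.hom x)
  let k : Type u := (Spec (CommRingCat.of A)).residueField (G.hom x)
  let H : Over (Spec (CommRingCat.of k)) := (Over.pullback r).obj G
  let : GrpObj H := ((Over.pullback r).mapGrp.obj ⟨G⟩).grp
  have : LocallyOfFiniteType H.hom := inferInstanceAs (LocallyOfFiniteType (pullback.snd G.hom r))
  exact Groth.Agent.S3029.result k H (G.hom.asFiber x)

/-- Through every closed point there is a quasi-section finite and free over the base. -/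
theorem exists_finiteFree_quasiSection (G : Over (Spec (CommRingCat.of A))) [GrpObj G] [Flat G.hom]
    [LocallyOfFiniteType G.hom] (x : G.left) (hx : IsClosed ({x} : Set G.left)) :
    ∃ (B : CommRingCat.{u}) (φ : CommRingCat.of A ⟶ B) (j : Spec B ⟶ G.left),
      φ.hom.Finite ∧ φ.hom.Flat ∧ LocallyOfFiniteType j ∧ j ≫ G.hom = Spec.map φ ∧
        Nonempty (Spec B) ∧ ∀ b, j b = x := by
  have : Subsingleton (Spec (CommRingCat.of A)) := subsingleton_spec
  have : LocallyOfFinitePresentation G.hom :=
    LocallyOfFinitePresentation.iff_locallyOfFiniteType.mpr ‹_›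
  have hcl : IsClosed ({G.hom.asFiber x} : Set ↑(G.hom.fiber (G.hom x))) := by
    have hinj : Function.Injective (G.hom.fiberι (G.hom x)) :=
      (G.hom.fiberι (G.hom x)).isEmbedding.injective
    convert hx.preimage (G.hom.fiberι (G.hom x)).continuous
    ext z
    simp only [Set.mem_preimage, Set.mem_singleton_iff]
    constructor
    · rintro rfl; exact G.hom.fiberι_asFiber x
    · exact fun h => hinj (h.trans (G.hom.fiberι_asFiber x).symm)
  obtain ⟨V, Z, i, hi, ⟨z₀, hz₀⟩, hflat, hlfp, hlqf, huniq⟩ :=
    Groth.Agent.S1349.result G.hom x (isCMAt_grp G x) hcl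
  have : IsClosedImmersion i := hi.1
  let f := i ≫ V.ι ≫ G.hom
  have : Flat f := hflat
  have : LocallyQuasiFinite f := hlqf
  have hzx : ∀ z : Z, (i ≫ V.ι) z = x := fun z => huniq z (Subsingleton.elim _ _)
  have : Subsingleton Z := ⟨fun a b => by
    have h : (i ≫ V.ι) a = (i ≫ V.ι) b := (hzx a).trans (hzx b).symm
    exact (i ≫ V.ι).isEmbedding.injective h⟩
  have : QuasiCompact f := (quasiCompact_iff_compactSpace f).mpr inferInstance
  have : IsFinite f := IsFinite.of_locallyQuasiFinite f
  have : IsAffine Z := isAffine_of_isAffineHom f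
  obtain ⟨φ, hφ⟩ := Spec.map_surjective (Z.isoSpec.inv ≫ f)
  have hfl : Flat (Spec.map φ) := by rw [hφ]; infer_instance
  have hfin : IsFinite (Spec.map φ) := by rw [hφ]; infer_instance
  refine ⟨_, φ, Z.isoSpec.inv ≫ i ≫ V.ι, (IsFinite.SpecMap_iff φ).mp hfin,
    HasRingHomProperty.Spec_iff.mp hfl, inferInstance, by simp [hφ, f], ⟨Z.isoSpec.hom z₀⟩,
    fun b => ?_⟩
  exact hzx (Z.isoSpec.inv b)

section Alg

variable (B : Type u) [CommRing B] [Algebra A B] [Module.Finite A B]

omit [IsArtinianRing A] [IsLocalRing A] in
theorem finite_algHom_field (K : Type u) [Field K] [Algebra A K] : Finite (B →ₐ[A] K) := by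
  classical
  obtain ⟨s, hs⟩ := Module.Finite.fg_top (R := A) (M := B)
  choose p hp using fun b : B => Algebra.IsIntegral.isIntegral (R := A) b
  let F : (B →ₐ[A] K) → (b : s) → {r : K // r ∈ ((p b).map (algebraMap A K)).roots} := fun τ b =>
    ⟨τ b, by
      rw [Polynomial.mem_roots ((hp (b : B)).1.map _).ne_zero, Polynomial.IsRoot, Polynomial.eval_map]
      have := congrArg τ (hp (b : B)).2
      rw [← Polynomial.aeval_def] at this
      rw [← Polynomial.aeval_def, Polynomial.aeval_algHom_apply]
      simpa using this⟩
  refine Finite.of_injective F fun τ τ' h => ?_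
  have : τ.toLinearMap = τ'.toLinearMap :=
    LinearMap.ext_on hs fun b hb => congrArg Subtype.val (congrFun h ⟨b, hb⟩)
  exact AlgHom.ext fun b => LinearMap.congr_fun this b

/-- Every finite family of geometric points of a finite free algebra becomes rational over a finite
free local algebra. -/
theorem exists_finiteFree_local [Module.Flat A B] {K : Type u} [Field K] [Algebra A K]
    (T : Finset (B →ₐ[A] K)) :
    ∃ (A' : Type u) (_ : CommRing A') (_ : IsLocalRing A') (_ : Algebra A A')
      (_ : Module.Finite A A') (_ : Module.Free A A') (ev : A' →ₐ[A] K),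
      ∀ τ ∈ T, ∃ ψ : B →ₐ[A] A', ev.comp ψ = τ := by
  classical
  induction T using Finset.induction_on with
  | empty =>
    exact ⟨A, inferInstance, inferInstance, Algebra.id A, inferInstance, inferInstance,
      Algebra.ofId A K, fun τ h => absurd h (Finset.notMem_empty τ)⟩
  | @insert τ T _ ih =>
    obtain ⟨A', _, _, _, _, _, ev, hev⟩ := ih
    have : Module.Free A B := Module.free_of_flat_of_isLocalRing
    let P := TensorProduct A A' B
    let l : P →ₐ[A] K := Algebra.TensorProduct.lift ev τ fun _ _ => Commute.all _ _
    let q : Ideal P := RingHom.ker l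
    have : q.IsPrime := RingHom.ker_isPrime l
    have : Module.Finite A P := inferInstance
    have : IsArtinianRing P := IsArtinianRing.of_finite A P
    let Q := Localization.AtPrime q
    have : Module.Finite A Q := Module.Finite.of_surjective
      (IsScalarTower.toAlgHom A P Q).toLinearMap (IsArtinianRing.localization_surjective q.primeCompl Q)
    have : Module.Flat P Q := IsLocalization.flat Q q.primeCompl
    have : Module.Flat A Q := Module.Flat.trans A P Q
    have : Module.Free A Q := Module.free_of_flat_of_isLocalRing
    have hu : ∀ y : q.primeCompl, IsUnit (l y) := fun y => isUnit_iff_ne_zero.mpr y.2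
    let evQ : Q →ₐ[A] K := IsLocalization.liftAlgHom (M := q.primeCompl) (S := Q) (f := l) hu
    have hevQ : ∀ p : P, evQ (algebraMap P Q p) = l p := fun p => by
      simp [evQ, IsLocalization.lift_eq]
    refine ⟨Q, inferInstance, inferInstance, inferInstance, inferInstance, inferInstance, evQ, ?_⟩
    intro σ hσ
    obtain rfl | hσ := Finset.mem_insert.mp hσ
    · refine ⟨(IsScalarTower.toAlgHom A P Q).comp Algebra.TensorProduct.includeRight, ?_⟩
      ext b
      simp [hevQ, l, P]
    · obtain ⟨ψ, hψ⟩ := hev σ hσ
      refine ⟨((IsScalarTower.toAlgHom A P Q).comp Algebra.TensorProduct.includeLeft).comp ψ, ?_⟩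
      ext b
      simp [hevQ, l, P, ← hψ]

end Alg

end Groth.Agent.Lib.ActSep
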