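import Groth.Agent.Lib.ActSep.QFAffineSpace
import Groth.Agent.H46.NoetherFib
import Groth.Agent.H46.UnivOpen
import Groth.Agent.H46.QFin
import Groth.Agent.H56.EtaleNbhd
import Groth.Agent.Lib.Unram.FinitePartNhd
import Groth.Agent.Lib.AlgSpace.Props

/-!
Quasi-sections through a closed point of a fibre (EGA IV 14.5).
-/

universe u

open CategoryTheory Limits AlgebraicGeometry Topology
open Groth.Agent.H46 Groth.Agent.H46.FibreTrdeg Groth.Agent.Lib.Cyc

set_option autoImplicit false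
set_option backward.isDefEq.respectTransparency false
set_option backward.isDefEq.respectTransparency.types false

namespace Groth.Agent.Lib.ActSep

section alg

variable {R : Type u} [CommRing R]

/-- A finite free algebra with roots of finitely many given monic polynomials. -/
theorem exists_free_roots : ∀ (n : ℕ) (P : Fin n → Polynomial R), (∀ i, (P i).Monic) →
    ∃ (B : Type u) (_ : CommRing B) (_ : Algebra R B) (_ : Module.Finite R B) (_ : Module.Free R B)
      (b : Fin n → B), ∀ (K : Type u) [CommRing K] [Algebra R K] (t : Fin n → K),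
        (∀ i, Polynomial.aeval (t i) (P i) = 0) → ∃ φ : B →ₐ[R] K, ∀ i, φ (b i) = t i
  | 0, _, _ => ⟨R, inferInstance, Algebra.id R, inferInstance, inferInstance, Fin.elim0,
      fun K _ _ t _ => ⟨Algebra.ofId R K, fun i => i.elim0⟩⟩
  | n + 1, P, hP => by
    obtain ⟨B, _, _, _, _, b, hb⟩ := exists_free_roots n (fun i => P i.castSucc) fun i => hP _
    let p := (P (Fin.last n)).map (algebraMap R B)
    have hp : p.Monic := (hP _).map _
    let C := AdjoinRoot p
    have : Module.Free B C := hp.free_adjoinRoot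
    have : Module.Finite B C := hp.finite_adjoinRoot
    have : Module.Free R C := Module.Free.trans (S := B)
    have : Module.Finite R C := Module.Finite.trans B C
    refine ⟨C, inferInstance, inferInstance, inferInstance, inferInstance,
      Fin.lastCases (AdjoinRoot.root p) (fun i => algebraMap B C (b i)), fun K _ _ t ht => ?_⟩
    obtain ⟨φ, hφ⟩ := hb K (fun i => t i.castSucc) fun i => ht _
    have h : p.eval₂ φ.toRingHom (t (Fin.last n)) = 0 := by
      rw [Polynomial.eval₂_map, show φ.toRingHom.comp (algebraMap R B) = algebraMap R K from φ.comp_algebraMap]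
      exact ht _
    let ψ : C →ₐ[R] K := AdjoinRoot.liftAlgHom p φ (t (Fin.last n)) h
    refine ⟨ψ, fun i => ?_⟩
    induction i using Fin.lastCases with
    | last => simp only [Fin.lastCases_last]; exact AdjoinRoot.lift_root h
    | cast i => simp only [Fin.lastCases_castSucc]; rw [← hφ i]; exact AdjoinRoot.lift_of h

variable {κ : Type u} [Field κ] [Algebra R κ]

theorem exists_common_denominator
    (hκ : ∀ c : κ, ∃ r a : R, algebraMap R κ r ≠ 0 ∧ algebraMap R κ r * c = algebraMap R κ a)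
    (T : Finset κ) : ∃ r : R, algebraMap R κ r ≠ 0 ∧
      ∀ c ∈ T, ∃ a : R, algebraMap R κ r * c = algebraMap R κ a := by
  classical
  induction T using Finset.induction_on with
  | empty => exact ⟨1, by simp, fun c h => absurd h (Finset.notMem_empty c)⟩
  | @insert c T _ ih =>
    obtain ⟨r, hr, hT⟩ := ih
    obtain ⟨r', a, hr', ha⟩ := hκ c
    refine ⟨r * r', by rw [map_mul]; exact mul_ne_zero hr hr', fun d hd => ?_⟩
    obtain rfl | hd := Finset.mem_insert.mp hd
    · exact ⟨r * a, by rw [map_mul, map_mul, mul_assoc, ha]⟩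
    · obtain ⟨b, hb⟩ := hT d hd
      exact ⟨r' * b, by rw [map_mul, map_mul, ← hb]; ring⟩

/-- Monic equations for finitely many integral elements, defined over a principal localization. -/
theorem exists_monic_away
    (hκ : ∀ c : κ, ∃ r a : R, algebraMap R κ r ≠ 0 ∧ algebraMap R κ r * c = algebraMap R κ a)
    {L : Type u} [Field L] [Algebra κ L] {n : ℕ} (t : Fin n → L) (ht : ∀ i, IsIntegral κ (t i)) :
    ∃ (r : R) (ψ : Localization.Away r →+* κ), ψ.comp (algebraMap R (Localization.Away r)) = algebraMap R κ ∧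
      ∀ i, ∃ P : Polynomial (Localization.Away r), P.Monic ∧
        Polynomial.eval₂ ((algebraMap κ L).comp ψ) (t i) P = 0 := by
  classical
  choose p hp hpt using ht
  obtain ⟨r, hr, hT⟩ := exists_common_denominator hκ (Finset.univ.biUnion fun i => (p i).coeffs)
  have hu : IsUnit (algebraMap R κ r) := isUnit_iff_ne_zero.mpr hr
  let ψ : Localization.Away r →+* κ := IsLocalization.Away.lift r hu
  refine ⟨r, ψ, IsLocalization.Away.lift_comp r hu, fun i => ?_⟩
  have hl : p i ∈ Polynomial.lifts ψ := by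
    rw [Polynomial.lifts_iff_coeff_lifts]
    intro m
    by_cases hm : (p i).coeff m = 0
    · exact ⟨0, by rw [map_zero, hm]⟩
    obtain ⟨a, ha⟩ := hT _ (Finset.mem_biUnion.mpr
      ⟨i, Finset.mem_univ i, Polynomial.coeff_mem_coeffs hm⟩)
    refine ⟨algebraMap R _ a * IsLocalization.Away.invSelf r, ?_⟩
    have h1 : ψ (algebraMap R _ r) * ψ (IsLocalization.Away.invSelf r) = 1 := by
      rw [← map_mul, IsLocalization.Away.mul_invSelf, map_one]
    rw [IsLocalization.Away.lift_eq] at h1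
    rw [map_mul, IsLocalization.Away.lift_eq, ← ha, mul_comm (algebraMap R κ r), mul_assoc, h1, mul_one]
  obtain ⟨q, hq, -, hqm⟩ := Polynomial.lifts_and_degree_eq_and_monic hl (hp i)
  exact ⟨q, hqm, by rw [← Polynomial.eval₂_map, hq]; exact hpt i⟩

end alg

theorem bijective_residueFieldMap_comp {X Y Z : Scheme.{u}} (f : X ⟶ Y) (g : Y ⟶ Z) (x : X)
    (hf : Function.Bijective (f.residueFieldMap x))
    (hg : Function.Bijective (g.residueFieldMap (f x))) :
    Function.Bijective ((f ≫ g).residueFieldMap x) := by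
  rw [Scheme.residueFieldMap_comp]
  exact hf.comp hg

theorem bijective_residueFieldMap_openImmersion {X Y : Scheme.{u}} (f : X ⟶ Y) [IsOpenImmersion f] (x : X) :
    Function.Bijective (f.residueFieldMap x) :=
  ConcreteCategory.bijective_of_isIso (f.residueFieldMap x)

variable {X S : Scheme.{u}}

/-- The affine base case: a quasi-finite map to affine space gives a quasi-finite universally open
piece through the point, with the same residue field. -/
theorem exists_qf_piece [IsAffine S] (n : ℕ) (u : X ⟶ 𝔸(ULift.{u} (Fin n); S))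
    [LocallyQuasiFinite u] (f : X ⟶ S) [LocallyOfFinitePresentation f]
    (hu : u ≫ (𝔸(ULift.{u} (Fin n); S) ↘ S) = f) {x z : X} (hzx : z ⤳ x) (hfz : f z = f x)
    (hmaxz : IsMaxFib f z) (htrd : trd f z = n) (hopen : EGA43.IsUnivOpenAt f z)
    (hcl : IsClosed ({f.asFiber x} : Set ↑(f.fiber (f.base x)))) :
    ∃ (P : Scheme.{u}) (j : P ⟶ X) (p : P), LocallyOfFinitePresentation (j ≫ f) ∧
      (j ≫ f).QuasiFiniteAt p ∧ EGA43.IsUnivOpenAt (j ≫ f) p ∧ j p = x ∧
      Function.Bijective (j.residueFieldMap p) := by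
  let ι := ULift.{u} (Fin n)
  let q := 𝔸(ι; S) ↘ S
  have : LocallyOfFinitePresentation (u ≫ q) := hu.symm ▸ ‹_›
  have : LocallyOfFiniteType u := locallyOfFiniteType_of_comp u q
  have : LocallyOfFinitePresentation u :=
    Groth.Agent.Lib.Flat55.FibreTransfer.locallyOfFinitePresentation_of_comp (f := u) (g := q) ‹_› inferInstance
  let y := f x
  let κ : Type u := S.residueField y
  let L : Type u := X.residueField x
  let φ : Γ(S, ⊤) ⟶ S.residueField y := S.presheaf.germ ⊤ y trivial ≫ S.residue y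
  letI : Algebra Γ(S, ⊤) κ := φ.hom.toAlgebra
  letI : Algebra κ L := (f.residueFieldMap x).hom.toAlgebra
  have hκ : ∀ c : κ, ∃ r a : Γ(S, ⊤), algebraMap Γ(S, ⊤) κ r ≠ 0 ∧
      algebraMap Γ(S, ⊤) κ r * c = algebraMap Γ(S, ⊤) κ a := by
    intro c
    obtain ⟨d, rfl⟩ := S.residue_surjective y c
    let := TopCat.Presheaf.algebra_section_stalk S.presheaf (⟨y, trivial⟩ : (⊤ : S.Opens))
    have := (isAffineOpen_top S).isLocalization_stalk ⟨y, trivial⟩
    obtain ⟨⟨a, b⟩, hab⟩ :=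
      IsLocalization.surj ((isAffineOpen_top S).primeIdealOf ⟨y, trivial⟩).asIdeal.primeCompl d
    refine ⟨b, a, ?_, ?_⟩
    · exact ((IsLocalization.map_units _ b).map (S.residue y).hom).ne_zero
    · show (S.residue y) (S.presheaf.germ ⊤ y trivial b) * (S.residue y) d =
        (S.residue y) (S.presheaf.germ ⊤ y trivial a)
      rw [← map_mul, mul_comm]
      exact congrArg _ hab
  have hfrom : Spec.map φ ≫ S.isoSpec.inv = S.fromSpecResidueField y := by
    rw [Scheme.fromSpecResidueField, ← (isAffineOpen_top S).fromSpecStalk_eq_fromSpecStalk trivial,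
      IsAffineOpen.fromSpecStalk, IsAffineOpen.fromSpec_top, Spec.map_comp, Category.assoc]
  have hfin : (f.residueFieldMap x).hom.Finite := QFin.finite_residueFieldMap f x hcl
  haveI : Module.Finite κ L := hfin
  let e₀ := X.fromSpecResidueField x
  let t : Fin n → L := fun i =>
    (Scheme.ΓSpecIso (X.residueField x)).hom (e₀.appTop (u.appTop (AffineSpace.coord S ⟨i⟩)))
  obtain ⟨r, ψ, hψ, hP⟩ := exists_monic_away hκ t fun i => Algebra.IsIntegral.isIntegral _
  let R' := Localization.Away r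
  choose P hPm hPt using hP
  obtain ⟨B, _, _, _, _, b, hb⟩ := exists_free_roots n P hPm
  letI : Algebra R' L := ((algebraMap κ L).comp ψ).toAlgebra
  obtain ⟨θ, hθ⟩ := hb L t fun i => hPt i
  let a₁ := Spec.map (CommRingCat.ofHom (algebraMap R' B))
  let a₂ := Spec.map (CommRingCat.ofHom (algebraMap Γ(S, ⊤) R'))
  let τ : Spec (CommRingCat.of B) ⟶ S := a₁ ≫ a₂ ≫ S.isoSpec.inv
  have : IsOpenImmersion a₂ := IsOpenImmersion.of_isLocalization r
  have : IsFinite a₁ := (IsFinite.SpecMap_iff _).mpr (RingHom.finite_algebraMap.mpr inferInstance)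
  have : Module.FinitePresentation R' B := Module.finitePresentation_of_projective R' B
  have : Algebra.FinitePresentation R' B := Algebra.FinitePresentation.of_finitePresentation R' B
  have : LocallyOfFinitePresentation a₁ := (HasRingHomProperty.Spec_iff (P := @LocallyOfFinitePresentation)).mpr
    (RingHom.finitePresentation_algebraMap.mpr inferInstance)
  have : Flat a₁ := (HasRingHomProperty.Spec_iff (P := @Flat)).mpr
    (RingHom.flat_algebraMap_iff.mpr inferInstance)
  have : LocallyOfFinitePresentation τ := inferInstanceAs (LocallyOfFinitePresentation (a₁ ≫ a₂ ≫ S.isoSpec.inv))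
  have : Flat τ := inferInstanceAs (Flat (a₁ ≫ a₂ ≫ S.isoSpec.inv))
  have : LocallyQuasiFinite τ := inferInstanceAs (LocallyQuasiFinite (a₁ ≫ a₂ ≫ S.isoSpec.inv))
  have : UniversallyOpen τ := UniversallyOpen.of_flat τ
  let vT : Spec (CommRingCat.of B) ⟶ 𝔸(ι; S) :=
    AffineSpace.homOfVector τ fun i => (Scheme.ΓSpecIso (CommRingCat.of B)).inv (b i.down)
  let e₁ : Spec (X.residueField x) ⟶ Spec (CommRingCat.of B) :=
    Spec.map (CommRingCat.ofHom θ.toRingHom)
  have he₁τ : e₁ ≫ τ = e₀ ≫ f := by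
    have h1 : CommRingCat.ofHom (algebraMap Γ(S, ⊤) R') ≫ CommRingCat.ofHom (algebraMap R' B) ≫
        CommRingCat.ofHom θ.toRingHom = φ ≫ f.residueFieldMap x := by
      ext c
      exact (θ.commutes _).trans (congrArg (f.residueFieldMap x) (RingHom.congr_fun hψ c))
    simp only [e₁, τ, a₁, a₂]
    rw [← Category.assoc, ← Spec.map_comp, ← Category.assoc, ← Spec.map_comp, h1, Spec.map_comp,
      Category.assoc, hfrom]
    exact f.SpecMap_residueFieldMap_fromSpecResidueField x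
  have hcomm : e₀ ≫ u = e₁ ≫ vT := by
    refine AffineSpace.hom_ext ?_ fun i => ?_
    · rw [Category.assoc, hu, Category.assoc, AffineSpace.homOfVector_over, he₁τ]
    · simp only [Scheme.Hom.comp_appTop, CommRingCat.comp_apply, vT, e₁]
      have h2 := ConcreteCategory.congr_hom
        (Scheme.ΓSpecIso_inv_naturality (CommRingCat.ofHom θ.toRingHom)) (b i.down)
      erw [AffineSpace.homOfVector_appTop_coord τ
        (fun i => (Scheme.ΓSpecIso (CommRingCat.of B)).inv (b i.down)) i]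
      refine Eq.trans ?_ h2
      show _ = (Scheme.ΓSpecIso (X.residueField x)).inv (θ (b i.down))
      rw [hθ]
      exact (CategoryTheory.Iso.hom_inv_id_apply (Scheme.ΓSpecIso (X.residueField x)) _).symm
  let π : Spec (X.residueField x) ⟶ pullback u vT := pullback.lift e₀ e₁ hcomm
  obtain ⟨pt⟩ : Nonempty (Spec (X.residueField x)) := inferInstance
  let p := π pt
  have hp : pullback.fst u vT p = x := by
    rw [← Scheme.Hom.comp_apply, pullback.lift_fst]; exact X.fromSpecResidueField_apply x pt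
  have hres : Function.Bijective ((pullback.fst u vT).residueFieldMap p) := by
    have : IsPreimmersion (π ≫ pullback.fst u vT) := by rw [pullback.lift_fst]; infer_instance
    exact Groth.Agent.H56.EtaleNbhd.residueFieldMap_bijective_of_surjective _ _ (Groth.Agent.H56.EtaleNbhd.residueFieldMap_surjective_of_comp π _ pt
      (Groth.Agent.H56.EtaleNbhd.residueFieldMap_surjective_of_isPreimmersion (π ≫ pullback.fst u vT) pt)).1
  have heq : pullback.fst u vT ≫ f = pullback.snd u vT ≫ τ := by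
    rw [← hu, pullback.condition_assoc, AffineSpace.homOfVector_over]
  refine ⟨pullback u vT, pullback.fst u vT, p, heq ▸ inferInstance, heq ▸ ?_, heq ▸ ?_, hp, hres⟩
  · exact Scheme.Hom.quasiFiniteAt (pullback.snd u vT ≫ τ) p
  · refine OpenAt.isUnivOpenAt_comp _ _ p ?_ (UnivOpen.isUnivOpenAt_of_universallyOpen τ _)
    exact OpenAt.isUnivOpenAt_baseChange (isUnivOpenAt_of_quasiFinite_affineSpace n u f hu hzx hfz hmaxz htrd hopen)
      (IsPullback.of_hasPullback u vT) p hp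

set_option maxHeartbeats 1600000 in
/-- Quasi-sections through a closed point of a fibre. -/
theorem exists_quasiSection (f : X ⟶ S) [LocallyOfFinitePresentation f] {x z : X} (hzx : z ⤳ x)
    (hfz : f z = f x) (hmaxz : IsMaxFib f z) (hopen : EGA43.IsUnivOpenAt f z)
    (hdim : FlatMor.fibreDimAt f x ≤ (trd f z : WithBot ℕ∞))
    (hx : IsClosed ((Subtype.val : ↥(f.base ⁻¹' {f x}) → X) ⁻¹' {x})) :
    ∃ (S' S'' : Scheme.{u}) (_ : IsAffine S') (w : S' ⟶ S) (π : S'' ⟶ S') (h : S'' ⟶ X),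
      Etale w ∧ IsFinite π ∧ Surjective π ∧ LocallyOfFinitePresentation π ∧ h ≫ f = π ≫ w ∧
      ∃ s'' : S'', (π ≫ w).base ⁻¹' {f x} = {s''} ∧ h.base s'' = x ∧ IsIso (h.residueFieldMap s'') := by
  let n := trd f z
  -- affine charts
  obtain ⟨U₀, hU₀, hxU₀, -⟩ :=
    AlgebraicGeometry.exists_isAffineOpen_mem_and_subset (x := f x) (U := ⊤) trivial
  let O : X.Opens := ⟨_, Groth.Agent.Lib.FibreDim.Semicont.isOpen_setOf_fibreDimAt_le f (n : WithBot ℕ∞)⟩
  obtain ⟨U, hU, hxU, hUO⟩ := AlgebraicGeometry.exists_isAffineOpen_mem_and_subset (x := x)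
    (U := f ⁻¹ᵁ U₀ ⊓ O) ⟨hxU₀, hdim⟩
  have : IsAffine (U : Scheme.{u}) := hU
  have : IsAffine (U₀ : Scheme.{u}) := hU₀
  have hUU₀ : U ≤ f ⁻¹ᵁ U₀ := le_trans hUO inf_le_left
  let f₁ := f.resLE U₀ U hUU₀
  have hf₁ : f₁ ≫ U₀.ι = U.ι ≫ f := f.resLE_comp_ι hUU₀
  have : LocallyOfFinitePresentation f₁ :=
    MorphismProperty.comp_mem @LocallyOfFinitePresentation (X.homOfLE hUU₀) (f ∣_ U₀) inferInstance
      (IsZariskiLocalAtTarget.restrict ‹LocallyOfFinitePresentation f› U₀)
  have htr : ∀ ξ, trd f₁ ξ = trd f (U.ι ξ) := fun ξ => by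
    have h1 := AffineFib.trd_comp' f₁ U₀.ι ξ
    rw [AffineFib.trd_eq_zero_of_locallyQuasiFinite U₀.ι, zero_add, hf₁, trd_comp f U.ι ξ] at h1
    exact h1.symm
  have hbase : ∀ ξ, U₀.ι (f₁ ξ) = f (U.ι ξ) := fun ξ => by
    rw [← Scheme.Hom.comp_apply, hf₁]; rfl
  let x₁ : U := ⟨x, hxU⟩
  let z₁ : U := ⟨z, hzx.mem_open U.2 hxU⟩
  have hzx₁ : z₁ ⤳ x₁ := U.ι.isEmbedding.isInducing.specializes_iff.1 hzx
  have hfz₁ : f₁ z₁ = f₁ x₁ := U₀.ι.isOpenEmbedding.injective (by rw [hbase, hbase]; exact hfz)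
  have hdim₁ : topologicalKrullDim ↥(f₁.fiber (f₁ x₁)) = (n : WithBot ℕ∞) := by
    refine le_antisymm ((dim_fiber_le_iff f₁ _ n).2 fun ξ hξ => ?_) ?_
    · rw [htr]
      have h := (trd_le_fibreDimAt f (U.ι ξ)).trans (hUO ξ.2).2
      exact_mod_cast h
    · have h := trd_le_dim_fiber f₁ z₁ _ hfz₁
      rwa [htr] at h
  obtain ⟨g, hg, hgfin⟩ := NoetherFib.exists_toAffineSpace (f := f₁) (y := f₁ x₁) ⟨x₁, rfl⟩ n hdim₁
  have : LocallyOfFinitePresentation (g ≫ (𝔸(ULift.{u} (Fin n); U₀) ↘ (U₀ : Scheme.{u}))) := hg.symm ▸ ‹LocallyOfFinitePresentation f₁›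
  have : LocallyOfFiniteType g := locallyOfFiniteType_of_comp g (𝔸(ULift.{u} (Fin n); U₀) ↘ U₀)
  have hqf : g.QuasiFiniteAt x₁ := by
    refine Groth.Agent.Lib.Unram.FinitePartNhd.quasiFiniteAt_of_finite_fibre g x₁ ?_
    let qq := 𝔸(ULift.{u} (Fin n); U₀) ↘ (U₀ : Scheme.{u})
    obtain ⟨a, ha⟩ : g x₁ ∈ Set.range (qq.fiberι (f₁ x₁)) := by
      rw [Scheme.Hom.range_fiberι]
      show qq (g x₁) = f₁ x₁
      rw [← Scheme.Hom.comp_apply, hg]
    refine (((pullback.snd g (qq.fiberι (f₁ x₁))).finite_preimage_singleton a).image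
      (pullback.fst g (qq.fiberι (f₁ x₁)))).subset fun ξ hξ => ?_
    obtain ⟨w, hw₁, hw₂⟩ := Scheme.Pullback.exists_preimage_pullback (f := g) (g := qq.fiberι (f₁ x₁))
      ξ a ((show g ξ = g x₁ from hξ).trans ha.symm)
    exact ⟨w, hw₂, hw₁⟩
  -- restrict to an affine open of the quasi-finite locus
  obtain ⟨U₂, hU₂, hxU₂, hU₂L⟩ := AlgebraicGeometry.exists_isAffineOpen_mem_and_subset (x := x₁)
    (U := g.quasiFiniteLocus) hqf
  let u₂ := U₂.ι ≫ g
  have : LocallyQuasiFinite u₂ := by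
    have h : u₂ = (U : Scheme.{u}).homOfLE hU₂L ≫ g.quasiFiniteLocus.ι ≫ g := by
      rw [Scheme.homOfLE_ι_assoc]
    rw [h]; infer_instance
  let f₂ := U₂.ι ≫ f₁
  have hu₂ : u₂ ≫ (𝔸(ULift.{u} (Fin n); U₀) ↘ U₀) = f₂ := by rw [Category.assoc, hg]
  let j₂ := U₂.ι ≫ U.ι
  have hsq : f₂ ≫ U₀.ι = j₂ ≫ f := by rw [Category.assoc, hf₁, Category.assoc]
  have hbase₂ : ∀ ξ, U₀.ι (f₂ ξ) = f (j₂ ξ) := fun ξ => by
    rw [← Scheme.Hom.comp_apply, hsq]; rfl
  let x₂ : U₂ := ⟨x₁, hxU₂⟩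
  let z₂ : U₂ := ⟨z₁, hzx₁.mem_open U₂.2 hxU₂⟩
  have hzx₂ : z₂ ⤳ x₂ := U₂.ι.isEmbedding.isInducing.specializes_iff.1 hzx₁
  have htrd₂ : trd f₂ z₂ = n := by rw [trd_comp f₁ U₂.ι z₂, htr]; rfl
  have hmax₂ : IsMaxFib f₂ z₂ := fun ξ hξ hs => j₂.isOpenEmbedding.injective (hmaxz (j₂ ξ)
    (by rw [← hbase₂, hξ, hbase₂]; rfl) (hs.map j₂.continuous))
  have hopen₂ : EGA43.IsUnivOpenAt f₂ z₂ := by
    have h1 : EGA43.IsUnivOpenAt (f₂ ≫ U₀.ι) z₂ := by
      rw [hsq]
      exact OpenAt.isUnivOpenAt_comp j₂ f z₂ (UnivOpen.isUnivOpenAt_of_universallyOpen j₂ z₂) hopen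
    exact OpenAt.isUnivOpenAt_baseChange h1
      (IsPullback.of_horiz_isIso_mono (fst := 𝟙 (U₂ : Scheme.{u})) (snd := f₂) ⟨by rw [Category.id_comp]⟩)
      z₂ rfl
  have hcl₂ : IsClosed ({f₂.asFiber x₂} : Set ↑(f₂.fiber (f₂.base x₂))) := by
    let m : ↑(f₂.fiber (f₂.base x₂)) → ↥(f.base ⁻¹' {f x}) := fun v =>
      ⟨j₂ (f₂.fiberι _ v), (hbase₂ _).symm.trans
        ((congrArg U₀.ι (QFin.asFiber_mem (f := f₂) v)).trans (hbase₂ x₂))⟩
    have hm : Continuous m := (j₂.continuous.comp (f₂.fiberι _).continuous).subtype_mk _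
    convert hx.preimage hm
    ext v
    simp only [Set.mem_singleton_iff, Set.mem_preimage]
    constructor
    · rintro rfl
      show j₂ (f₂.fiberι _ (f₂.asFiber x₂)) = x
      rw [f₂.fiberι_asFiber]; rfl
    · intro hv
      have hv' : j₂ (f₂.fiberι _ v) = j₂ x₂ := hv
      exact QFin.eq_asFiber (f := f₂) x₂ v (j₂.isOpenEmbedding.injective hv')
  obtain ⟨P, j, p, hlfp, hqfp, hopenp, hjp, hjres⟩ :=
    exists_qf_piece n u₂ f₂ hu₂ hzx₂ (U₀.ι.isOpenEmbedding.injective (by rw [hbase₂, hbase₂]; exact hfz))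
      hmax₂ htrd₂ hopen₂ hcl₂
  -- the étale neighbourhood
  let J := j ≫ j₂
  let h₀ := (j ≫ f₂) ≫ U₀.ι
  have hJ : J ≫ f = h₀ := by simp only [J, h₀, Category.assoc, hsq]
  have hJp : J p = x := by rw [Scheme.Hom.comp_apply, hjp]; rfl
  have hh₀p : h₀ p = f x := by rw [← hJ, Scheme.Hom.comp_apply, hJp]
  have hqf₀ : h₀.QuasiFiniteAt p := Scheme.Hom.quasiFiniteAt_comp_iff.2 hqfp
  have hopen₀ : EGA43.IsUnivOpenAt h₀ p :=
    OpenAt.isUnivOpenAt_comp _ _ p hopenp (UnivOpen.isUnivOpenAt_of_universallyOpen U₀.ι _)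
  obtain ⟨W, g', u₀, hnbhd, hWaff, V, v, hvV, hVfin, hvu, huniq, hvp, hvres⟩ :=
    Groth.Agent.H56.EtaleNbhd.exists_isEtaleNbhd_finite_part h₀ p hqf₀
  have : Etale g' := hnbhd.etale
  have : LocallyQuasiFinite g' := Groth.Agent.Lib.AlgSpace.locallyQuasiFinite_of_etale g'
  let v' : V := ⟨v, hvV⟩
  let fV := V.ι ≫ pullback.snd h₀ g'
  have hfV : fV v' = u₀ := by rw [Scheme.Hom.comp_apply]; exact hvu
  have hop : EGA43.IsUnivOpenAt fV v' :=
    OpenAt.isUnivOpenAt_comp V.ι (pullback.snd h₀ g') v' (UnivOpen.isUnivOpenAt_of_universallyOpen V.ι v')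
      (OpenAt.isUnivOpenAt_baseChange hopen₀ (IsPullback.of_hasPullback h₀ g') _ hvp)
  have hN : Set.range fV ∈ 𝓝 u₀ := by
    have := OpenAt.isOpenAt_of_isPullback hop (IsPullback.of_horiz_isIso ⟨by rw [Category.id_comp, Category.comp_id]⟩ : IsPullback (𝟙 _) fV fV (𝟙 W)) v' rfl
      Set.univ Filter.univ_mem
    rw [Set.image_univ, hfV] at this
    exact this
  obtain ⟨N, hNsub, hNo, huN⟩ := mem_nhds_iff.1 hN
  have hg'u : g' u₀ = f x := hnbhd.base_eq.trans hh₀p
  have hdisc := g'.isDiscrete_preimage_singleton (f x)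
  rw [isDiscrete_iff_discreteTopology] at hdisc
  obtain ⟨O', hO', hO'eq⟩ := isOpen_induced_iff.1
    (isOpen_discrete ({⟨u₀, hg'u⟩} : Set ↥(g' ⁻¹' {f x})))
  have huO' : u₀ ∈ O' := (Set.ext_iff.1 hO'eq ⟨u₀, hg'u⟩).2 rfl
  obtain ⟨S', hS', huS', hS'sub⟩ := AlgebraicGeometry.exists_isAffineOpen_mem_and_subset (x := u₀)
    (U := (⟨N ∩ O', hNo.inter hO'⟩ : W.Opens)) ⟨huN, huO'⟩
  let π := fV ∣_ S'
  let S'' := (fV ⁻¹ᵁ S' : Scheme.{u})
  let h := (fV ⁻¹ᵁ S').ι ≫ V.ι ≫ pullback.fst h₀ g' ≫ J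
  have hπι : π ≫ S'.ι = (fV ⁻¹ᵁ S').ι ≫ fV := morphismRestrict_ι fV S'
  refine ⟨S', S'', hS', S'.ι ≫ g', π, h, inferInstance, IsZariskiLocalAtTarget.restrict hVfin S',
    ⟨fun a => ?_⟩, ?_, ?_, ⟨v', show fV v' ∈ S' from by rw [hfV]; exact huS'⟩, ?_, ?_, ?_⟩
  · obtain ⟨b, hb⟩ := hNsub (hS'sub a.2).1
    refine ⟨⟨b, by show fV b ∈ S'; rw [hb]; exact a.2⟩, S'.ι.isOpenEmbedding.injective ?_⟩
    rw [← Scheme.Hom.comp_apply, hπι]
    exact hb
  · have : LocallyOfFinitePresentation h₀ :=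
      inferInstanceAs (LocallyOfFinitePresentation ((j ≫ f₂) ≫ U₀.ι))
    exact IsZariskiLocalAtTarget.restrict (inferInstanceAs (LocallyOfFinitePresentation fV)) S'
  · simp only [h, Category.assoc, hJ]
    rw [reassoc_of% hπι, pullback.condition]
    simp only [fV, Category.assoc]
  · ext a
    simp only [Set.mem_preimage, Set.mem_singleton_iff]
    have h1 : (π ≫ S'.ι ≫ g') a = g' (fV a.1) := by
      rw [← Category.assoc, hπι]; rfl
    constructor
    · intro ha
      have h2 : g' (fV a.1) = f x := h1.symm.trans ha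
      have h3 : (⟨fV a.1, h2⟩ : ↥(g' ⁻¹' {f x})) = ⟨u₀, hg'u⟩ :=
        (Set.ext_iff.1 hO'eq ⟨fV a.1, h2⟩).1 (hS'sub a.2).2
      exact Subtype.ext (Subtype.ext (huniq a.1.1 a.1.2 (congrArg Subtype.val h3)))
    · rintro rfl
      exact h1.trans ((congrArg g' hfV).trans hg'u)
  · show J (pullback.fst h₀ g' v) = x
    rw [hvp, hJp]
  · rw [ConcreteCategory.isIso_iff_bijective]
    refine bijective_residueFieldMap_comp _ _ _ (bijective_residueFieldMap_openImmersion _ _) ?_
    refine bijective_residueFieldMap_comp _ _ _ (bijective_residueFieldMap_openImmersion _ _) ?_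
    refine bijective_residueFieldMap_comp _ _ _ hvres ?_
    refine bijective_residueFieldMap_comp _ _ _ ?_ (bijective_residueFieldMap_openImmersion _ _)
    show Function.Bijective (j.residueFieldMap (pullback.fst h₀ g' v))
    rw [hvp]; exact hjres

end Groth.Agent.Lib.ActSep
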