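import Mathlib.AlgebraicGeometry.Morphisms.FormallyUnramified
import Mathlib.AlgebraicGeometry.Morphisms.FiniteType
import Mathlib.AlgebraicGeometry.Morphisms.FinitePresentation
import Mathlib.RingTheory.Ideal.IdempotentFG

/-!
A scheme over a field with open diagonal is locally of finite type.
-/

universe u

open CategoryTheory Limits AlgebraicGeometry TensorProduct

namespace Groth.Agent.Lib.ActSep

theorem module_finite_of_finitePresentation_lmul (k R : Type u) [Field k] [CommRing R] [Algebra k R]
    [Algebra.FormallyUnramified k R]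
    (hfp : (Algebra.TensorProduct.lmul' k : R ⊗[k] R →ₐ[k] R).toRingHom.FinitePresentation) :
    Module.Finite k R := by
  classical
  let μ := (Algebra.TensorProduct.lmul' k : R ⊗[k] R →ₐ[k] R)
  have hfg : (KaehlerDifferential.ideal k R).FG := by
    let := μ.toRingHom.toAlgebra
    have : Algebra.FinitePresentation (R ⊗[k] R) R := hfp
    exact Algebra.FinitePresentation.ker_fG_of_surjective (Algebra.ofId (R ⊗[k] R) R)
      fun x => ⟨x ⊗ₜ 1, by show μ (x ⊗ₜ 1) = x; simp [μ]⟩
  have hid : IsIdempotentElem (KaehlerDifferential.ideal k R) :=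
    (KaehlerDifferential.ideal k R).cotangent_subsingleton_iff.1
      (Algebra.FormallyUnramified.subsingleton_kaehlerDifferential (R := k) (A := R))
  obtain ⟨e, he, hI⟩ := (Ideal.isIdempotentElem_iff_of_fg _ hfg).1 hid
  have hmem : ∀ z, z ∈ KaehlerDifferential.ideal k R ↔ ∃ c, c * e = z := fun z => by
    rw [hI]; exact Ideal.mem_span_singleton'
  have hμe : μ e = 0 := (hmem e).2 ⟨1, one_mul e⟩
  have hkill : ∀ x : R, (x ⊗ₜ[k] (1 : R)) * (1 - e) = ((1 : R) ⊗ₜ[k] x) * (1 - e) := fun x => by
    obtain ⟨c, hc⟩ := (hmem (x ⊗ₜ[k] (1 : R) - (1 : R) ⊗ₜ[k] x)).1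
      (RingHom.mem_ker.2 (by simp))
    rw [← sub_eq_zero, ← sub_mul, ← hc, mul_assoc, mul_sub, mul_one, he.eq, sub_self, mul_zero]
  obtain ⟨s, hs⟩ := TensorProduct.exists_finset (R := k) (1 - e : R ⊗[k] R)
  let B := Module.Free.chooseBasis k R
  let J := s.biUnion fun p => (B.repr p.2).support
  let A := Submodule.span k ((s.image Prod.fst : Finset R) : Set R)
  let T := (s.image Prod.fst ×ˢ J).image fun p => p.1 * B p.2
  refine ⟨⟨T, eq_top_iff.2 fun x _ => ?_⟩⟩
  let φ : Module.Free.ChooseBasisIndex k R → R ⊗[k] R →ₗ[k] R := fun j =>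
    (TensorProduct.rid k R).toLinearMap.comp (TensorProduct.map LinearMap.id (B.coord j))
  have hφ : ∀ j (a b : R), φ j (a ⊗ₜ b) = B.repr b j • a := fun j a b => by simp [φ]
  have hxj : ∀ j, x * ∑ p ∈ s, B.repr p.2 j • p.1 ∈ A := by
    intro j
    have h := congrArg (φ j) (hkill x)
    rw [hs, Finset.mul_sum, Finset.mul_sum, map_sum, map_sum] at h
    simp only [Algebra.TensorProduct.tmul_mul_tmul, hφ, one_mul] at h
    rw [Finset.mul_sum]
    simp only [mul_smul_comm]
    rw [h]
    exact Submodule.sum_mem _ fun p hp => Submodule.smul_mem _ _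
      (Submodule.subset_span (Finset.mem_image_of_mem _ hp))
  have h1 : (1 : R) = ∑ j ∈ J, (∑ p ∈ s, B.repr p.2 j • p.1) * B j := by
    have h := congrArg μ hs
    rw [map_sub, map_one, hμe, sub_zero, map_sum] at h
    rw [h]
    simp only [Finset.sum_mul]
    rw [Finset.sum_comm]
    refine Finset.sum_congr rfl fun p hp => ?_
    show μ (p.1 ⊗ₜ p.2) = _
    simp only [smul_mul_assoc, ← mul_smul_comm, ← Finset.mul_sum]
    rw [show μ (p.1 ⊗ₜ p.2) = p.1 * p.2 by simp [μ]]
    congr 1
    conv_lhs => rw [← B.linearCombination_repr p.2, Finsupp.linearCombination_apply]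
    exact Finsupp.sum_of_support_subset _ (fun j hj => Finset.mem_biUnion.2 ⟨p, hp, hj⟩) _ (by simp)
  rw [← mul_one x, h1, Finset.mul_sum]
  refine Submodule.sum_mem _ fun j hj => ?_
  rw [← mul_assoc]
  have hle : A.map (LinearMap.mulRight k (B j)) ≤ Submodule.span k (T : Set R) := by
    rw [Submodule.map_span]
    refine Submodule.span_mono ?_
    rintro _ ⟨a, ha, rfl⟩
    exact Finset.mem_coe.2 (Finset.mem_image.2 ⟨(a, j), Finset.mem_product.2 ⟨Finset.mem_coe.1 ha, hj⟩, rfl⟩)
  exact hle (Submodule.mem_map_of_mem (hxj j))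

theorem locallyOfFiniteType_spec {k : Type u} [Field k] {R : CommRingCat.{u}}
    (f : Spec R ⟶ Spec (CommRingCat.of k)) [IsOpenImmersion (pullback.diagonal f)] : LocallyOfFiniteType f := by
  obtain ⟨φ, rfl⟩ := Spec.map_surjective f
  let := φ.hom.toAlgebra
  have hu : FormallyUnramified (Spec.map φ) := inferInstance
  rw [HasRingHomProperty.Spec_iff (P := @FormallyUnramified)] at hu
  have : Algebra.FormallyUnramified k R := hu
  have hd : IsOpenImmersion (pullback.diagonal (Spec.map (CommRingCat.ofHom (algebraMap k R)))) :=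
    ‹IsOpenImmersion (pullback.diagonal (Spec.map φ))›
  rw [diagonal_SpecMap, MorphismProperty.cancel_right_of_respectsIso (P := @IsOpenImmersion)] at hd
  have hfp := (HasRingHomProperty.Spec_iff (P := @LocallyOfFinitePresentation)).1
    (inferInstance : LocallyOfFinitePresentation (Spec.map (CommRingCat.ofHom
      (Algebra.TensorProduct.lmul' k : R ⊗[k] R →ₐ[k] R).toRingHom)))
  have := module_finite_of_finitePresentation_lmul k R hfp
  rw [HasRingHomProperty.Spec_iff (P := @LocallyOfFiniteType)]
  exact RingHom.Finite.finiteType (f := φ.hom) this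

theorem locallyOfFiniteType_of_isOpenImmersion_diagonal {k : Type u} [Field k] {X : Scheme.{u}}
    (f : X ⟶ Spec (CommRingCat.of k)) [IsOpenImmersion (pullback.diagonal f)] : LocallyOfFiniteType f := by
  rw [IsZariskiLocalAtSource.iff_of_openCover (P := @LocallyOfFiniteType) X.affineCover]
  intro i
  have : IsOpenImmersion (pullback.diagonal (X.affineCover.f i ≫ f)) :=
    MorphismProperty.comp_mem (MorphismProperty.diagonal @IsOpenImmersion) _ _
      (inferInstanceAs (IsOpenImmersion _)) ‹_›
  exact @locallyOfFiniteType_spec _ _ _ _ this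

end Groth.Agent.Lib.ActSep
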