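import Groth.Agent.Lib.ActSep.HomogFlat
import Groth.Agent.Lib.ActSep.HomogInst
import Groth.Agent.Lib.EtSite.FppfSourceScheme
import Groth.Agent.Lib.GrpSch.Basic

/-!
Over a one-point base, a local property of an equivariant morphism out of a flat group spreads from one point
to the whole group.
-/

set_option autoImplicit false
set_option backward.isDefEq.respectTransparency false
set_option backward.isDefEq.respectTransparency.types false

universe u

open CategoryTheory Limits MonoidalCategory CartesianMonoidalCategory MonObj AlgebraicGeometry Topology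

namespace Groth.Agent.Lib.ActSep

open Groth.Agent.Lib.GrpSch

variable {S : Scheme.{u}} [Subsingleton S] {G X : Over S} [GrpObj G] (f : G ⟶ X) (e : X ⊗ G ≅ X ⊗ G)
  (he : lift (snd G G * fst G G) (snd G G) ≫ (f ▷ G) = (f ▷ G) ≫ e.hom)

include he

/-- Every point is below a point at which the base change of `f` has the property. -/
theorem exists_point_nhdLocus {P : MorphismProperty Scheme.{u}} [P.IsStableUnderBaseChange] {w : G.left}
    (hw : w ∈ nhdLocus P f.left) (x : G.left) :
    ∃ v : (G ⊗ G).left, (fst G G).left v = x ∧ v ∈ nhdLocus P (f ▷ G).left := by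
  obtain ⟨z', hz'1, hz'2⟩ := Scheme.exists_preimage_of_isPullback (isPullback_left G G) w x (Subsingleton.elim _ _)
  let z := (lift (fst G G) (snd G G * (fst G G)⁻¹)).left z'
  have hz1 : (fst G G).left z = w := by
    rw [← hz'1, ← Scheme.Hom.comp_apply, ← Over.comp_left, lift_fst]
  let σ : G ⊗ G ≅ G ⊗ G :=
    { hom := lift (snd G G * fst G G) (snd G G)
      inv := lift ((snd G G)⁻¹ * fst G G) (snd G G)
      hom_inv_id := CartesianMonoidalCategory.hom_ext _ _
        (by simp [MonObj.comp_mul, GrpObj.comp_inv]) (by simp)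
      inv_hom_id := CartesianMonoidalCategory.hom_ext _ _
        (by simp [MonObj.comp_mul, GrpObj.comp_inv]) (by simp) }
  refine ⟨σ.hom.left z, ?_, ?_⟩
  · rw [← hz'2, ← Scheme.Hom.comp_apply, ← Scheme.Hom.comp_apply, ← Over.comp_left, ← Over.comp_left]
    congr 2
    simp [σ, MonObj.comp_mul]
  · have hz : z ∈ nhdLocus P (f ▷ G).left := mem_nhdLocus_bc (isPullback_whiskerRight f G).flip z (hz1.symm ▸ hw)
    have he' : σ.inv ≫ (f ▷ G) = (f ▷ G) ≫ e.inv := by
      rw [Iso.inv_comp_eq, ← Category.assoc, Iso.eq_comp_inv]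
      exact he.symm
    have : IsIso σ.inv.left := inferInstanceAs (IsIso ((Over.forget S).mapIso σ).inv)
    have : IsIso e.inv.left := inferInstanceAs (IsIso ((Over.forget S).mapIso e).inv)
    refine mem_nhdLocus_bc (IsPullback.of_horiz_isIso
      (fst := σ.inv.left) (snd := (f ▷ G).left) (f := (f ▷ G).left) (g := e.inv.left)
      ⟨by rw [← Over.comp_left, ← Over.comp_left, he']⟩) _ ?_
    rwa [← Scheme.Hom.comp_apply, ← Over.comp_left, Iso.hom_inv_id]

variable [Flat G.hom] [LocallyOfFinitePresentation G.hom]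

theorem spread_flatBC {P : MorphismProperty Scheme.{u}} [P.IsStableUnderBaseChange] [IsZariskiLocalAtSource P]
    (hP : FlatBC P) [LocallyOfFinitePresentation f.left] {w : G.left} (hw : w ∈ nhdLocus P f.left) : P f.left := by
  refine (iff_nhdLocus_eq_univ P f.left).2 (Set.eq_univ_of_forall fun x => ?_)
  obtain ⟨v, rfl, hv⟩ := exists_point_nhdLocus f e he hw x
  have : Flat (fst X G).left := MorphismProperty.pullback_fst (P := @Flat) _ _ ‹_›
  exact (hP.mem_iff (isPullback_whiskerRight f G).flip v).1 hv

omit [Flat G.hom] [LocallyOfFinitePresentation G.hom] in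
theorem spread_pointwiseBC {P : MorphismProperty Scheme.{u}} [P.IsStableUnderBaseChange] [IsZariskiLocalAtSource P]
    (hP : PointwiseBC P) [LocallyOfFiniteType f.left] {w : G.left} (hw : w ∈ nhdLocus P f.left) : P f.left := by
  refine (iff_nhdLocus_eq_univ P f.left).2 (Set.eq_univ_of_forall fun x => ?_)
  obtain ⟨v, rfl, hv⟩ := exists_point_nhdLocus f e he hw x
  exact (hP.mem_iff (isPullback_whiskerRight f G).flip v).1 hv

theorem spread_lfp {w : G.left} (hw : w ∈ nhdLocus @LocallyOfFinitePresentation f.left) :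
    LocallyOfFinitePresentation f.left := by
  refine (iff_nhdLocus_eq_univ @LocallyOfFinitePresentation f.left).2 (Set.eq_univ_of_forall fun x => ?_)
  obtain ⟨v, rfl, U, hvU, hU⟩ := exists_point_nhdLocus f e he hw x
  let q : (U : Scheme.{u}) ⟶ G.left := U.ι ≫ (fst G G).left
  have : Flat (fst G G).left := MorphismProperty.pullback_fst (P := @Flat) _ _ ‹_›
  have : LocallyOfFinitePresentation (fst G G).left :=
    MorphismProperty.pullback_fst (P := @LocallyOfFinitePresentation) _ _ ‹_›
  have : LocallyOfFinitePresentation (fst X G).left :=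
    MorphismProperty.pullback_fst (P := @LocallyOfFinitePresentation) _ _ ‹_›
  let V : G.left.Opens := ⟨Set.range q, q.isOpenMap.isOpen_range⟩
  refine ⟨V, ⟨⟨v, hvU⟩, rfl⟩, ?_⟩
  have : Flat (q ∣_ V) := IsZariskiLocalAtTarget.restrict (inferInstance : Flat q) _
  have : LocallyOfFinitePresentation (q ∣_ V) :=
    IsZariskiLocalAtTarget.restrict (inferInstance : LocallyOfFinitePresentation q) _
  have : Surjective (q ∣_ V) := ⟨fun y => by
    obtain ⟨a, ha⟩ := y.2
    refine ⟨⟨a, show q a ∈ V from ha.symm ▸ y.2⟩, Subtype.ext ?_⟩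
    exact (congrArg (fun φ : _ ⟶ G.left => φ _) (morphismRestrict_ι q V)).trans ha⟩
  have : LocallyOfFinitePresentation ((q ∣_ V) ≫ V.ι ≫ f.left) := by
    rw [morphismRestrict_ι_assoc, Category.assoc, ← Over.comp_left, ← whiskerRight_fst f G, Over.comp_left,
      ← Category.assoc U.ι]
    infer_instance
  exact EtSite.FppfSourceScheme.locallyOfFinitePresentation (q ∣_ V) (V.ι ≫ f.left)

end Groth.Agent.Lib.ActSep
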