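import Groth.Agent.Lib.ActSep.HomogBC
import Groth.Agent.Lib.ActSep.QuasiSectionRel

/-!
Translating finitely many points of a homogeneous space into a dense open by the neutral component.
-/

set_option autoImplicit false
set_option backward.isDefEq.respectTransparency false
set_option backward.isDefEq.respectTransparency.types false

universe u

open CategoryTheory Limits MonoidalCategory CartesianMonoidalCategory MonObj AlgebraicGeometry Topology

namespace Groth.Agent.Lib.ActSep

/-- Over a field, the part of a product lying over a finite closed set maps finitely to the other factor. -/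
theorem exists_finite_piece {k : Type u} [Field k] {P Y X : Scheme.{u}} {p : P ⟶ Y} {r : P ⟶ X}
    {f : Y ⟶ Spec (CommRingCat.of k)} {g : X ⟶ Spec (CommRingCat.of k)} (sq : IsPullback p r f g)
    [LocallyOfFiniteType f] {A : Set Y} (hA : A.Finite) (hAc : IsClosed A) :
    ∃ (Q : Scheme.{u}) (m : Q ⟶ P), IsClosedImmersion m ∧ IsFinite (m ≫ r) ∧ Set.range m = p ⁻¹' A := by
  let I := Scheme.IdealSheafData.vanishingIdeal ⟨A, hAc⟩
  let i := I.subschemeι
  have hi : Set.range i = A := by
    rw [Scheme.IdealSheafData.range_subschemeι, Scheme.IdealSheafData.coe_support_vanishingIdeal]; rfl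
  have : Finite ↥I.subscheme :=
    have := (hi.symm ▸ hA : (Set.range i).Finite).to_subtype
    Finite.of_injective (Set.rangeFactorization i) fun a b h =>
      i.isEmbedding.injective (congrArg Subtype.val h :)
  have : QuasiCompact (i ≫ f) := (quasiCompact_iff_compactSpace (i ≫ f)).mpr Finite.compactSpace
  have : LocallyQuasiFinite (i ≫ f) :=
    LocallyQuasiFinite.of_finite_preimage_singleton (i ≫ f) fun _ => Set.toFinite _
  have hfin : IsFinite (i ≫ f) := IsFinite.of_locallyQuasiFinite (i ≫ f)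
  refine ⟨pullback p i, pullback.fst p i,
    MorphismProperty.pullback_fst (P := @IsClosedImmersion) p i inferInstance, ?_, ?_⟩
  · exact MorphismProperty.of_isPullback (P := @IsFinite)
      ((IsPullback.of_hasPullback p i).flip.paste_vert sq) hfin
  · rw [Scheme.Pullback.range_fst, hi]

/-- The maximal points lie in every dense open. -/
theorem mem_of_isMaxPt_of_dense {X : Scheme.{u}} [IsLocallyNoetherian X] (U : X.Opens) (hU : Dense (U : Set X))
    {ξη : X} (hξη : MaxPt.IsMaxPt ξη) : ξη ∈ U := by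
  obtain ⟨V, hV, hξηV, hfin⟩ := Groth.Agent.Lib.Cyc.DimFun.exists_open_finite_maxPts (isClosed_univ (X := X)) ξη
  let B : Set X := ⋃ z ∈ {z ∈ V | MaxPt.IsMaxPt z ∧ z ≠ ξη}, closure {z}
  have hB : IsClosed B :=
    Set.Finite.isClosed_biUnion (hfin.subset fun z hz => ⟨hz.1, trivial, fun w _ hw => hz.2.1 w hw⟩) fun z _ => isClosed_closure
  have hne : (V ∩ Bᶜ).Nonempty := by
    refine ⟨ξη, hξηV, fun h => ?_⟩
    obtain ⟨z, ⟨-, hz, hzne⟩, hz'⟩ := Set.mem_iUnion₂.1 h
    exact hzne (hξη z (specializes_iff_mem_closure.2 hz'))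
  obtain ⟨y, ⟨hyV, hyB⟩, hyU⟩ := hU.inter_open_nonempty _ (hV.inter hB.isOpen_compl) hne
  obtain ⟨ξ, hξy, hξ⟩ := Groth.Agent.Lib.Cyc.DimFun.exists_isMaxPt_specializes y
  have hξmax : MaxPt.IsMaxPt ξ := fun z hz => hξ z hz
  by_cases h : ξ = ξη
  · exact h ▸ hξy.mem_open U.2 hyU
  · exact absurd (Set.mem_iUnion₂.2 ⟨ξ, ⟨hξy.mem_open hV hyV, hξmax, h⟩, hξy.mem_closure⟩) hyB

namespace HomogX

open Groth.Agent.Lib.GrpSch Groth.Agent.Lib.ActSep.MaxPt Groth.Agent.H63.GrpIrred Groth.Agent.H63.GrpComponent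

variable {k : Type u} [Field k] {G X : Over (Spec (CommRingCat.of k))} [GrpObj G] (a : AlgGrp.Action G X)

/-- Some closed point of the neutral component moves finitely many given points into a dense open. -/
theorem exists_closed_translating [LocallyOfFiniteType G.hom] [LocallyOfFiniteType X.hom]
    (hΦ : Surjective (lift a.act (snd G X)).left) (U : X.left.Opens) (hU : Dense (U : Set X.left))
    (A : Set X.left) (hA : A.Finite) :
    ∃ g : G.left, IsClosed ({g} : Set G.left) ∧ g ∈ comp0 G ∧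
      ∀ q : (G ⊗ X).left, (fst G X).left q = g → (snd G X).left q ∈ A → a.act.left q ∈ U := by
  have : Subsingleton ↥(Spec (CommRingCat.of k)) := subsingleton_field k
  have : IsLocallyNoetherian X.left := LocallyOfFiniteType.isLocallyNoetherian X.hom
  have : JacobsonSpace X.left := LocallyOfFiniteType.jacobsonSpace X.hom
  have : JacobsonSpace G.left := LocallyOfFiniteType.jacobsonSpace G.hom
  have sq : IsPullback (fst G X).left (snd G X).left G.hom X.hom := isPullback_left G X
  -- closed specializations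
  have hspec : ∀ b : X.left, ∃ b', b ⤳ b' ∧ IsClosed ({b'} : Set X.left) := fun b => by
    obtain ⟨b', hb', hb'c⟩ := nonempty_inter_closedPoints (Set.singleton_nonempty b).closure
      isClosed_closure.isLocallyClosed
    exact ⟨b', specializes_iff_mem_closure.2 hb', hb'c⟩
  choose cl hcl hclc using hspec
  let A' := cl '' A
  have hA' : A'.Finite := hA.image cl
  have hA'c : IsClosed A' := by
    rw [← Set.biUnion_of_singleton A']
    exact hA'.isClosed_biUnion fun b hb => by obtain ⟨b, -, rfl⟩ := hb; exact hclc b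
  obtain ⟨Q, m, _, hfin, hm⟩ := exists_finite_piece sq.flip hA' hA'c
  let F := (m ≫ (fst G X).left) '' (m ⁻¹' (a.act.left ⁻¹' ((U : Set X.left))ᶜ))
  have hF : IsClosed F :=
    (m ≫ (fst G X).left).isClosedMap _ ((U.isOpen.isClosed_compl.preimage a.act.left.continuous).preimage m.continuous)
  let ξη := Groth.Agent.H63.GrpIrred.genPt G (unitPt G)
  -- the generic point of the neutral component works
  have hξηF : ξη ∉ F := by
    rintro ⟨w, hw, hwξη⟩
    have hwξη' : (fst G X).left (m w) = ξη := by rw [← Scheme.Hom.comp_apply]; exact hwξη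
    have hwA : (snd G X).left (m w) ∈ A' := hm.le ⟨w, rfl⟩
    obtain ⟨q₀, hq₀, hq₀b, hq₀ξη⟩ := exists_act_eq_genX a hΦ ((snd G X).left (m w))
    have hξηq₀ : ξη ⤳ (fst G X).left q₀ := by
      rw [comp0, mem_component_iff] at hq₀
      rw [show ξη = Groth.Agent.H63.GrpIrred.genPt G ((fst G X).left q₀) from hq₀.symm]
      exact Groth.Agent.H63.GrpIrred.genPt_specializes G _
    obtain ⟨q', hq', hq'ξη, hq'b⟩ :=
      exists_lift_specializes_fibre sq q₀ ξη hξηq₀ (Subsingleton.elim _ _)
    have hact : a.act.left q' = genX ((snd G X).left (m w)) :=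
      isMaxPt_genX ((snd G X).left (m w)) _ (hq₀ξη ▸ hq'.map a.act.left.continuous)
    have := geometricallyIrreducible_genPt G
    obtain ⟨π, hπξη, hπb, hπ⟩ := exists_generic_over_pair G.hom X.hom ξη ((snd G X).left (m w))
    obtain ⟨wπ, hwπ⟩ : π ∈ Set.range m := by
      rw [hm]; show (snd G X).left π ∈ A'
      exact (show (snd G X).left π = (snd G X).left (m w) from hπb) ▸ hwA
    have hdisc : ∀ v : Q, π ⤳ m v → (fst G X).left (m v) = ξη → m v = π := fun v hv hvξη => by
      have hs : wπ ⤳ v := m.isEmbedding.isInducing.specializes_iff.1 (hwπ.symm ▸ hv)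
      have hd : DiscreteTopology ((m ≫ (fst G X).left) ⁻¹' {ξη}) :=
        isDiscrete_iff_discreteTopology.mp ((m ≫ (fst G X).left).isDiscrete_preimage_singleton ξη)
      let vF : (m ≫ (fst G X).left) ⁻¹' {ξη} := ⟨v, by
        show (m ≫ (fst G X).left) v = ξη; rw [Scheme.Hom.comp_apply]; exact hvξη⟩
      let πF : (m ≫ (fst G X).left) ⁻¹' {ξη} := ⟨wπ, by
        show (m ≫ (fst G X).left) wπ = ξη; rw [Scheme.Hom.comp_apply, hwπ]; exact hπξη⟩
      have : vF = πF := (((subtype_specializes_iff πF vF).2 hs).eq).symm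
      rw [← hwπ]; exact congrArg m (congrArg Subtype.val this)
    obtain ⟨w', hw'⟩ : q' ∈ Set.range m := by
      rw [hm]; show (snd G X).left q' ∈ A'; rw [hq'b, hq₀b]; exact hwA
    have h1 : m w = π := hdisc w (hπ _ hwξη' rfl) hwξη'
    have h2 : q' = π := by
      rw [← hw']
      exact hdisc w' (hw'.symm ▸ hπ _ hq'ξη (hq'b.trans hq₀b)) (hw'.symm ▸ hq'ξη)
    refine hw ?_
    show a.act.left (m w) ∈ U
    rw [h1, ← h2, hact]
    exact mem_of_isMaxPt_of_dense U hU (isMaxPt_genX _)
  have hξηc : ξη ∈ comp0 G := by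
    rw [comp0, mem_component_iff]; exact genPt_eq_of_specializes G (Groth.Agent.H63.GrpIrred.genPt_specializes G (unitPt G))
  have hcl0 : IsClosed (comp0 G) := isClosed_irreducibleComponent
  obtain ⟨g, ⟨hgc, hgF⟩, hg⟩ := nonempty_inter_closedPoints (Z := comp0 G ∩ Fᶜ) ⟨ξη, hξηc, hξηF⟩
    (hcl0.isLocallyClosed.inter hF.isOpen_compl.isLocallyClosed)
  refine ⟨g, hg, hgc, fun q hqg hqA => ?_⟩
  obtain ⟨Q₂, m₂, _, hfin₂, hm₂⟩ := exists_finite_piece sq (Set.finite_singleton g) hg
  obtain ⟨v, rfl⟩ : q ∈ Set.range m₂ := by rw [hm₂]; exact hqg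
  obtain ⟨v', hvv', hv'⟩ := (m₂ ≫ (snd G X).left).isClosedMap.specializingMap
    (show (m₂ ≫ (snd G X).left) v ⤳ cl ((snd G X).left (m₂ v)) by
      rw [Scheme.Hom.comp_apply]; exact hcl _)
  have hv'g : (fst G X).left (m₂ v') = g := hm₂.le ⟨v', rfl⟩
  refine (hvv'.map (m₂ ≫ a.act.left).continuous).mem_open U.isOpen ?_
  show (m₂ ≫ a.act.left) v' ∈ U
  rw [Scheme.Hom.comp_apply]
  by_contra hU'
  obtain ⟨w, hw⟩ : m₂ v' ∈ Set.range m := by
    rw [hm]; show (snd G X).left (m₂ v') ∈ A'
    rw [← Scheme.Hom.comp_apply, hv']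
    exact ⟨_, hqA, rfl⟩
  refine hgF ⟨w, ?_, ?_⟩
  · show a.act.left (m w) ∈ (U : Set X.left)ᶜ
    rw [hw]; exact hU'
  · rw [Scheme.Hom.comp_apply, hw]; exact hv'g

end HomogX

end Groth.Agent.Lib.ActSep
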