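import Groth.Agent.Lib.ActSep.WeilUnit
import Groth.Agent.Lib.FreeRes.SubGrp

/-!
Centralizer and normalizer of a smooth subgroup with connected fibres.
-/

universe u

open CategoryTheory CategoryTheory.Limits AlgebraicGeometry MonoidalCategory CartesianMonoidalCategory
open CategoryTheory.MonObj CategoryTheory.GrpObj
open Groth.Agent.Lib

set_option autoImplicit false
set_option linter.style.haveILetI false

namespace Groth.Agent.Lib.ActSep.UnitTransporter

variable {S : Scheme.{u}}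

theorem iso_iff {B T : Scheme.{u}} {X Y : Over B} (n : Y ⟶ X) [Mono n] (g : T ⟶ B) :
    IsIso ((Over.pullback g).map n) ↔
      ∀ (T' : Over B), (∃ s : T'.left ⟶ T, s ≫ g = T'.hom) → ∀ b : T' ⟶ X, ∃ l, l ≫ n = b := by
  rw [← WeilUnit.iso'_iff]
  show IsIso (pullback.snd n.left (pullback.fst X.hom g)) ↔ _
  haveI : Mono n.left := inferInstanceAs (Mono ((Over.forget B).map n))
  constructor
  · rintro h T' ⟨s, hs⟩ b
    let w : T'.left ⟶ Y.left := pullback.lift b.left s (by rw [Over.w b, hs]) ≫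
      inv (pullback.snd n.left (pullback.fst X.hom g)) ≫ pullback.fst _ _
    have hw : w ≫ n.left = b.left := by
      simp only [w, Category.assoc, pullback.condition, IsIso.inv_hom_id_assoc]
      exact pullback.lift_fst _ _ _
    exact ⟨Over.homMk w (by rw [← Over.w n, reassoc_of% hw, Over.w b]), Over.OverMorphism.ext hw⟩
  · intro h
    let T' : Over B := Over.mk (pullback.fst X.hom g ≫ X.hom)
    obtain ⟨l, hl⟩ := h T' ⟨pullback.snd X.hom g, pullback.condition.symm⟩
      (Over.homMk (pullback.fst X.hom g) rfl)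
    let σ := pullback.lift (f := n.left) (g := pullback.fst X.hom g) l.left (𝟙 _) (by
      rw [Category.id_comp, ← Over.comp_left, hl]; rfl)
    have hσ : σ ≫ pullback.snd n.left (pullback.fst X.hom g) = 𝟙 _ := pullback.lift_snd _ _ _
    exact ⟨σ, (cancel_mono (pullback.snd n.left (pullback.fst X.hom g))).1 (by
      rw [Category.assoc, hσ]
      exact (Category.comp_id _).trans (Category.id_comp _).symm), hσ⟩

section

variable (G : Over S) [GrpObj G]

/-- Points of a base change. -/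
noncomputable def E (T' : Over G.left) (A : Over S) :
    ((Over.map G.hom).obj T' ⟶ A) ≃ (T' ⟶ (Over.pullback G.hom).obj A) :=
  (Over.mapPullbackAdj G.hom).homEquiv T' A

theorem E_mul (T' : Over G.left) (a b : (Over.map G.hom).obj T' ⟶ G) :
    E G T' G (a * b) = E G T' G a * E G T' G b := by
  simp only [E, Adjunction.homEquiv_unit, Functor.map_mul, MonObj.comp_mul]

theorem E_inv (T' : Over G.left) (a : (Over.map G.hom).obj T' ⟶ G) :
    E G T' G a⁻¹ = (E G T' G a)⁻¹ := by
  have h1 : E G T' G 1 = 1 := by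
    have := E_mul G T' 1 1
    rw [_root_.one_mul] at this
    exact left_eq_mul.1 this
  exact eq_inv_of_mul_eq_one_left (by rw [← E_mul, inv_mul_cancel, h1])

theorem E_right (T' : Over G.left) {A A' : Over S} (a : (Over.map G.hom).obj T' ⟶ A) (f : A ⟶ A') :
    E G T' A' (a ≫ f) = E G T' A a ≫ (Over.pullback G.hom).map f :=
  (Over.mapPullbackAdj G.hom).homEquiv_naturality_right a f

/-- The universal point. -/
noncomputable def pt (T' : Over G.left) : (Over.map G.hom).obj T' ⟶ G :=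
  Over.homMk T'.hom rfl

/-- The universal section. -/
noncomputable def univPt : 𝟙_ (Over G.left) ⟶ (Over.pullback G.hom).obj G :=
  E G (𝟙_ (Over G.left)) G (pt G _)

theorem univPt_comp (T' : Over G.left) : toUnit T' ≫ univPt G = E G T' G (pt G T') := by
  rw [univPt, E, E, ← Adjunction.homEquiv_naturality_left]
  congr 1

variable {H : Over S} [GrpObj H] (i : H ⟶ G) [IsMonHom i]

/-- Conjugation by the universal point. -/
noncomputable def conj : (Over.pullback G.hom).obj H ⟶ (Over.pullback G.hom).obj G :=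
  (toUnit _ ≫ univPt G) * (Over.pullback G.hom).map i * (toUnit _ ≫ univPt G)⁻¹

/-- Conjugation by the inverse of the universal point. -/
noncomputable def conj' : (Over.pullback G.hom).obj H ⟶ (Over.pullback G.hom).obj G :=
  (toUnit _ ≫ univPt G)⁻¹ * (Over.pullback G.hom).map i * (toUnit _ ≫ univPt G)

theorem comp_conj {T' : Over G.left} (h : (Over.map G.hom).obj T' ⟶ H) :
    E G T' H h ≫ conj G i = E G T' G (pt G T' * (h ≫ i) * (pt G T')⁻¹) := by
  simp only [conj, MonObj.comp_mul, GrpObj.comp_inv, comp_toUnit_assoc]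
  simp only [univPt_comp, E_mul, E_inv, E_right]

theorem comp_conj' {T' : Over G.left} (h : (Over.map G.hom).obj T' ⟶ H) :
    E G T' H h ≫ conj' G i = E G T' G ((pt G T')⁻¹ * (h ≫ i) * pt G T') := by
  simp only [conj', MonObj.comp_mul, GrpObj.comp_inv, comp_toUnit_assoc]
  simp only [univPt_comp, E_mul, E_inv, E_right]

theorem mul_conj {T' : Over G.left} (a b : T' ⟶ (Over.pullback G.hom).obj H) :
    (a * b) ≫ conj G i = (a ≫ conj G i) * (b ≫ conj G i) := by
  simp only [conj, MonObj.comp_mul, GrpObj.comp_inv, comp_toUnit_assoc, MonObj.mul_comp]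
  group

theorem mul_conj' {T' : Over G.left} (a b : T' ⟶ (Over.pullback G.hom).obj H) :
    (a * b) ≫ conj' G i = (a ≫ conj' G i) * (b ≫ conj' G i) := by
  simp only [conj', MonObj.comp_mul, GrpObj.comp_inv, comp_toUnit_assoc, MonObj.mul_comp]
  group

end

theorem hom_eq_inv {C : Type*} [Group C] {D : Type*} [Group D] (f : C → D)
    (h : ∀ a b, f (a * b) = f a * f b) (a : C) : f a⁻¹ = (f a)⁻¹ :=
  map_inv (MonoidHom.mk' f h) a

theorem hom_eq_one {C : Type*} [Group C] {D : Type*} [Group D] (f : C → D)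
    (h : ∀ a b, f (a * b) = f a * f b) : f 1 = 1 :=
  map_one (MonoidHom.mk' f h)

/-- The closed subscheme of `G` over which a subgroup of `H_G` is everything. -/
theorem exists_closed {G H : Over S} [GrpObj G] [GrpObj H] [Smooth H.hom]
    (hconn : ∀ s : S, _root_.IsConnected (H.hom.base ⁻¹' {s})) {Y : Over G.left}
    (n : Y ⟶ (Over.pullback G.hom).obj H) [Mono n] [LocallyOfFinitePresentation Y.hom]
    (h1 : ∀ T' : Over G.left, ∃ z : T' ⟶ Y, z ≫ n = 1)
    (hm : ∀ {T' : Over G.left} (a b : T' ⟶ Y), ∃ z : T' ⟶ Y, z ≫ n = (a ≫ n) * (b ≫ n))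
    (hi : ∀ {T' : Over G.left} (a : T' ⟶ Y), ∃ z : T' ⟶ Y, z ≫ n = (a ≫ n)⁻¹)
    (P : ∀ {T'' : Over S}, (T'' ⟶ G) → (T'' ⟶ H) → Prop)
    (hP : ∀ (T' : Over G.left) (h : (Over.map G.hom).obj T' ⟶ H),
      (∃ l, l ≫ n = E G T' H h) ↔ P (pt G T') h) :
    ∃ (Z : Over S) (z : Z ⟶ G), IsClosedImmersion z.left ∧ LocallyOfFinitePresentation z.left ∧
      ∀ (T : Over S) (g : T ⟶ G), (∃ w : T ⟶ Z, w ≫ z = g) ↔
        ∀ (T'' : Over S) (t : T'' ⟶ T) (h : T'' ⟶ H), P (t ≫ g) h := by
  obtain ⟨_, _⟩ := FreeRes.exists_grpObj_of_mono n h1 hm hi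
  haveI : Smooth ((Over.pullback G.hom).obj H).hom :=
    inferInstanceAs (Smooth (pullback.snd H.hom G.hom))
  obtain ⟨Z₀, z₀, hz, hzfp, hz₀⟩ :=
    WeilUnit.exists_closed_iso (WeilUnit.isConnected_bc hconn G.hom) n
  refine ⟨Over.mk (z₀ ≫ G.hom), Over.homMk z₀ rfl, hz, hzfp, fun T g => ?_⟩
  have hw : (∃ w : T ⟶ Over.mk (z₀ ≫ G.hom), w ≫ Over.homMk z₀ rfl = g) ↔ ∃ g', g' ≫ z₀ = g.left :=
    ⟨fun ⟨w, hw⟩ => ⟨w.left, congrArg CommaMorphism.left hw⟩, fun ⟨g', hg'⟩ =>
      ⟨Over.homMk g' (by show g' ≫ z₀ ≫ G.hom = T.hom; rw [reassoc_of% hg', Over.w g]),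
        Over.OverMorphism.ext hg'⟩⟩
  rw [hw, hz₀, iso_iff]
  constructor
  · intro hall T'' t h
    let T' : Over G.left := Over.mk (t ≫ g).left
    have ht : t.left ≫ g.left = T'.hom := rfl
    let e : (Over.map G.hom).obj T' ≅ T'' := Over.isoMk (Iso.refl _) (by
      show 𝟙 _ ≫ T''.hom = (t ≫ g).left ≫ G.hom
      rw [Category.id_comp, Over.w])
    have := (hP T' (e.hom ≫ h)).1 (hall T' ⟨t.left, ht⟩ _)
    have he : pt G T' = e.hom ≫ t ≫ g := Over.OverMorphism.ext (Category.id_comp _).symm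
    have key : ∀ {A : Over S} (e' : A = T'') (γ : A ⟶ G) (x : A ⟶ H), P γ x →
        P (eqToHom e'.symm ≫ γ) (eqToHom e'.symm ≫ x) := by
      intro A e' γ x hx
      subst e'
      simpa using hx
    have eA : (Over.map G.hom).obj T' = T'' := by
      show Over.mk ((t ≫ g).left ≫ G.hom) = T''
      rw [Over.w]
      rfl
    have heq : eqToHom eA.symm ≫ e.hom = 𝟙 T'' := by
      apply Over.OverMorphism.ext
      simp [e, Over.eqToHom_left]
    have := key eA _ _ this
    rwa [he, reassoc_of% heq, reassoc_of% heq] at this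
  · rintro hall T' ⟨s, hs⟩ b
    obtain ⟨h, rfl⟩ := (E G T' H).surjective b
    refine (hP T' h).2 ?_
    let t : (Over.map G.hom).obj T' ⟶ T := Over.homMk s (by
      show s ≫ T.hom = T'.hom ≫ G.hom
      rw [← hs, Category.assoc, Over.w g])
    have e : t ≫ g = pt G T' := Over.OverMorphism.ext hs
    exact e ▸ hall _ t h

/-- The normalizer. -/
theorem exists_normalizer (G H : Over S) [GrpObj G] [GrpObj H]
    [LocallyOfFiniteType G.hom] [Smooth H.hom]
    (hconn : ∀ s : S, _root_.IsConnected (H.hom.base ⁻¹' {s})) (i : H ⟶ G) [IsMonHom i] [Mono i] :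
    ∃ (N : Over S) (n : N ⟶ G), IsClosedImmersion n.left ∧ LocallyOfFinitePresentation n.left ∧
      ∀ (T : Over S) (g : T ⟶ G), (∃ z : T ⟶ N, z ≫ n = g) ↔
        ∀ (T' : Over S) (t : T' ⟶ T) (h : T' ⟶ H),
          (∃ h' : T' ⟶ H, (t ≫ g) * (h ≫ i) * (t ≫ g)⁻¹ = h' ≫ i) ∧
          (∃ h' : T' ⟶ H, (t ≫ g)⁻¹ * (h ≫ i) * (t ≫ g) = h' ≫ i) := by
  let XG := (Over.pullback G.hom).obj H
  let ZG := (Over.pullback G.hom).obj G
  let iG : XG ⟶ ZG := (Over.pullback G.hom).map i
  haveI : Mono i.left := inferInstanceAs (Mono ((Over.forget S).map i))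
  have hi0 : LocallyOfFinitePresentation i.left :=
    Flat55.FibreTransfer.locallyOfFinitePresentation_of_comp (g := G.hom)
      (by rw [Over.w]; infer_instance) inferInstance
  have hiG : LocallyOfFinitePresentation iG.left := MorphismProperty.of_isPullback
    (P := @LocallyOfFinitePresentation) (isPullback_map i G.hom) hi0
  haveI : Mono iG.left := MorphismProperty.of_isPullback (P := MorphismProperty.monomorphisms Scheme)
    (isPullback_map i G.hom) (MorphismProperty.monomorphisms.infer_property i.left)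
  haveI : Mono (iG ⊗ₘ iG).left :=
    GenericTransporter.prop_tensorHom (P := MorphismProperty.monomorphisms Scheme) iG iG
      (MorphismProperty.monomorphisms.infer_property _) (MorphismProperty.monomorphisms.infer_property _)
  haveI : Mono (iG ⊗ₘ iG) := (Over.forget _).mono_of_mono_map (show Mono (iG ⊗ₘ iG).left from inferInstance)
  let c : XG ⟶ ZG ⊗ ZG := lift (conj G i) (conj' G i)
  let Y := pullback c (iG ⊗ₘ iG)
  let n : Y ⟶ XG := pullback.fst c (iG ⊗ₘ iG)
  haveI : LocallyOfFinitePresentation XG.hom :=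
    inferInstanceAs (LocallyOfFinitePresentation (pullback.snd H.hom G.hom))
  haveI : LocallyOfFinitePresentation Y.hom := by
    have hn : LocallyOfFinitePresentation n.left := MorphismProperty.of_isPullback
      (P := @LocallyOfFinitePresentation) ((IsPullback.of_hasPullback c (iG ⊗ₘ iG)).map (Over.forget _)).flip
      (GenericTransporter.prop_tensorHom (P := @LocallyOfFinitePresentation) iG iG hiG hiG)
    rw [← Over.w n]; infer_instance
  have hmem : ∀ {T' : Over G.left} (a : T' ⟶ XG), (∃ l, l ≫ n = a) ↔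
      (∃ h', h' ≫ iG = a ≫ conj G i) ∧ ∃ h', h' ≫ iG = a ≫ conj' G i := by
    intro T' a
    constructor
    · rintro ⟨l, rfl⟩
      refine ⟨⟨l ≫ pullback.snd c _ ≫ fst XG XG, ?_⟩, ⟨l ≫ pullback.snd c _ ≫ snd XG XG, ?_⟩⟩
      · have := congrArg (fun q => l ≫ q ≫ fst ZG ZG) (pullback.condition (f := c) (g := iG ⊗ₘ iG))
        simpa [c, n] using this.symm
      · have := congrArg (fun q => l ≫ q ≫ snd ZG ZG) (pullback.condition (f := c) (g := iG ⊗ₘ iG))
        simpa [c, n] using this.symm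
    · rintro ⟨⟨a₁, h₁⟩, a₂, h₂⟩
      refine ⟨pullback.lift a (lift a₁ a₂) ?_, pullback.lift_fst _ _ _⟩
      rw [lift_map, h₁, h₂, comp_lift]
  refine exists_closed hconn n (fun T' => (hmem 1).2
      ⟨⟨1, ?_⟩, ⟨1, ?_⟩⟩)
    (fun a b => (hmem _).2 ?_) (fun a => (hmem _).2 ?_)
    (fun γ h => (∃ h', γ * (h ≫ i) * γ⁻¹ = h' ≫ i) ∧ ∃ h', γ⁻¹ * (h ≫ i) * γ = h' ≫ i)
    fun T' h => ?_
  · rw [MonObj.one_comp, hom_eq_one (fun q => q ≫ conj G i) (mul_conj G i)]
  · rw [MonObj.one_comp, hom_eq_one (fun q => q ≫ conj' G i) (mul_conj' G i)]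
  · obtain ⟨⟨p, hp⟩, q, hq⟩ := (hmem _).1 ⟨a, rfl⟩
    obtain ⟨⟨p', hp'⟩, q', hq'⟩ := (hmem _).1 ⟨b, rfl⟩
    exact ⟨⟨p * p', by rw [MonObj.mul_comp, hp, hp', mul_conj]⟩,
      ⟨q * q', by rw [MonObj.mul_comp, hq, hq', mul_conj']⟩⟩
  · obtain ⟨⟨p, hp⟩, q, hq⟩ := (hmem _).1 ⟨a, rfl⟩
    exact ⟨⟨p⁻¹, by rw [GrpObj.inv_comp, hp, hom_eq_inv (fun q => q ≫ conj G i) (mul_conj G i)]⟩,
      ⟨q⁻¹, by rw [GrpObj.inv_comp, hq, hom_eq_inv (fun q => q ≫ conj' G i) (mul_conj' G i)]⟩⟩
  · rw [hmem, comp_conj, comp_conj']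
    refine and_congr ?_ ?_ <;>
    · rw [(E G T' H).symm.exists_congr_left]
      refine exists_congr fun h' => ?_
      rw [show iG = (Over.pullback G.hom).map i from rfl, Equiv.symm_symm, ← E_right,
        (E G T' G).injective.eq_iff, eq_comm]

/-- The centralizer. -/
theorem exists_centralizer (G H : Over S) [GrpObj G] [GrpObj H]
    [LocallyOfFiniteType G.hom] [Smooth H.hom]
    (hconn : ∀ s : S, _root_.IsConnected (H.hom.base ⁻¹' {s})) (i : H ⟶ G) [IsMonHom i] :
    ∃ (Z : Over S) (z : Z ⟶ G), IsClosedImmersion z.left ∧ LocallyOfFinitePresentation z.left ∧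
      ∀ (T : Over S) (g : T ⟶ G), (∃ w : T ⟶ Z, w ≫ z = g) ↔
        ∀ (T' : Over S) (t : T' ⟶ T) (h : T' ⟶ H), (t ≫ g) * (h ≫ i) = (h ≫ i) * (t ≫ g) := by
  let XG := (Over.pullback G.hom).obj H
  let ZG := (Over.pullback G.hom).obj G
  let iG : XG ⟶ ZG := (Over.pullback G.hom).map i
  let Δ : ZG ⟶ ZG ⊗ ZG := lift (𝟙 ZG) (𝟙 ZG)
  haveI : Mono Δ := mono_of_mono_fac (lift_fst (𝟙 ZG) (𝟙 ZG))
  let c : XG ⟶ ZG ⊗ ZG := lift (conj G i) iG
  let Y := pullback c Δ
  let n : Y ⟶ XG := pullback.fst c Δ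
  haveI : LocallyOfFinitePresentation XG.hom :=
    inferInstanceAs (LocallyOfFinitePresentation (pullback.snd H.hom G.hom))
  haveI : LocallyOfFinitePresentation Y.hom := by
    have hΔ : Δ.left = pullback.diagonal ZG.hom := pullback.hom_ext
      ((congrArg CommaMorphism.left (lift_fst (𝟙 ZG) (𝟙 ZG))).trans
        (pullback.diagonal_fst ZG.hom).symm)
      ((congrArg CommaMorphism.left (lift_snd (𝟙 ZG) (𝟙 ZG))).trans
        (pullback.diagonal_snd ZG.hom).symm)
    haveI : LocallyOfFiniteType ZG.hom := inferInstanceAs (LocallyOfFiniteType (pullback.snd G.hom G.hom))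
    haveI : LocallyOfFinitePresentation (pullback.diagonal ZG.hom ≫ pullback.fst ZG.hom ZG.hom) := by
      rw [pullback.diagonal_fst]; infer_instance
    have hd : LocallyOfFinitePresentation Δ.left := by
      rw [hΔ]
      exact Flat55.FibreTransfer.locallyOfFinitePresentation_of_comp (g := pullback.fst ZG.hom ZG.hom)
        inferInstance inferInstance
    have hn : LocallyOfFinitePresentation n.left := MorphismProperty.of_isPullback
      (P := @LocallyOfFinitePresentation) ((IsPullback.of_hasPullback c Δ).map (Over.forget _)).flip hd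
    rw [← Over.w n]; infer_instance
  have hmem : ∀ {T' : Over G.left} (a : T' ⟶ XG), (∃ l, l ≫ n = a) ↔ a ≫ conj G i = a ≫ iG := by
    intro T' a
    constructor
    · rintro ⟨l, rfl⟩
      have h1 := congrArg (fun q => l ≫ q ≫ fst ZG ZG) (pullback.condition (f := c) (g := Δ))
      have h2 := congrArg (fun q => l ≫ q ≫ snd ZG ZG) (pullback.condition (f := c) (g := Δ))
      simp only [c, Δ, Category.assoc, lift_fst, lift_snd, Category.comp_id] at h1 h2
      simpa [n] using h1.trans h2.symm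
    · intro h
      refine ⟨pullback.lift a (a ≫ iG) ?_, pullback.lift_fst _ _ _⟩
      simp [c, Δ, comp_lift, h]
  refine exists_closed hconn n (fun T' => (hmem 1).2 ?_)
    (fun a b => (hmem _).2 ?_) (fun a => (hmem _).2 ?_)
    (fun γ h => γ * (h ≫ i) = (h ≫ i) * γ) fun T' h => ?_
  · rw [hom_eq_one (fun q => q ≫ conj G i) (mul_conj G i), MonObj.one_comp]
  · rw [mul_conj, MonObj.mul_comp, (hmem _).1 ⟨a, rfl⟩, (hmem _).1 ⟨b, rfl⟩]
  · rw [hom_eq_inv (fun q => q ≫ conj G i) (mul_conj G i), GrpObj.inv_comp, (hmem _).1 ⟨a, rfl⟩]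
  · rw [hmem, comp_conj, show iG = (Over.pullback G.hom).map i from rfl, ← E_right,
      (E G T' G).injective.eq_iff, mul_inv_eq_iff_eq_mul]

end Groth.Agent.Lib.ActSep.UnitTransporter
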