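import Groth.Agent.Lib.ActSep.WeilUnit
import Groth.Agent.Lib.Flat55.FreeLocusLocal
import Groth.Agent.Lib.FreeRes.Locus

/-!
Weil restriction of a closed subscheme along a smooth morphism with geometrically irreducible fibres.
-/

universe u

open CategoryTheory CategoryTheory.Limits AlgebraicGeometry TopologicalSpace
open Groth.Agent.Lib Groth.Agent.Lib.Flat55.GenericPtFibre
open scoped TensorProduct

set_option autoImplicit false
set_option linter.style.haveILetI false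

namespace Groth.Agent.Lib.ActSep.WeilGeomIrred

variable {S X : Scheme.{u}} (f : X ⟶ S)

/-- Charts of a smooth morphism which meet every fibre over their base. -/
theorem exists_chart_nhd [Smooth f] (x : X) :
    ∃ (V : S.Opens) (_ : IsAffineOpen V) (W : X.Opens) (_ : IsAffineOpen W) (e : W ≤ f ⁻¹ᵁ V),
      f x ∈ V ∧ (∀ y ∈ V, ∃ w ∈ W, f w = y) ∧ (f.appLE V W e).hom.IsStandardSmooth := by
  obtain ⟨U, hU, W₁, hW₁, hxW₁, e₀, hss₀⟩ := Smooth.exists_isStandardSmooth f x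
  obtain ⟨r, hr, hxr⟩ := hU.exists_basicOpen_le
    (V := ⟨f '' W₁, f.isOpenMap _ W₁.2⟩) ⟨f x, ⟨x, hxW₁, rfl⟩⟩ (e₀ hxW₁)
  let r' := f.appLE U W₁ e₀ r
  let W₂ := X.basicOpen r'
  have hW₂ : W₂ = W₁ ⊓ f ⁻¹ᵁ S.basicOpen r := Scheme.basicOpen_appLE _ _ _ _ _
  refine ⟨S.basicOpen r, hU.basicOpen r, W₂, hW₁.basicOpen r', hW₂.trans_le inf_le_right, hxr,
    fun y hy => ?_, ?_⟩
  · obtain ⟨w, hw, rfl⟩ := hr hy
    exact ⟨w, hW₂.ge ⟨hw, hy⟩, rfl⟩
  · let := hU.isLocalization_basicOpen r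
    let := hW₁.isLocalization_basicOpen r'
    rw [IsAffineOpen.appLE_eq_away_map f hU hW₁ e₀ r, CommRingCat.hom_ofHom]
    exact RingHom.isStandardSmooth_localizationPreserves.away _ r _ _ hss₀

/-- A morphism from an affine scheme into a chart lifts to a closed subscheme iff its comorphism
kills the ideal. -/
theorem exists_lift_iff {Y : Scheme.{u}} (j : Y ⟶ X) [IsClosedImmersion j] {W : X.Opens}
    (hW : IsAffineOpen W) {C : CommRingCat.{u}} (φ : Γ(X, W) ⟶ C) :
    (∃ y, y ≫ j = Spec.map φ ≫ hW.fromSpec) ↔ ∀ a ∈ j.ker.ideal ⟨W, hW⟩, φ.hom a = 0 := by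
  let x := Spec.map φ ≫ hW.fromSpec
  have hk : (∃ y, y ≫ j = x) ↔ j.ker.comap x = ⊥ := by
    rw [← le_bot_iff, ← Scheme.IdealSheafData.le_map_iff_comap_le, Scheme.IdealSheafData.map_bot]
    exact ⟨fun ⟨y, hy⟩ => hy ▸ Scheme.Hom.le_ker_comp _ _,
      fun h => ⟨IsClosedImmersion.lift j x h, IsClosedImmersion.lift_fac _ _ _⟩⟩
  have hpre : (⊤ : (Spec C).Opens) ≤ x ⁻¹ᵁ W := fun p _ => by
    show hW.fromSpec (Spec.map φ p) ∈ W
    exact hW.range_fromSpec.le ⟨_, rfl⟩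
  let U : (Spec C).affineOpens := ⟨⊤, isAffineOpen_top _⟩
  have happ : x.appLE W ⊤ hpre = φ ≫ (Scheme.ΓSpecIso C).inv := by
    have e0 : hW.fromSpec.appLE W ⊤ hW.fromSpec_preimage_self.ge = (Scheme.ΓSpecIso Γ(X, W)).inv := by
      rw [Scheme.Hom.appLE, IsAffineOpen.fromSpec_app_self, Category.assoc, ← Functor.map_comp]
      convert Category.comp_id _
      exact (Spec Γ(X, W)).presheaf.map_id _
    rw [Scheme.ΓSpecIso_inv_naturality, ← e0,
      show (Spec.map φ).appTop = (Spec.map φ).appLE ⊤ ⊤ le_top from Scheme.Hom.app_eq_appLE _]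
    exact (Scheme.Hom.appLE_comp_appLE _ _ _ _ _ _ _).symm
  have hid : (j.ker.comap x).ideal U = Ideal.map (x.appLE W ⊤ hpre).hom (j.ker.ideal ⟨W, hW⟩) :=
    Ideal.Comap.ideal_comap x _ ⟨W, hW⟩ U hpre
  rw [hk]
  constructor
  · intro h a ha
    have h1 := Ideal.mem_map_of_mem (x.appLE W ⊤ hpre).hom ha
    rw [← hid, h, Scheme.IdealSheafData.ideal_bot, Pi.bot_apply, Ideal.mem_bot, happ] at h1
    exact (ConcreteCategory.bijective_of_isIso (Scheme.ΓSpecIso C).inv).1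
      (h1.trans (map_zero (Scheme.ΓSpecIso C).inv.hom).symm)
  · intro h
    refine Scheme.IdealSheafData.equivOfIsAffine.injective ?_
    show (j.ker.comap x).ideal U = (⊥ : (Spec C).IdealSheafData).ideal U
    rw [hid, Scheme.IdealSheafData.ideal_bot, Pi.bot_apply, eq_bot_iff, Ideal.map_le_iff_le_comap]
    intro a ha
    rw [Ideal.mem_comap, Ideal.mem_bot, happ]
    show (Scheme.ΓSpecIso C).inv.hom (φ.hom a) = 0
    rw [h a ha, map_zero]

variable [Smooth f] [GeometricallyIrreducible f] {V : S.Opens} (hV : IsAffineOpen V) {W : X.Opens}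
  (hW : IsAffineOpen W) (e : W ≤ f ⁻¹ᵁ V)

include hV hW in
/-- Content ideals on a chart. -/
theorem exists_content (hsurj : ∀ y ∈ V, ∃ w ∈ W, f w = y) (hss : (f.appLE V W e).hom.IsStandardSmooth)
    (a : Γ(X, W)) :
    ∃ J : Ideal Γ(S, V), J.FG ∧ ∀ (A : Type u) [CommRing A] [Algebra Γ(S, V) A],
      letI := (f.appLE V W e).hom.toAlgebra
      ((1 : A) ⊗ₜ[Γ(S, V)] a) = 0 ↔ J.map (algebraMap Γ(S, V) A) = ⊥ := by
  classical
  let R := Γ(S, V)
  let B := Γ(X, W)
  let : Algebra R B := (f.appLE V W e).hom.toAlgebra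
  have : Algebra.IsStandardSmooth R B := hss
  obtain ⟨ι, σ, hσ, hι, ⟨P⟩⟩ := ‹Algebra.IsStandardSmooth R B›.out
  have : Algebra.IsStandardSmoothOfRelativeDimension P.dimension R B :=
    P.isStandardSmoothOfRelativeDimension rfl
  have : Algebra.Smooth R B := inferInstance
  have : Module.FaithfullyFlat R B := by
    refine Module.FaithfullyFlat.of_comap_surjective fun q => ?_
    obtain ⟨w, hw, hfw⟩ := hsurj (hV.fromSpec q) (hV.range_fromSpec.le ⟨q, rfl⟩)
    obtain ⟨q', rfl⟩ := hW.range_fromSpec.ge hw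
    refine ⟨q', hV.fromSpec.isOpenEmbedding.injective ?_⟩
    show hV.fromSpec (Spec.map (f.appLE V W e) q') = _
    rw [← hfw, ← Scheme.Hom.comp_apply, IsAffineOpen.SpecMap_appLE_fromSpec f hV hW e,
      Scheme.Hom.comp_apply]
  refine Flat55.JetContent.exists_content P.dimension (fun A _ _ σ c u hu huc => ?_) a
  obtain ⟨j, hj, -, hj₂, -⟩ := Flat55.FreeLocus.exists_chart f hV hW A e (halg := rfl)
  have hproj : ∀ Q, PicF.XTproj f (Flat55.FreeLocus.affTest hV A) (j Q) =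
      PrimeSpectrum.comap (algebraMap A (A ⊗[R] B)) Q := fun Q => by
    rw [← Scheme.Hom.comp_apply, hj₂]; rfl
  by_contra hne
  let I : Ideal (A ⊗[R] B) := (Submodule.span (A ⊗[R] B) {c}).annihilator
  have hI : I ≠ ⊤ := fun h => hne (by
    have h1 := Submodule.mem_annihilator_span_singleton c (1 : A ⊗[R] B)
    simpa using h1.1 (show (1 : A ⊗[R] B) ∈ I by rw [h]; trivial))
  obtain ⟨M, hM, hIM⟩ := Ideal.exists_le_maximal I hI
  let t : PrimeSpectrum A := ⟨M.comap (algebraMap A (A ⊗[R] B)), inferInstance⟩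
  obtain ⟨η', hη't, hη'⟩ := exists_genericPt (PicF.XTproj f (Flat55.FreeLocus.affTest hV A)) t
  have hMj : PicF.XTproj f (Flat55.FreeLocus.affTest hV A) (j ⟨M, inferInstance⟩) =
      PicF.XTproj f (Flat55.FreeLocus.affTest hV A) η' := (hproj ⟨M, inferInstance⟩).trans hη't.symm
  obtain ⟨η, rfl⟩ : η' ∈ Set.range j :=
    genericPt_mem hη' hMj (U := j.opensRange) ⟨_, rfl⟩
  have hmin : ∀ Q : PrimeSpectrum (A ⊗[R] B),
      Q.asIdeal.comap (algebraMap A (A ⊗[R] B)) = t.asIdeal → η.asIdeal ≤ Q.asIdeal := fun Q hQ => by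
    have h1 := hη' (j Q) ((hproj Q).trans ((PrimeSpectrum.ext hQ).trans hη't.symm))
    exact (PrimeSpectrum.le_iff_specializes _ _).2 (j.isOpenEmbedding.isInducing.specializes_iff.1 h1)
  have hu' : u ∉ η.asIdeal := fun hmem => by
    have hQ := hmin ⟨t.asIdeal.comap σ, inferInstance⟩ (by
      show (t.asIdeal.comap σ).comap (algebraMap A (A ⊗[R] B)) = t.asIdeal
      ext a
      show σ (algebraMap A (A ⊗[R] B) a) ∈ t.asIdeal ↔ a ∈ t.asIdeal
      rw [σ.commutes]
      rfl)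
    have : σ u ∈ t.asIdeal := hQ hmem
    rw [hu] at this
    exact t.2.ne_top ((Ideal.eq_top_iff_one _).2 this)
  haveI := η.2
  obtain ⟨w, hwM, hwc⟩ := Flat55.SmoothFibreInj.exists_notMem_mul_eq_zero (R := A) M η.asIdeal
    (hmin ⟨M, inferInstance⟩ rfl)
    (congrArg PrimeSpectrum.asIdeal ((hproj η).symm.trans hη't)) u hu' c huc
  exact hwM (hIM ((Submodule.mem_annihilator_span_singleton c w).2 hwc))

variable {Y : Scheme.{u}} (j : Y ⟶ X) [IsClosedImmersion j]

include hV hW in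
/-- The local equations. -/
theorem exists_rep (hsurj : ∀ y ∈ V, ∃ w ∈ W, f w = y) (hss : (f.appLE V W e).hom.IsStandardSmooth) :
    ∃ J : Ideal Γ(S, V), (LocallyOfFinitePresentation j → J.FG) ∧
      Flat55.ClosedRep.Rep
        (WeilUnit.Iso' (Over.homMk j : Over.mk (j ≫ f) ⟶ Over.mk f)) hV.fromSpec J := by
  classical
  choose Jc hJfg hJc using exists_content f hV hW e hsurj hss
  let I := j.ker.ideal ⟨W, hW⟩
  obtain ⟨G, hG, hGfin⟩ : ∃ G : Set Γ(X, W), Ideal.span G = I ∧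
      (LocallyOfFinitePresentation j → G.Finite) := by
    by_cases h : LocallyOfFinitePresentation j
    · obtain ⟨G, hG⟩ := Lim.Approx.Integral.isFG_ker_of_lfp j ⟨W, hW⟩
      exact ⟨G, hG, fun _ => G.finite_toSet⟩
    · exact ⟨I, Ideal.span_eq I, fun h' => absurd h' h⟩
  refine ⟨⨆ g : G, Jc g.1, fun h => ?_, fun A ψ => ?_⟩
  · have := (hGfin h).to_subtype
    exact Submodule.fg_iSup _ fun g => hJfg _
  letI : Algebra Γ(S, V) Γ(X, W) := (f.appLE V W e).hom.toAlgebra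
  letI : Algebra Γ(S, V) A := ψ.hom.toAlgebra
  let inc : Γ(X, W) ⟶ CommRingCat.of (A ⊗[Γ(S, V)] Γ(X, W)) := CommRingCat.ofHom
    (Algebra.TensorProduct.includeRight : _ →ₐ[Γ(S, V)] A ⊗[Γ(S, V)] Γ(X, W)).toRingHom
  have hJ : (⨆ g : G, Jc g.1).map ψ.hom = ⊥ ↔ ∀ a ∈ I, inc.hom a = 0 := by
    rw [Ideal.map_iSup, iSup_eq_bot]
    refine ⟨fun h a ha => ?_, fun h g => (hJc g.1 A).1 (h _ (hG ▸ Ideal.subset_span g.2))⟩
    have hle : Ideal.span G ≤ RingHom.ker inc.hom :=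
      Ideal.span_le.2 fun g hg => (hJc g A).2 (h ⟨g, hg⟩)
    exact hle (hG.symm ▸ ha)
  obtain ⟨k, hk, hk₁, -, hkW⟩ := Flat55.FreeLocus.exists_chart f hV hW A e (halg := rfl)
  rw [hJ, ← exists_lift_iff j hW inc]
  let T : Over S := Flat55.FreeLocus.affTest hV A
  let p := pullback.fst f T.hom
  let q := pullback.snd j p
  show IsIso q ↔ _
  constructor
  · intro h
    refine ⟨k ≫ inv q ≫ pullback.fst j p, ?_⟩
    rw [Category.assoc, Category.assoc, pullback.condition]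
    exact (show k ≫ inv q ≫ q ≫ p = k ≫ p by rw [IsIso.inv_hom_id_assoc]).trans hk₁
  rintro ⟨y, hy⟩
  have hy' : y ≫ j = k ≫ p := hy.trans hk₁.symm
  haveI : IsClosedImmersion q := inferInstanceAs (IsClosedImmersion (pullback.snd j p))
  -- `q` has a section over the chart
  let σ := pullback.lift y k hy'
  have hσ : σ ≫ q = k := pullback.lift_snd _ _ _
  suffices hker : q.ker = ⊥ by
    have hle : q.ker ≤ (𝟙 (pullback f T.hom) : _ ⟶ _).ker := hker.le.trans bot_le
    let s := IsClosedImmersion.lift q (𝟙 _) hle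
    have hs : s ≫ q = 𝟙 _ := IsClosedImmersion.lift_fac _ _ _
    exact ⟨s, (cancel_mono q).1 (by rw [Category.assoc, hs, Category.comp_id, Category.id_comp]), hs⟩
  refine Scheme.IdealSheafData.ext (funext fun O => ?_)
  rw [Scheme.IdealSheafData.ideal_bot, Pi.bot_apply, eq_bot_iff]
  intro a ha
  rw [Scheme.Hom.ker_apply, RingHom.mem_ker] at ha
  rw [Ideal.mem_bot]
  -- `a` vanishes where the chart is
  have hvan : ∀ O' : (pullback f T.hom).Opens, ∀ hO : O' ≤ O.1, O' ≤ k.opensRange →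
      (pullback f T.hom).presheaf.map (homOfLE hO).op a = 0 := by
    intro O' hO hOk
    haveI := k.isIso_app O' hOk
    refine (ConcreteCategory.bijective_of_isIso (k.app O')).1 ?_
    rw [map_zero]
    have h1 : (k.app O') ((pullback f T.hom).presheaf.map (homOfLE hO).op a) =
        k.appLE O.1 (k ⁻¹ᵁ O') (k.preimage_mono hO) a := by
      simp only [Scheme.Hom.appLE, CommRingCat.comp_apply]
      rw [← CommRingCat.comp_apply, ← CommRingCat.comp_apply, Scheme.Hom.naturality]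
      rfl
    refine h1.trans ?_
    simp only [← hσ, Scheme.Hom.comp_appLE, CommRingCat.comp_apply]
    rw [ha, map_zero]
  refine TopCat.Presheaf.section_ext (pullback f T.hom).sheaf O.1 a 0 fun z hz => ?_
  rw [map_zero]
  obtain ⟨V', hV', hzV', -⟩ := exists_isAffineOpen_mem_and_subset
    (U := ⊤) (x := pullback.snd f T.hom z) trivial
  obtain ⟨O₁, hO₁, hzO₁, hO₁le⟩ := exists_isAffineOpen_mem_and_subset
    (U := O.1 ⊓ pullback.snd f T.hom ⁻¹ᵁ V') (x := z) ⟨hz, hzV'⟩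
  let b := (pullback f T.hom).presheaf.map (homOfLE (hO₁le.trans inf_le_left)).op a
  obtain ⟨η, hηt, hη⟩ := exists_genericPt (PicF.XTproj f T) (PicF.XTproj f T z)
  have hηz : η ⤳ z := hη z hηt.symm
  have hηO : η ∈ O₁ := hηz.mem_open O₁.2 hzO₁
  have hηk : η ∈ k.opensRange := by
    let w₀ := (PicF.XTproj f T z)
    have hw : T.hom w₀ ∈ V := hV.range_fromSpec.le
      ⟨Spec.map (CommRingCat.ofHom (algebraMap Γ(S, V) A)) w₀, rfl⟩
    obtain ⟨w, hw, hfw⟩ := hsurj _ hw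
    obtain ⟨z', hz'1, hz'2⟩ := Scheme.Pullback.exists_preimage_pullback (f := f) (g := T.hom) w w₀ hfw
    exact genericPt_mem hη (x := z') (hz'2.trans hηt.symm) (hkW z' (hz'1.symm ▸ hw))
  obtain ⟨c, hc, hηc⟩ := hO₁.exists_basicOpen_le (V := O₁ ⊓ k.opensRange) ⟨η, hηO, hηk⟩ hηO
  have hbc : (pullback f T.hom).presheaf.map (homOfLE ((pullback f T.hom).basicOpen_le c)).op b = 0 := by
    have := hvan _ (((pullback f T.hom).basicOpen_le c).trans (hO₁le.trans inf_le_left))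
      (hc.trans inf_le_right)
    rw [← this]
    simp only [b]
    rw [← CommRingCat.comp_apply]
    exact congrArg (fun m => (ConcreteCategory.hom m) a) (Eq.symm ((pullback f T.hom).presheaf.map_comp (homOfLE (hO₁le.trans inf_le_left)).op (homOfLE ((pullback f T.hom).basicOpen_le c)).op))
  haveI := hO₁.isLocalization_basicOpen c
  obtain ⟨⟨_, n, rfl⟩, hn⟩ := (IsLocalization.map_eq_zero_iff (Submonoid.powers c)
    Γ(pullback f T.hom, (pullback f T.hom).basicOpen c) b).1 hbc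
  let eO : O₁ ≤ pullback.snd f T.hom ⁻¹ᵁ V' := hO₁le.trans inf_le_right
  letI : Algebra Γ(T.left, V') Γ(pullback f T.hom, O₁) := ((pullback.snd f T.hom).appLE V' O₁ eO).hom.toAlgebra
  haveI : Algebra.Smooth Γ(T.left, V') Γ(pullback f T.hom, O₁) :=
    HasRingHomProperty.appLE @Smooth (pullback.snd f T.hom) inferInstance ⟨V', hV'⟩ ⟨O₁, hO₁⟩ eO
  let Q := hO₁.primeIdealOf ⟨η, hηO⟩
  let P := hO₁.primeIdealOf ⟨z, hzO₁⟩
  have hQP : Q.asIdeal ≤ P.asIdeal := by
    refine (PrimeSpectrum.le_iff_specializes _ _).2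
      (hO₁.fromSpec.isOpenEmbedding.isInducing.specializes_iff.1 ?_)
    rw [hO₁.fromSpec_primeIdealOf, hO₁.fromSpec_primeIdealOf]
    exact hηz
  have hover : Q.asIdeal.comap (algebraMap Γ(T.left, V') Γ(pullback f T.hom, O₁)) =
      P.asIdeal.comap (algebraMap Γ(T.left, V') Γ(pullback f T.hom, O₁)) := by
    have key : ∀ q₀ : Spec Γ(pullback f T.hom, O₁),
        hV'.fromSpec (Spec.map ((pullback.snd f T.hom).appLE V' O₁ eO) q₀) =
          pullback.snd f T.hom (hO₁.fromSpec q₀) := fun q₀ => by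
      rw [← Scheme.Hom.comp_apply, IsAffineOpen.SpecMap_appLE_fromSpec _ hV' hO₁ eO, Scheme.Hom.comp_apply]
    refine congrArg PrimeSpectrum.asIdeal (hV'.fromSpec.isOpenEmbedding.injective
      ((key Q).trans (Eq.trans ?_ (key P).symm)))
    rw [hO₁.fromSpec_primeIdealOf, hO₁.fromSpec_primeIdealOf]
    exact hηt
  have hcQ : c ^ n ∉ Q.asIdeal := fun h => by
    have h1 : c ∈ Q.asIdeal := Q.2.mem_of_pow_mem n h
    have h2 : hO₁.fromSpec Q ∈ (pullback f T.hom).basicOpen c := by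
      rw [hO₁.fromSpec_primeIdealOf]; exact hηc
    have h3 : Q ∈ hO₁.fromSpec ⁻¹ᵁ (pullback f T.hom).basicOpen c := h2
    rw [hO₁.fromSpec_preimage_basicOpen] at h3
    exact h3 h1
  obtain ⟨v, hvP, hvb⟩ := Flat55.SmoothFibreInj.exists_notMem_mul_eq_zero (R := Γ(T.left, V'))
    P.asIdeal Q.asIdeal hQP hover (c ^ n) hcQ b hn
  have hzv : z ∈ (pullback f T.hom).basicOpen v := by
    have hz' := hO₁.fromSpec_primeIdealOf ⟨z, hzO₁⟩
    suffices h : hO₁.fromSpec P ∈ (pullback f T.hom).basicOpen v by rwa [hz'] at h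
    show P ∈ hO₁.fromSpec ⁻¹ᵁ (pullback f T.hom).basicOpen v
    rw [hO₁.fromSpec_preimage_basicOpen]
    exact hvP
  let le' := (pullback f T.hom).basicOpen_le v
  have h0 : (pullback f T.hom).presheaf.map (homOfLE le').op b = 0 := by
    have hu : IsUnit ((pullback f T.hom).presheaf.map (homOfLE le').op v) :=
      RingedSpace.isUnit_res_basicOpen _ v
    refine hu.mul_right_eq_zero.1 ?_
    rw [← map_mul, hvb, map_zero]
  have := congrArg ((pullback f T.hom).presheaf.germ _ z hzv) h0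
  rw [map_zero, TopCat.Presheaf.germ_res_apply] at this
  refine Eq.trans ?_ this
  exact (TopCat.Presheaf.germ_res_apply _ _ _ _ _).symm

/-- Weil restriction of a closed subscheme. -/
theorem exists_closed_iso :
    ∃ (T : Scheme.{u}) (t : T ⟶ S), IsClosedImmersion t ∧
      (∀ (S' : Scheme.{u}) (g : S' ⟶ S),
        (∃ g' : S' ⟶ T, g' ≫ t = g) ↔ IsIso (pullback.snd j (pullback.fst f g))) ∧
      (LocallyOfFinitePresentation j → LocallyOfFinitePresentation t) := by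
  let i : Over.mk (j ≫ f) ⟶ Over.mk f := Over.homMk j
  have hloc : ∀ s : S, ∃ (R : CommRingCat.{u}) (b : Spec R ⟶ S) (_ : IsOpenImmersion b),
      s ∈ Set.range b ∧ ∃ J : Ideal R, (LocallyOfFinitePresentation j → J.FG) ∧
        Flat55.ClosedRep.Rep (WeilUnit.Iso' i) b J := fun s => by
    obtain ⟨x, hx, -⟩ := exists_genericPt f s
    obtain ⟨V, hV, W, hW, e, hxV, hsurj, hss⟩ := exists_chart_nhd f x
    exact ⟨Γ(S, V), hV.fromSpec, hV.isOpenImmersion_fromSpec, by rw [hV.range_fromSpec, ← hx]; exact hxV,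
      exists_rep f hV hW e j hsurj hss⟩
  obtain ⟨I, hI, hfp⟩ := Flat55.ClosedRep.exists_closedSubscheme (P := WeilUnit.Iso' i)
    (WeilUnit.iso'_of_hom i) (WeilUnit.iso'_local i)
    fun s => by
      obtain ⟨R, b, hb, hs, J, -, hJ⟩ := hloc s
      exact ⟨R, b, hb, hs, J, hJ⟩
  refine ⟨I.subscheme, I.subschemeι, inferInstance, fun S' g => ?_, fun hj => hfp fun s => ?_⟩
  · show _ ↔ WeilUnit.Iso' i (Over.mk g)
    rw [hI]
    exact ⟨fun ⟨g', hg'⟩ => ⟨Over.homMk g' hg'⟩, fun ⟨h⟩ => ⟨h.left, Over.w h⟩⟩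
  · obtain ⟨R, b, hb, hs, J, hJfg, hJ⟩ := hloc s
    exact ⟨R, b, hb, hs, J, hJfg hj, hJ⟩

end Groth.Agent.Lib.ActSep.WeilGeomIrred
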