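import Groth.Agent.Lib.SectionJ.Ideal
import Groth.Agent.Lib.ActSep.MonoIso
import Groth.Agent.Lib.Flat55.ClosedRep

/-!
The locus where a monomorphism into a smooth group with connected fibres becomes an isomorphism is closed.
-/

universe u

open CategoryTheory CategoryTheory.Limits AlgebraicGeometry MonoidalCategory CartesianMonoidalCategory
open CategoryTheory.MonObj TopologicalSpace Functor.LaxMonoidal
open Groth.Agent.Lib

set_option autoImplicit false
set_option linter.style.haveILetI false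
set_option backward.isDefEq.respectTransparency false
set_option backward.isDefEq.respectTransparency.types false

namespace Groth.Agent.Lib.ActSep.WeilUnit

variable {S : Scheme.{u}}

/-- The base change of `i.left` to the scheme over `S`. -/
def Iso' {X Y : Over S} (i : Y ⟶ X) (T : Over S) : Prop :=
  IsIso (pullback.snd i.left (pullback.fst X.hom T.hom))

theorem iso'_iff {X Y : Over S} (i : Y ⟶ X) {T : Scheme.{u}} (t : T ⟶ S) :
    Iso' i (Over.mk t) ↔ IsIso ((Over.pullback t).map i) := by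
  have sq : IsPullback (pullback.fst Y.hom t) ((Over.pullback t).map i).left i.left (pullback.fst X.hom t) :=
    isPullback_map i t
  show MorphismProperty.isomorphisms Scheme (pullback.snd i.left (pullback.fst X.hom t)) ↔ _
  rw [← sq.isoPullback_inv_snd, (MorphismProperty.isomorphisms Scheme).cancel_left_of_respectsIso]
  exact ⟨fun (h : IsIso _) => by
      haveI : IsIso ((Over.forget T).map ((Over.pullback t).map i)) := h
      exact isIso_of_reflects_iso _ (Over.forget T),
    fun h => ((Over.forget T).mapIso (asIso ((Over.pullback t).map i))).isIso_hom⟩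

theorem iso'_of_hom {X Y : Over S} (i : Y ⟶ X) ⦃T T₀ : Over S⦄ (g : T ⟶ T₀) (h : Iso' i T₀) :
    Iso' i T :=
  Lim.Descend.prop_of_factor (P := MorphismProperty.isomorphisms Scheme) h
    (pullback.lift (pullback.fst X.hom T.hom) (pullback.snd X.hom T.hom ≫ g.left)
      (by rw [pullback.condition, Category.assoc, Over.w g]))
    (pullback.lift_fst _ _ _) (IsPullback.of_hasPullback _ _)

theorem iso'_local {X Y : Over S} (i : Y ⟶ X) (T : Over S)
    (h : ∀ t : T.left, ∃ (T' : Over S) (g : T' ⟶ T),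
      IsOpenImmersion g.left ∧ t ∈ Set.range g.left ∧ Iso' i T') : Iso' i T := by
  let q := pullback.snd i.left (pullback.fst X.hom T.hom)
  refine IsZariskiLocalAtTarget.of_forall_exists_morphismRestrict (P := MorphismProperty.isomorphisms Scheme)
    (f := q) fun w => ?_
  obtain ⟨T', g, hg, hw, hT'⟩ := h ((pullback.snd X.hom T.hom) w)
  let O := (pullback.snd X.hom T.hom) ⁻¹ᵁ g.left.opensRange
  refine ⟨O, hw, ?_⟩
  have hr : Set.range (O.ι ≫ pullback.snd X.hom T.hom) ⊆ Set.range g.left := by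
    rintro _ ⟨y, rfl⟩
    exact y.2
  exact Lim.Descend.prop_of_factor (P := MorphismProperty.isomorphisms Scheme) hT'
    (pullback.lift (O.ι ≫ pullback.fst X.hom T.hom) (IsOpenImmersion.lift g.left _ hr) (by
      rw [Category.assoc, pullback.condition, ← Over.w g, ← Category.assoc (IsOpenImmersion.lift _ _ _),
        IsOpenImmersion.lift_fac, Category.assoc]))
    (pullback.lift_fst _ _ _)
    ((isPullback_morphismRestrict q O).flip.paste_horiz (IsPullback.of_hasPullback _ _))

variable {X Y : Over S}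

theorem η_bc_fst [GrpObj X] {T : Scheme.{u}} (t : T ⟶ S) :
    (η : 𝟙_ (Over T) ⟶ (Over.pullback t).obj X).left ≫ pullback.fst X.hom t = t ≫ η[X].left := by
  rw [Functor.obj.η_def, Over.comp_left, Category.assoc]
  have h1 : ((Over.pullback t).map η[X]).left ≫ pullback.fst X.hom t =
      pullback.fst (𝟙_ (Over S)).hom t ≫ η[X].left := by simp
  have h2 : (ε (Over.pullback t)).left ≫ pullback.snd (𝟙_ (Over S)).hom t = 𝟙 T :=
    Over.w (ε (Over.pullback t))
  have h3 : pullback.fst (𝟙_ (Over S)).hom t = pullback.snd (𝟙_ (Over S)).hom t ≫ t := by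
    rw [← pullback.condition]; exact (Category.comp_id _).symm
  rw [h1, h3, ← Category.assoc, ← Category.assoc, h2]
  exact congrArg (· ≫ η[X].left) (Category.id_comp t)

/-- Connected fibres are preserved by base change. -/
theorem isConnected_bc [GrpObj X] [LocallyOfFiniteType X.hom]
    (hconn : ∀ s : S, _root_.IsConnected (X.hom ⁻¹' {s})) {T : Scheme.{u}} (t : T ⟶ S) (r : T) :
    _root_.IsConnected (pullback.snd X.hom t ⁻¹' {r}) := by
  let t' := T.fromSpecResidueField r ≫ t
  have : IrreducibleSpace (X ⊗ Over.mk t').left := irreducibleSpace_geomFibre hconn t'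
  let e := pullbackLeftPullbackSndIso X.hom t (T.fromSpecResidueField r)
  let f : pullback X.hom t' ⟶ pullback X.hom t :=
    e.inv ≫ pullback.fst (pullback.snd X.hom t) (T.fromSpecResidueField r)
  have hf : Set.range f = pullback.snd X.hom t ⁻¹' {r} := by
    rw [Scheme.Hom.comp_base, TopCat.coe_comp, Set.range_comp, Set.range_eq_univ.2 e.inv.surjective,
      Set.image_univ, Scheme.Pullback.range_fst, Scheme.range_fromSpecResidueField]
  haveI : ConnectedSpace ↥(pullback X.hom t') :=
    inferInstanceAs (ConnectedSpace (X ⊗ Over.mk t').left)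
  rw [← hf]
  exact isConnected_range f.continuous

/-- The chart of a base change. -/
theorem isPullback_chart {Z : Over S} {D : S.Opens} (hD : IsAffineOpen D) {W : Z.left.Opens}
    (hW : IsAffineOpen W) (e : W ≤ Z.hom ⁻¹ᵁ D) (J : Ideal Γ(S, D)) :
    ∃ j : Spec (CommRingCat.of (Γ(Z.left, W) ⧸ J.map (Z.hom.appLE D W e).hom)) ⟶
        pullback Z.hom (Spec.map (CommRingCat.ofHom (Ideal.Quotient.mk J)) ≫ hD.fromSpec),
      IsOpenImmersion j ∧
      j ≫ pullback.fst _ _ = Spec.map (CommRingCat.ofHom (Ideal.Quotient.mk _)) ≫ hW.fromSpec ∧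
      j ≫ pullback.snd _ _ = Spec.map (CommRingCat.ofHom
        (Ideal.quotientMap (J.map (Z.hom.appLE D W e).hom) (Z.hom.appLE D W e).hom Ideal.le_comap_map)) := by
  have sq := isPullback_SpecMap_of_isPushout _ _ _ _
    (SectionJ.isPushout_quot (Z.hom.appLE D W e).hom J).flip
  have sq' := sq.paste_vert (IsPullback.of_vert_isIso_mono (f := hD.fromSpec)
    (g := Spec.map (CommRingCat.ofHom (Ideal.Quotient.mk J)) ≫ hD.fromSpec)
    (fst := Spec.map (CommRingCat.ofHom (Ideal.Quotient.mk J))) (snd := 𝟙 _)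
    ⟨(Category.id_comp _).symm⟩)
  rw [Category.comp_id, CommRingCat.ofHom_hom, IsAffineOpen.SpecMap_appLE_fromSpec Z.hom hD hW e] at sq'
  let j := pullback.lift (f := Z.hom) (g := Spec.map (CommRingCat.ofHom (Ideal.Quotient.mk J)) ≫ hD.fromSpec)
    (Spec.map (CommRingCat.ofHom (Ideal.Quotient.mk (J.map (Z.hom.appLE D W e).hom))) ≫ hW.fromSpec)
    (Spec.map (CommRingCat.ofHom
      (Ideal.quotientMap (J.map (Z.hom.appLE D W e).hom) (Z.hom.appLE D W e).hom Ideal.le_comap_map)))
    (by rw [Category.assoc, sq'.w])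
  refine ⟨j, ?_, pullback.lift_fst _ _ _, pullback.lift_snd _ _ _⟩
  have : IsPullback (Spec.map (CommRingCat.ofHom (Ideal.Quotient.mk (J.map (Z.hom.appLE D W e).hom)))) j
      hW.fromSpec (pullback.fst Z.hom _) := by
    refine IsPullback.of_bot ?_ (pullback.lift_fst _ _ _).symm (IsPullback.of_hasPullback _ _)
    rw [pullback.lift_snd]
    exact sq'
  exact MorphismProperty.of_isPullback this hW.isOpenImmersion_fromSpec

set_option maxHeartbeats 1600000 in
/-- The local equations. -/
theorem exists_rep [GrpObj X] [GrpObj Y] [Smooth X.hom] [LocallyOfFinitePresentation Y.hom]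
    (hconn : ∀ s : S, _root_.IsConnected (X.hom ⁻¹' {s})) (i : Y ⟶ X) [IsMonHom i] [Mono i] (s : S) :
    ∃ (R : CommRingCat.{u}) (b : Spec R ⟶ S) (_ : IsOpenImmersion b),
      s ∈ Set.range b ∧ ∃ J : Ideal R, J.FG ∧ Flat55.ClosedRep.Rep (Iso' i) b J := by
  haveI hmono : Mono i.left := inferInstanceAs (Mono ((Over.forget S).map i))
  let eX : S ⟶ X.left := η[X].left
  let eY : S ⟶ Y.left := η[Y].left
  have heX : eX ≫ X.hom = 𝟙 S := Over.w η[X]
  have heY : eY ≫ Y.hom = 𝟙 S := Over.w η[Y]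
  have hei : eY ≫ i.left = eX := by
    show η[Y].left ≫ i.left = η[X].left
    rw [← Over.comp_left, IsMonHom.one_hom]
  have hsX : X.hom (eX s) = s := by rw [← Scheme.Hom.comp_apply, heX]; rfl
  obtain ⟨D₁, hD₁, hsD₁, -⟩ := exists_isAffineOpen_mem_and_subset (X := S) (x := s) (U := ⊤) trivial
  obtain ⟨W₀, hW₀, hxW₀, hW₀le⟩ := exists_isAffineOpen_mem_and_subset
    (show eX s ∈ X.hom ⁻¹ᵁ D₁ by show X.hom (eX s) ∈ D₁; rwa [hsX])
  obtain ⟨V₀, hV₀, hyV₀, hV₀le⟩ := exists_isAffineOpen_mem_and_subset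
    (show eY s ∈ i.left ⁻¹ᵁ W₀ by show i.left (eY s) ∈ W₀; rw [← Scheme.Hom.comp_apply, hei]; exact hxW₀)
  obtain ⟨g, hg, hsg⟩ := hD₁.exists_basicOpen_le (V := eX ⁻¹ᵁ W₀ ⊓ eY ⁻¹ᵁ V₀) ⟨s, hxW₀, hyV₀⟩ hsD₁
  let D := S.basicOpen g
  have hD : IsAffineOpen D := hD₁.basicOpen g
  let W := W₀ ⊓ X.hom ⁻¹ᵁ D
  have hW : IsAffineOpen W := by
    have : X.left.basicOpen (X.hom.appLE D₁ W₀ hW₀le g) = W := Scheme.basicOpen_appLE _ _ _ _ _
    exact this ▸ hW₀.basicOpen _
  have hV₀le' : V₀ ≤ Y.hom ⁻¹ᵁ D₁ := fun y hy => by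
    show Y.hom y ∈ D₁
    rw [← Over.w i, Scheme.Hom.comp_apply]
    exact hW₀le (hV₀le hy)
  let V := V₀ ⊓ Y.hom ⁻¹ᵁ D
  have hV : IsAffineOpen V := by
    have : Y.left.basicOpen (Y.hom.appLE D₁ V₀ hV₀le' g) = V := Scheme.basicOpen_appLE _ _ _ _ _
    exact this ▸ hV₀.basicOpen _
  have eW : W ≤ X.hom ⁻¹ᵁ D := inf_le_right
  have eV : V ≤ Y.hom ⁻¹ᵁ D := inf_le_right
  have eiV : V ≤ i.left ⁻¹ᵁ W := fun y hy => ⟨hV₀le hy.1, by
    show X.hom (i.left y) ∈ D
    rw [← Scheme.Hom.comp_apply, Over.w i]; exact hy.2⟩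
  have eXD : D ≤ eX ⁻¹ᵁ W := fun r hr => ⟨(hg hr).1, by
    show X.hom (eX r) ∈ D
    rw [← Scheme.Hom.comp_apply, heX]; exact hr⟩
  have eYD : D ≤ eY ⁻¹ᵁ V := fun r hr => ⟨(hg hr).2, by
    show Y.hom (eY r) ∈ D
    rw [← Scheme.Hom.comp_apply, heY]; exact hr⟩
  let a : Γ(S, D) ⟶ Γ(X.left, W) := X.hom.appLE D W eW
  let c : Γ(S, D) ⟶ Γ(Y.left, V) := Y.hom.appLE D V eV
  let φc : Γ(X.left, W) ⟶ Γ(Y.left, V) := i.left.appLE W V eiV
  let εa : Γ(X.left, W) ⟶ Γ(S, D) := eX.appLE W D eXD
  let εc : Γ(Y.left, V) ⟶ Γ(S, D) := eY.appLE V D eYD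
  have haφ : a ≫ φc = c := by
    simp only [a, φc, c, Scheme.Hom.appLE_comp_appLE, Over.w i]
  have haε : a ≫ εa = 𝟙 _ := by
    simp only [a, εa, Scheme.Hom.appLE_comp_appLE, heX]
    simp [Scheme.Hom.appLE]
    exact S.presheaf.map_id _
  have hcε : c ≫ εc = 𝟙 _ := by
    simp only [c, εc, Scheme.Hom.appLE_comp_appLE, heY]
    simp [Scheme.Hom.appLE]
    exact S.presheaf.map_id _
  have hφε : φc ≫ εc = εa := by
    simp only [φc, εc, εa, Scheme.Hom.appLE_comp_appLE, hei]
  letI : Algebra Γ(S, D) Γ(X.left, W) := a.hom.toAlgebra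
  letI : Algebra Γ(S, D) Γ(Y.left, V) := c.hom.toAlgebra
  haveI : Algebra.Smooth Γ(S, D) Γ(X.left, W) :=
    HasRingHomProperty.appLE @Smooth X.hom inferInstance ⟨D, hD⟩ ⟨W, hW⟩ eW
  haveI : Algebra.FinitePresentation Γ(S, D) Γ(Y.left, V) :=
    HasRingHomProperty.appLE @LocallyOfFinitePresentation Y.hom inferInstance ⟨D, hD⟩ ⟨V, hV⟩ eV
  let εA : Γ(X.left, W) →ₐ[Γ(S, D)] Γ(S, D) :=
    { εa.hom with commutes' := fun r => RingHom.congr_fun (congrArg CommRingCat.Hom.hom haε) r }
  let εB : Γ(Y.left, V) →ₐ[Γ(S, D)] Γ(S, D) :=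
    { εc.hom with commutes' := fun r => RingHom.congr_fun (congrArg CommRingCat.Hom.hom hcε) r }
  let φ : Γ(X.left, W) →ₐ[Γ(S, D)] Γ(Y.left, V) :=
    { φc.hom with commutes' := fun r => RingHom.congr_fun (congrArg CommRingCat.Hom.hom haφ) r }
  have hcomp : εB.comp φ = εA :=
    AlgHom.ext fun x => RingHom.congr_fun (congrArg CommRingCat.Hom.hom hφε) x
  have hφfrom : Spec.map φc ≫ hW.fromSpec = hV.fromSpec ≫ i.left :=
    IsAffineOpen.SpecMap_appLE_fromSpec i.left hW hV eiV
  haveI : Mono (Spec.map φc) := mono_of_mono_fac hφfrom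
  have hεafrom : Spec.map εa ≫ hW.fromSpec = hD.fromSpec ≫ eX :=
    IsAffineOpen.SpecMap_appLE_fromSpec eX hW hD eXD
  have hεcfrom : Spec.map εc ≫ hV.fromSpec = hD.fromSpec ≫ eY :=
    IsAffineOpen.SpecMap_appLE_fromSpec eY hV hD eYD
  have hP : ∀ x, x - a.hom (εa.hom x) ∈ RingHom.ker εA := fun x => by
    show εa.hom (x - a.hom (εa.hom x)) = 0
    rw [map_sub]
    exact sub_eq_zero.2 (RingHom.congr_fun (congrArg CommRingCat.Hom.hom haε) (εa.hom x)).symm
  have hker : RingHom.ker εB = (RingHom.ker εA).map φ := by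
    refine le_antisymm (fun b hb => ?_) (Ideal.map_le_iff_le_comap.2 fun x hx => ?_)
    · let I := (RingHom.ker εA).map φ
      have e : CommRingCat.ofHom (Ideal.Quotient.mk I) =
          εc ≫ c ≫ CommRingCat.ofHom (Ideal.Quotient.mk I) := by
        refine Spec.map_injective ((cancel_mono (Spec.map φc)).1 ?_)
        rw [← Spec.map_comp, ← Spec.map_comp]
        congr 1
        refine CommRingCat.hom_ext (RingHom.ext fun x => (Ideal.Quotient.eq).2 ?_)
        show φ x - c.hom (εc.hom (φc.hom x)) ∈ I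
        rw [show εc.hom (φc.hom x) = εa.hom x from RingHom.congr_fun (congrArg CommRingCat.Hom.hom hφε) x,
          show c.hom (εa.hom x) = φ (a.hom (εa.hom x)) from
            (RingHom.congr_fun (congrArg CommRingCat.Hom.hom haφ) (εa.hom x)).symm, ← map_sub]
        exact Ideal.mem_map_of_mem φ (hP x)
      have := RingHom.congr_fun (congrArg CommRingCat.Hom.hom e) b
      refine Ideal.Quotient.eq_zero_iff_mem.1 (this.trans ?_)
      show Ideal.Quotient.mk I (c.hom (εc.hom b)) = 0
      rw [show εc.hom b = 0 from hb, map_zero, map_zero]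
    · show εB (φ x) = 0
      rw [← AlgHom.comp_apply, hcomp]
      exact hx
  obtain ⟨J, hJfg, hnec, U₀, hU₀, hU₀flat⟩ := SectionJ.exists_ideal εA εB φ hcomp hker
  refine ⟨Γ(S, D), hD.fromSpec, hD.isOpenImmersion_fromSpec, ?_, J, hJfg, fun A' ψ => ⟨fun hiso => ?_, fun hJ => ?_⟩⟩
  · rw [hD.range_fromSpec]; exact hsg
  · -- necessity
    refine hnec A' ψ.hom fun T _ γ α hα hnil => ?_
    haveI : IsIso (pullback.snd i.left (pullback.fst X.hom (Over.mk (Spec.map ψ ≫ hD.fromSpec)).hom)) := hiso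
    let x : Spec (CommRingCat.of T) ⟶ X.left := Spec.map (CommRingCat.ofHom α) ≫ hW.fromSpec
    have hx : x ≫ X.hom = Spec.map (CommRingCat.ofHom γ) ≫ Spec.map ψ ≫ hD.fromSpec := by
      rw [Category.assoc, ← IsAffineOpen.SpecMap_appLE_fromSpec X.hom hD hW eW, ← Category.assoc,
        ← Category.assoc, ← Spec.map_comp, ← Spec.map_comp]
      congr 2
      exact CommRingCat.hom_ext hα
    let y : Spec (CommRingCat.of T) ⟶ Y.left := pullback.lift x (Spec.map (CommRingCat.ofHom γ)) hx ≫
      inv (pullback.snd i.left (pullback.fst X.hom (Over.mk (Spec.map ψ ≫ hD.fromSpec)).hom)) ≫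
      pullback.fst _ _
    have hy : y ≫ i.left = x := by
      simp only [y, Category.assoc, pullback.condition, IsIso.inv_hom_id_assoc]
      exact pullback.lift_fst _ _ _
    have hrange : Set.range y ⊆ Set.range hV.fromSpec := by
      rintro _ ⟨p, rfl⟩
      let q : PrimeSpectrum Γ(X.left, W) := PrimeSpectrum.comap α p
      have hPq : RingHom.ker εA ≤ q.asIdeal := by
        obtain ⟨n, hn⟩ := hnil
        refine Ideal.map_le_iff_le_comap.1 (show (RingHom.ker εA).map α ≤ p.asIdeal from ?_)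
        exact (inferInstance : p.asIdeal.IsPrime).le_of_pow_le
          (show (RingHom.ker εA).map α ^ n ≤ p.asIdeal by rw [hn]; exact bot_le)
      let r : PrimeSpectrum Γ(S, D) := PrimeSpectrum.comap a.hom q
      have hqr : q = PrimeSpectrum.comap εa.hom r := by
        ext z
        show z ∈ q.asIdeal ↔ a.hom (εa.hom z) ∈ q.asIdeal
        have h0 := hPq (hP z)
        exact ⟨fun hz => by simpa using sub_mem hz h0, fun hz => by simpa using add_mem h0 hz⟩
      have hxp : x p = i.left (eY (hD.fromSpec r)) := by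
        rw [← Scheme.Hom.comp_apply eY, hei, ← Scheme.Hom.comp_apply, ← hεafrom, Scheme.Hom.comp_apply]
        show hW.fromSpec (Spec.map (CommRingCat.ofHom α) p) = _
        exact congrArg _ hqr
      rw [← hy, Scheme.Hom.comp_apply] at hxp
      rw [i.left.injective hxp, hV.range_fromSpec]
      exact eYD (hD.range_fromSpec.le ⟨r, rfl⟩)
    refine ⟨(Spec.preimage (IsOpenImmersion.lift hV.fromSpec y hrange)).hom, ?_⟩
    refine congrArg CommRingCat.Hom.hom (Spec.map_injective ((cancel_mono hW.fromSpec).1 ?_) :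
      φc ≫ Spec.preimage (IsOpenImmersion.lift hV.fromSpec y hrange) = CommRingCat.ofHom α)
    rw [Spec.map_comp, Category.assoc, hφfrom, Spec.map_preimage, IsOpenImmersion.lift_fac_assoc, hy]
  · -- sufficiency
    let t : Spec (CommRingCat.of (Γ(S, D) ⧸ J)) ⟶ S :=
      Spec.map (CommRingCat.ofHom (Ideal.Quotient.mk J)) ≫ hD.fromSpec
    suffices h0 : Iso' i (Over.mk t) by
      have hle : J ≤ RingHom.ker ψ.hom := fun x hx => (Ideal.mem_bot).1 (hJ ▸ Ideal.mem_map_of_mem ψ.hom hx)
      refine iso'_of_hom i (Over.homMk (U := Over.mk (Spec.map ψ ≫ hD.fromSpec)) (V := Over.mk t)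
        (Spec.map (CommRingCat.ofHom (Ideal.Quotient.lift J ψ.hom hle))) ?_) h0
      show Spec.map _ ≫ t = Spec.map ψ ≫ hD.fromSpec
      rw [← Category.assoc, ← Spec.map_comp]
      rfl
    rw [iso'_iff]
    let G := (Over.pullback t).obj X
    let H := (Over.pullback t).obj Y
    letI : GrpObj G := ((Over.pullback t).mapGrp.obj ⟨X⟩).grp
    letI : GrpObj H := ((Over.pullback t).mapGrp.obj ⟨Y⟩).grp
    haveI : Smooth G.hom := inferInstanceAs (Smooth (pullback.snd X.hom t))
    haveI : LocallyOfFinitePresentation H.hom :=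
      inferInstanceAs (LocallyOfFinitePresentation (pullback.snd Y.hom t))
    let i' : H ⟶ G := (Over.pullback t).map i
    haveI : IsMonHom i' := inferInstance
    haveI : Mono i'.left := MorphismProperty.of_isPullback (P := MorphismProperty.monomorphisms Scheme)
      (isPullback_map i t) (MorphismProperty.monomorphisms.infer_property i.left)
    haveI : Mono i' := (Over.forget _).mono_of_mono_map (show Mono i'.left from inferInstance)
    obtain ⟨jX, hjX, hjX1, hjX2⟩ := isPullback_chart hD hW eW J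
    obtain ⟨jY, hjY, hjY1, hjY2⟩ := isPullback_chart hD hV eV J
    let a' := Ideal.quotientMap (J.map a.hom) a.hom Ideal.le_comap_map
    have hJc : (J.map (algebraMap Γ(S, D) Γ(X.left, W))).map φ.toRingHom = J.map c.hom := by
      rw [Ideal.map_map]
      congr 1
      exact congrArg CommRingCat.Hom.hom haφ
    let eq' : Γ(Y.left, V) ⧸ J.map c.hom →+* Γ(Y.left, V) ⧸ (J.map (algebraMap Γ(S, D) Γ(X.left, W))).map φ.toRingHom :=
      (Ideal.quotEquivOfEq hJc.symm).toRingHom
    haveI : IsIso (CommRingCat.ofHom eq') := (Ideal.quotEquivOfEq hJc.symm).toCommRingCatIso.isIso_hom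
    let jY' := Spec.map (CommRingCat.ofHom eq') ≫ jY
    let φ' := Ideal.quotientMap ((J.map (algebraMap Γ(S, D) Γ(X.left, W))).map φ.toRingHom) φ.toRingHom
      Ideal.le_comap_map
    haveI : IsOpenImmersion jY' := inferInstanceAs (IsOpenImmersion (_ ≫ _))
    have hcomm : jY' ≫ i'.left = Spec.map (CommRingCat.ofHom φ') ≫ jX := by
      refine pullback.hom_ext ?_ ?_
      · rw [Category.assoc, Category.assoc, show i'.left ≫ pullback.fst X.hom t = pullback.fst Y.hom t ≫ i.left
          from (isPullback_map i t).w.symm, Category.assoc, reassoc_of% hjY1, hjX1, ← hφfrom,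
          ← Category.assoc, ← Category.assoc, ← Category.assoc, ← Spec.map_comp, ← Spec.map_comp, ← Spec.map_comp]
        rfl
      · rw [Category.assoc, Category.assoc, show i'.left ≫ pullback.snd X.hom t = pullback.snd Y.hom t
          from Over.w i', Category.assoc, hjY2, hjX2, ← Spec.map_comp, ← Spec.map_comp]
        congr 1
        refine CommRingCat.hom_ext (Ideal.Quotient.ringHom_ext (RingHom.ext fun r => ?_))
        exact congrArg (Ideal.Quotient.mk _) (RingHom.congr_fun (congrArg CommRingCat.Hom.hom haφ) r).symm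
    let U := (U₀.ι ≫ jY').opensRange
    have hflat : Flat (U.ι ≫ i'.left) := by
      haveI := hU₀flat
      haveI key : Flat ((U₀.ι ≫ jY') ≫ i'.left) := by
        rw [Category.assoc, hcomm, ← Category.assoc]; infer_instance
      let ε₁ := IsOpenImmersion.isoOfRangeEq U.ι (U₀.ι ≫ jY') (Scheme.Opens.range_ι U)
      have e : ε₁.hom ≫ (U₀.ι ≫ jY') = U.ι := IsOpenImmersion.isoOfRangeEq_hom_fac _ _ _
      rw [← e, Category.assoc]
      exact MorphismProperty.comp_mem @Flat _ _ inferInstance key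
    refine MonoIso.isIso_of_flat_nhd (isConnected_bc hconn t) i' U fun p => ?_
    have hεJ : (J.map (algebraMap Γ(S, D) Γ(X.left, W))).map φ.toRingHom ≤
        RingHom.ker ((Ideal.Quotient.mk J).comp εc.hom) := by
      rw [hJc, Ideal.map_le_iff_le_comap]
      intro r hr
      show Ideal.Quotient.mk J (εc.hom (c.hom r)) = 0
      rw [show εc.hom (c.hom r) = r from RingHom.congr_fun (congrArg CommRingCat.Hom.hom hcε) r]
      exact Ideal.Quotient.eq_zero_iff_mem.2 hr
    let σ := Spec.map (CommRingCat.ofHom (Ideal.Quotient.lift _ _ hεJ)) ≫ jY'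
    have hσ : (η[H] : 𝟙_ (Over _) ⟶ H).left = σ := by
      refine pullback.hom_ext ?_ ?_
      · refine (η_bc_fst (X := Y) t).trans ?_
        simp only [σ, jY', Category.assoc]
        erw [hjY1]
        rw [Category.assoc, ← hεcfrom, ← Category.assoc,
          ← Category.assoc, ← Category.assoc, ← Spec.map_comp, ← Spec.map_comp, ← Spec.map_comp]
        rfl
      · refine (Over.w η[H]).trans ?_
        rw [Category.assoc, Category.assoc, hjY2, ← Spec.map_comp, ← Spec.map_comp]
        refine (Spec.map_id _).symm.trans (congrArg Spec.map ?_)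
        refine CommRingCat.hom_ext (Ideal.Quotient.ringHom_ext (RingHom.ext fun r => ?_))
        show Ideal.Quotient.mk J r = Ideal.Quotient.mk J (εc.hom (c.hom r))
        rw [show εc.hom (c.hom r) = r from RingHom.congr_fun (congrArg CommRingCat.Hom.hom hcε) r]
    rw [hσ, Scheme.Hom.comp_apply]
    refine ⟨⟨Spec.map (CommRingCat.ofHom (Ideal.Quotient.lift _ _ hεJ)) p, hU₀ _ ?_⟩, ?_⟩
    · refine Ideal.map_le_iff_le_comap.2 fun x hx => ?_
      rw [Ideal.mem_comap]
      show (Ideal.Quotient.mk J (εc.hom x)) ∈ p.asIdeal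
      rw [show εc.hom x = 0 from hx, map_zero]
      exact zero_mem _
    · rfl

/-- The locus where a monomorphism of groups into a smooth group with connected fibres is an
isomorphism is a closed subscheme of finite presentation. -/
theorem exists_closed_iso [GrpObj X] [GrpObj Y] [Smooth X.hom] [LocallyOfFinitePresentation Y.hom]
    (hconn : ∀ s : S, _root_.IsConnected (X.hom ⁻¹' {s})) (i : Y ⟶ X) [IsMonHom i] [Mono i] :
    ∃ (T : Scheme.{u}) (t : T ⟶ S), IsClosedImmersion t ∧ LocallyOfFinitePresentation t ∧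
      ∀ (S' : Scheme.{u}) (g : S' ⟶ S),
        (∃ g' : S' ⟶ T, g' ≫ t = g) ↔ IsIso ((Over.pullback g).map i) := by
  obtain ⟨I, hI, hfp⟩ := Flat55.ClosedRep.exists_closedSubscheme (P := Iso' i) (iso'_of_hom i) (iso'_local i)
    fun s => by
      obtain ⟨R, b, hb, hs, J, -, hJ⟩ := exists_rep hconn i s
      exact ⟨R, b, hb, hs, J, hJ⟩
  refine ⟨I.subscheme, I.subschemeι, inferInstance, hfp (exists_rep hconn i), fun S' g => ?_⟩
  rw [← iso'_iff, hI]
  exact ⟨fun ⟨g', hg'⟩ => ⟨Over.homMk g' hg'⟩, fun ⟨h⟩ => ⟨h.left, Over.w h⟩⟩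

end Groth.Agent.Lib.ActSep.WeilUnit
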